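import Mathlib
import Cfsg.Agent.H161.TwoUnip

/-!
# Regular unipotent matrices (helper155)

`RU F m` : `A ∈ SL_m(F)` with `(A - 1)^m = 0`, `(A - 1)^(m-1) ≠ 0`.

* `exists_conj_RU` : two of them are conjugate by `P D`, `P ∈ SL_m`, `D` diagonal with one entry `≠ 1`;
* `inv_mem_RU`, `exists_pow_eq_one`;
* `exists_mul_RU` : every nonscalar matrix of determinant one is a product of two of them;
* `prod_upper_mem_RU`, `prod_lower_mem_RU` : products of the simple transvections.
-/

set_option autoImplicit false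

namespace Cfsg.Agent.H155.TG

open Matrix

variable {F : Type*} [Field F] {m : ℕ}

/-- regular unipotent elements of `SL_m(F)` -/
def RU (F : Type*) [Field F] (m : ℕ) : Set (Matrix.SpecialLinearGroup (Fin m) F) :=
  {A | ((A : Matrix (Fin m) (Fin m) F) - 1) ^ m = 0 ∧ ((A : Matrix (Fin m) (Fin m) F) - 1) ^ (m - 1) ≠ 0}

/-- the Jordan block -/
def jor (F : Type*) [Field F] (m : ℕ) : Matrix (Fin m) (Fin m) F :=
  fun i j => if i = j then 1 else if j.val = i.val + 1 then 1 else 0

theorem det_jor : (jor F m).det = 1 := by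
  rw [det_of_isUpperTriangular]
  · exact Finset.prod_eq_one fun i _ => by simp [jor]
  · intro i j hij
    have h1 : j < i := hij
    unfold jor
    rw [if_neg (ne_of_gt h1), if_neg]
    have : j.val < i.val := h1
    omega

/-- the Jordan block in `GL_m(F)` -/
noncomputable def jorGL (F : Type*) [Field F] (m : ℕ) : GL (Fin m) F :=
  GeneralLinearGroup.mkOfDetNeZero (jor F m) (by rw [det_jor]; exact one_ne_zero)

theorem coe_jorGL : ((jorGL F m : GL (Fin m) F) : Matrix (Fin m) (Fin m) F) = jor F m := rfl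

/-- powers of a strictly upper triangular matrix -/
theorem pow_upper {N : Matrix (Fin m) (Fin m) F} (hN : ∀ i j : Fin m, j ≤ i → N i j = 0) (k : ℕ) :
    (∀ i j : Fin m, j.val < i.val + k → (N ^ k) i j = 0) ∧
      ((∀ i j : Fin m, j.val = i.val + 1 → N i j ≠ 0) → ∀ i j : Fin m, j.val = i.val + k → (N ^ k) i j ≠ 0) := by
  induction k with
  | zero =>
    refine ⟨fun i j hij => ?_, fun _ i j hij => ?_⟩
    · rw [pow_zero, one_apply_ne]
      rintro rfl
      omega
    · have : i = j := Fin.ext (by omega)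
      subst this
      rw [pow_zero, one_apply_eq]
      exact one_ne_zero
  | succ k ih =>
    have key : ∀ i j : Fin m, j.val ≤ i.val + (k + 1) → ∀ l : Fin m, l.val ≠ i.val + k →
        (N ^ k) i l * N l j = 0 := by
      intro i j hij l hl
      by_cases h1 : l.val < i.val + k
      · rw [ih.1 i l h1, zero_mul]
      · rw [hN l j (by rw [Fin.le_def]; omega), mul_zero]
    refine ⟨fun i j hij => ?_, fun hs i j hij => ?_⟩
    · rw [pow_succ, mul_apply]
      refine Finset.sum_eq_zero fun l _ => ?_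
      by_cases hl : l.val = i.val + k
      · rw [hN l j (by rw [Fin.le_def]; omega), mul_zero]
      · exact key i j (by omega) l hl
    · have hl : i.val + k < m := by have := j.2; omega
      rw [pow_succ, mul_apply, Finset.sum_eq_single (⟨i.val + k, hl⟩ : Fin m)]
      · exact mul_ne_zero (ih.2 hs i _ rfl) (hs _ _ (by simp; omega))
      · intro l _ hne
        exact key i j (by omega) l fun h1 => hne (Fin.ext h1)
      · intro h1
        exact absurd (Finset.mem_univ _) h1

theorem pow_upper_zero {N : Matrix (Fin m) (Fin m) F} (hN : ∀ i j : Fin m, j ≤ i → N i j = 0) : N ^ m = 0 := by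
  ext i j
  exact (pow_upper hN m).1 i j (by have := j.2; omega)

theorem pow_upper_ne (hm : 1 ≤ m) {N : Matrix (Fin m) (Fin m) F} (hN : ∀ i j : Fin m, j ≤ i → N i j = 0)
    (hs : ∀ i j : Fin m, j.val = i.val + 1 → N i j ≠ 0) : N ^ (m - 1) ≠ 0 := by
  intro h1
  have h2 := (pow_upper hN (m - 1)).2 hs ⟨0, by omega⟩ ⟨m - 1, by omega⟩ (by simp)
  exact h2 (by rw [h1]; rfl)

/-- an upper unitriangular matrix with nonzero superdiagonal is regular unipotent -/
theorem upper_mem_RU (hm : 1 ≤ m) {A : Matrix.SpecialLinearGroup (Fin m) F} (h0 : ∀ i j : Fin m, j < i → A i j = 0)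
    (h1 : ∀ i : Fin m, A i i = 1) (h2 : ∀ i j : Fin m, j.val = i.val + 1 → A i j ≠ 0) : A ∈ RU F m := by
  have hN : ∀ i j : Fin m, j ≤ i → ((A : Matrix (Fin m) (Fin m) F) - 1) i j = 0 := by
    intro i j hij
    rcases eq_or_lt_of_le hij with rfl | hij
    · rw [Matrix.sub_apply, one_apply_eq]
      exact sub_eq_zero.2 (h1 j)
    · rw [Matrix.sub_apply, one_apply_ne (ne_of_gt hij), sub_zero]
      exact h0 i j hij
  refine ⟨pow_upper_zero hN, pow_upper_ne hm hN fun i j hij => ?_⟩
  have hne : i ≠ j := by rintro rfl; omega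
  rw [Matrix.sub_apply, one_apply_ne hne, sub_zero]
  exact h2 i j hij

/-- a lower unitriangular matrix with nonzero subdiagonal is regular unipotent -/
theorem lower_mem_RU (hm : 1 ≤ m) {A : Matrix.SpecialLinearGroup (Fin m) F} (h0 : ∀ i j : Fin m, i < j → A i j = 0)
    (h1 : ∀ i : Fin m, A i i = 1) (h2 : ∀ i j : Fin m, j.val = i.val + 1 → A j i ≠ 0) : A ∈ RU F m := by
  have hN : ∀ i j : Fin m, j ≤ i → ((A : Matrix (Fin m) (Fin m) F) - 1)ᵀ i j = 0 := by
    intro i j hij
    rw [transpose_apply]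
    rcases eq_or_lt_of_le hij with rfl | hij
    · rw [Matrix.sub_apply, one_apply_eq]
      exact sub_eq_zero.2 (h1 j)
    · rw [Matrix.sub_apply, one_apply_ne (ne_of_lt hij), sub_zero]
      exact h0 j i hij
  constructor
  · have := pow_upper_zero hN
    rw [← transpose_pow] at this
    exact transpose_eq_zero.1 this
  · have h3 := pow_upper_ne hm hN fun i j hij => ?_
    · rw [← transpose_pow] at h3
      intro h4
      exact h3 (by rw [h4, transpose_zero])
    · have hne : j ≠ i := by rintro rfl; omega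
      rw [transpose_apply, Matrix.sub_apply, one_apply_ne hne, sub_zero]
      exact h2 i j hij

theorem exists_gl {A : Matrix.SpecialLinearGroup (Fin m) F} (hA : A ∈ RU F m) :
    ∃ P : GL (Fin m) F, (A : GL (Fin m) F) = P * jorGL F m * P⁻¹ := by
  have hN : (Matrix.toLin' ((A : Matrix (Fin m) (Fin m) F) - 1)) ^ m = 0 := by
    rw [← Matrix.toLin'_pow, hA.1, map_zero]
  have hN' : (Matrix.toLin' ((A : Matrix (Fin m) (Fin m) F) - 1)) ^ (m - 1) ≠ 0 := by
    rw [← Matrix.toLin'_pow]
    intro h1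
    exact hA.2 (Matrix.toLin'.map_eq_zero_iff.1 h1)
  obtain ⟨w, hw⟩ : ∃ w, ((Matrix.toLin' ((A : Matrix (Fin m) (Fin m) F) - 1)) ^ (m - 1)) w ≠ 0 := by
    by_contra hcon
    push Not at hcon
    exact hN' (LinearMap.ext hcon)
  refine Cfsg.Agent.H161.Jordan.exists_conj (jorGL F m) (fun i j => rfl) _ hN w hw (A : GL (Fin m) F) fun v => ?_
  rw [Matrix.toLin'_apply, sub_mulVec, one_mulVec]
  simp

/-- conjugates of regular unipotent elements -/
theorem conj_mem_RU {A B : Matrix.SpecialLinearGroup (Fin m) F} (hA : A ∈ RU F m) (P : GL (Fin m) F)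
    (h : (B : GL (Fin m) F) = P * (A : GL (Fin m) F) * P⁻¹) : B ∈ RU F m := by
  have hP : (P : Matrix (Fin m) (Fin m) F) * ((P⁻¹ : GL (Fin m) F) : Matrix (Fin m) (Fin m) F) = 1 := by
    rw [← Units.val_mul, mul_inv_cancel]; rfl
  have hP' : ((P⁻¹ : GL (Fin m) F) : Matrix (Fin m) (Fin m) F) * (P : Matrix (Fin m) (Fin m) F) = 1 := by
    rw [← Units.val_mul, inv_mul_cancel]; rfl
  have e : (B : Matrix (Fin m) (Fin m) F) - 1 =
      (P : Matrix (Fin m) (Fin m) F) * ((A : Matrix (Fin m) (Fin m) F) - 1) *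
        ((P⁻¹ : GL (Fin m) F) : Matrix (Fin m) (Fin m) F) := by
    have h1 := congrArg (fun g : GL (Fin m) F => (g : Matrix (Fin m) (Fin m) F)) h
    simp only [Units.val_mul] at h1
    have h2 : (B : Matrix (Fin m) (Fin m) F) = (P : Matrix (Fin m) (Fin m) F) * (A : Matrix (Fin m) (Fin m) F) *
        ((P⁻¹ : GL (Fin m) F) : Matrix (Fin m) (Fin m) F) := h1
    rw [h2, mul_sub, sub_mul, mul_one, hP]
  have hpow : ∀ k : ℕ, ((B : Matrix (Fin m) (Fin m) F) - 1) ^ k =
      (P : Matrix (Fin m) (Fin m) F) * ((A : Matrix (Fin m) (Fin m) F) - 1) ^ k *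
        ((P⁻¹ : GL (Fin m) F) : Matrix (Fin m) (Fin m) F) := by
    intro k
    induction k with
    | zero => rw [pow_zero, pow_zero, mul_one, hP]
    | succ k ih =>
      rw [pow_succ, ih, e, pow_succ]
      calc (P : Matrix (Fin m) (Fin m) F) * ((A : Matrix (Fin m) (Fin m) F) - 1) ^ k *
          ((P⁻¹ : GL (Fin m) F) : Matrix (Fin m) (Fin m) F) * ((P : Matrix (Fin m) (Fin m) F) *
            ((A : Matrix (Fin m) (Fin m) F) - 1) * ((P⁻¹ : GL (Fin m) F) : Matrix (Fin m) (Fin m) F)) =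
          (P : Matrix (Fin m) (Fin m) F) * ((A : Matrix (Fin m) (Fin m) F) - 1) ^ k *
          (((P⁻¹ : GL (Fin m) F) : Matrix (Fin m) (Fin m) F) * (P : Matrix (Fin m) (Fin m) F)) *
            ((A : Matrix (Fin m) (Fin m) F) - 1) * ((P⁻¹ : GL (Fin m) F) : Matrix (Fin m) (Fin m) F) := by
              simp only [mul_assoc]
        _ = _ := by rw [hP', mul_one]; simp only [mul_assoc]
  constructor
  · rw [hpow, hA.1, mul_zero, zero_mul]
  · intro h1
    apply hA.2
    rw [hpow] at h1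
    have h2 := congrArg (fun M => ((P⁻¹ : GL (Fin m) F) : Matrix (Fin m) (Fin m) F) * M *
      (P : Matrix (Fin m) (Fin m) F)) h1
    simp only [mul_zero, zero_mul] at h2
    rw [← h2]
    calc ((A : Matrix (Fin m) (Fin m) F) - 1) ^ (m - 1) =
        (((P⁻¹ : GL (Fin m) F) : Matrix (Fin m) (Fin m) F) * (P : Matrix (Fin m) (Fin m) F)) *
          ((A : Matrix (Fin m) (Fin m) F) - 1) ^ (m - 1) *
          (((P⁻¹ : GL (Fin m) F) : Matrix (Fin m) (Fin m) F) * (P : Matrix (Fin m) (Fin m) F)) := by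
          rw [hP', one_mul, mul_one]
      _ = _ := by simp only [mul_assoc]

/-- the diagonal matrix with entries `δ, 1, ..., 1` -/
def dgl (m : ℕ) (δ : Fˣ) : GL (Fin m) F where
  val := diagonal fun i => if i.val = 0 then (δ : F) else 1
  inv := diagonal fun i => if i.val = 0 then ((δ⁻¹ : Fˣ) : F) else 1
  val_inv := by
    rw [diagonal_mul_diagonal, ← diagonal_one]
    congr 1
    ext i
    split_ifs <;> simp
  inv_val := by
    rw [diagonal_mul_diagonal, ← diagonal_one]
    congr 1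
    ext i
    split_ifs <;> simp

theorem det_dgl (hm : 1 ≤ m) (δ : Fˣ) : (dgl m δ : Matrix (Fin m) (Fin m) F).det = δ := by
  change (diagonal _).det = _
  rw [det_diagonal, Finset.prod_eq_single (⟨0, by omega⟩ : Fin m)]
  · simp
  · intro i _ hi
    rw [if_neg fun h => hi (Fin.ext h)]
  · intro h; exact absurd (Finset.mem_univ _) h

/-- **Regular unipotent elements are conjugate in `GL_m(F)`.** -/
theorem exists_conj_RU (hm : 1 ≤ m) {A B : Matrix.SpecialLinearGroup (Fin m) F} (hA : A ∈ RU F m) (hB : B ∈ RU F m) :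
    ∃ (P : Matrix.SpecialLinearGroup (Fin m) F) (δ : Fˣ) (C : Matrix.SpecialLinearGroup (Fin m) F),
      (C : GL (Fin m) F) = dgl m δ * (A : GL (Fin m) F) * (dgl m δ)⁻¹ ∧ B = P * C * P⁻¹ := by
  obtain ⟨P, hP⟩ := exists_gl hA
  obtain ⟨Q, hQ⟩ := exists_gl hB
  obtain ⟨g, hg⟩ : ∃ g : GL (Fin m) F, g = Q * P⁻¹ := ⟨_, rfl⟩
  have hBA : (B : GL (Fin m) F) = g * (A : GL (Fin m) F) * g⁻¹ := by
    rw [hQ, hg, hP]; group
  obtain ⟨δ, hδ⟩ : ∃ δ : Fˣ, δ = GeneralLinearGroup.det g := ⟨_, rfl⟩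
  have hdet1 : GeneralLinearGroup.det (g * (dgl m δ)⁻¹) = 1 := by
    rw [map_mul, map_inv, ← hδ]
    have : GeneralLinearGroup.det (dgl m δ) = δ := Units.ext (det_dgl hm δ)
    rw [this, mul_inv_cancel]
  obtain ⟨P', hP'⟩ : ∃ P' : Matrix.SpecialLinearGroup (Fin m) F, (P' : GL (Fin m) F) = g * (dgl m δ)⁻¹ :=
    ⟨⟨((g * (dgl m δ)⁻¹ : GL (Fin m) F) : Matrix (Fin m) (Fin m) F), congrArg Units.val hdet1⟩, Units.ext rfl⟩
  obtain ⟨C, hC⟩ : ∃ C : Matrix.SpecialLinearGroup (Fin m) F,
      (C : GL (Fin m) F) = dgl m δ * (A : GL (Fin m) F) * (dgl m δ)⁻¹ := by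
    have h1 : GeneralLinearGroup.det (dgl m δ * (A : GL (Fin m) F) * (dgl m δ)⁻¹) = 1 := by
      rw [map_mul, map_mul, map_inv, mul_inv_eq_iff_eq_mul, one_mul]
      have : GeneralLinearGroup.det (A : GL (Fin m) F) = 1 := Units.ext A.2
      rw [this, mul_one]
    exact ⟨⟨((dgl m δ * (A : GL (Fin m) F) * (dgl m δ)⁻¹ : GL (Fin m) F) : Matrix (Fin m) (Fin m) F),
      congrArg Units.val h1⟩, Units.ext rfl⟩
  refine ⟨P', δ, C, hC, ?_⟩
  have hinj : Function.Injective (fun A : Matrix.SpecialLinearGroup (Fin m) F => (A : GL (Fin m) F)) := by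
    intro A B h
    exact Subtype.ext (congrArg Units.val h)
  apply hinj
  simp only
  have e : ((P' * C * P'⁻¹ : Matrix.SpecialLinearGroup (Fin m) F) : GL (Fin m) F) =
      (P' : GL (Fin m) F) * (C : GL (Fin m) F) * (P' : GL (Fin m) F)⁻¹ := by
    rw [map_mul, map_mul, map_inv]
  rw [e, hP', hC, hBA]
  group

theorem inv_mem_RU {A : Matrix.SpecialLinearGroup (Fin m) F} (hA : A ∈ RU F m) : A⁻¹ ∈ RU F m := by
  have h1 : (A : Matrix (Fin m) (Fin m) F) * ((A⁻¹ : Matrix.SpecialLinearGroup (Fin m) F) : Matrix (Fin m) (Fin m) F) = 1 := by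
    rw [← Matrix.SpecialLinearGroup.coe_mul, mul_inv_cancel]; rfl
  have h2 : ((A⁻¹ : Matrix.SpecialLinearGroup (Fin m) F) : Matrix (Fin m) (Fin m) F) * (A : Matrix (Fin m) (Fin m) F) = 1 := by
    rw [← Matrix.SpecialLinearGroup.coe_mul, inv_mul_cancel]; rfl
  obtain ⟨B, hB⟩ : ∃ B : Matrix (Fin m) (Fin m) F,
    B = ((A⁻¹ : Matrix.SpecialLinearGroup (Fin m) F) : Matrix (Fin m) (Fin m) F) := ⟨_, rfl⟩
  rw [← hB] at h1 h2
  have e : B - 1 = (-B) * ((A : Matrix (Fin m) (Fin m) F) - 1) := by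
    rw [mul_sub, mul_one, neg_mul, h2]; abel
  have hc : Commute (-B) ((A : Matrix (Fin m) (Fin m) F) - 1) := by
    unfold Commute SemiconjBy
    rw [mul_sub, sub_mul, neg_mul, mul_neg, h1, h2, one_mul, mul_one]
  have hp : ∀ k : ℕ, (B - 1) ^ k = (-B) ^ k * ((A : Matrix (Fin m) (Fin m) F) - 1) ^ k := by
    intro k
    rw [e, hc.mul_pow]
  refine ⟨?_, ?_⟩
  · rw [← hB, hp, hA.1, mul_zero]
  · rw [← hB, hp]
    intro h3
    apply hA.2
    have hc2 : Commute (-(A : Matrix (Fin m) (Fin m) F)) (-B) := by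
      unfold Commute SemiconjBy
      rw [neg_mul_neg, neg_mul_neg, h1, h2]
    have h4 : (-(A : Matrix (Fin m) (Fin m) F)) ^ (m - 1) * (-B) ^ (m - 1) = 1 := by
      rw [← hc2.mul_pow, neg_mul_neg, h1, one_pow]
    calc ((A : Matrix (Fin m) (Fin m) F) - 1) ^ (m - 1) =
        (-(A : Matrix (Fin m) (Fin m) F)) ^ (m - 1) * (-B) ^ (m - 1) * ((A : Matrix (Fin m) (Fin m) F) - 1) ^ (m - 1) := by
          rw [h4, one_mul]
      _ = 0 := by rw [mul_assoc, h3, mul_zero]

theorem exists_pow_eq_one {p : ℕ} [Fact p.Prime] [CharP F p] {A : Matrix.SpecialLinearGroup (Fin m) F} (hA : A ∈ RU F m) :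
    ∃ k : ℕ, A ^ p ^ k = 1 := by
  have hk : ∃ k : ℕ, m ≤ p ^ k := ⟨m, (Nat.lt_pow_self (Fact.out : p.Prime).one_lt).le⟩
  obtain ⟨k, hk⟩ := hk
  refine ⟨k, ?_⟩
  apply Subtype.ext
  rw [Matrix.SpecialLinearGroup.coe_pow, Matrix.SpecialLinearGroup.coe_one]
  rcases Nat.eq_zero_or_pos m with rfl | hm
  · exact Subsingleton.elim _ _
  have : Nonempty (Fin m) := ⟨⟨0, hm⟩⟩
  have h1 : ((A : Matrix (Fin m) (Fin m) F) - 1) ^ p ^ k = 0 := by
    obtain ⟨j, hj⟩ := Nat.exists_eq_add_of_le hk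
    rw [hj, pow_add, hA.1, zero_mul]
  rw [sub_pow_char_pow_of_commute p k (Commute.one_right _), one_pow, sub_eq_zero] at h1
  exact h1

theorem jor_mem : ∃ A : Matrix.SpecialLinearGroup (Fin m) F, (A : GL (Fin m) F) = jorGL F m ∧ (1 ≤ m → A ∈ RU F m) := by
  refine ⟨⟨jor F m, det_jor⟩, Units.ext rfl, fun hm => upper_mem_RU hm ?_ ?_ ?_⟩
  · intro i j hij
    show jor F m i j = 0
    unfold jor
    rw [if_neg (ne_of_gt hij), if_neg]
    have : j.val < i.val := hij
    omega
  · intro i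
    show jor F m i i = 1
    simp [jor]
  · intro i j hij
    show jor F m i j ≠ 0
    unfold jor
    rw [if_neg (by rintro rfl; omega), if_pos hij]
    exact one_ne_zero

/-- **Every nonscalar matrix of determinant one is a product of two regular unipotent matrices.** -/
theorem exists_mul_RU [Finite F] (hF : 9 ≤ Nat.card F) (hm : 2 ≤ m) {A : Matrix.SpecialLinearGroup (Fin m) F}
    (hA : ¬ ∃ c : F, (A : Matrix (Fin m) (Fin m) F) = c • (1 : Matrix (Fin m) (Fin m) F)) :
    ∃ B ∈ RU F m, ∃ C ∈ RU F m, A = B * C := by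
  obtain ⟨k, rfl⟩ : ∃ k, m = k + 2 := ⟨m - 2, by omega⟩
  have hK : (4 : Cardinal) ≤ Cardinal.mk F := by
    rw [← Nat.cast_card]
    exact_mod_cast le_trans (by norm_num : 4 ≤ 9) hF
  obtain ⟨x, y, e⟩ := Cfsg.Agent.H161.TwoUnip.main hK k (jorGL F (k + 2)) (A : GL (Fin (k + 2)) F)
    (fun i j => rfl) hA A.2
  obtain ⟨J, hJ, hJ'⟩ := jor_mem (F := F) (m := k + 2)
  have hmem := hJ' (by omega)
  have hex : ∀ g : GL (Fin (k + 2)) F, ∃ B : Matrix.SpecialLinearGroup (Fin (k + 2)) F,
      (B : GL (Fin (k + 2)) F) = g * jorGL F (k + 2) * g⁻¹ := by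
    intro g
    have h1 : GeneralLinearGroup.det (g * jorGL F (k + 2) * g⁻¹) = 1 := by
      rw [map_mul, map_mul, map_inv, mul_inv_eq_iff_eq_mul, one_mul]
      have : GeneralLinearGroup.det (jorGL F (k + 2)) = 1 := Units.ext det_jor
      rw [this, mul_one]
    exact ⟨⟨((g * jorGL F (k + 2) * g⁻¹ : GL (Fin (k + 2)) F) : Matrix (Fin (k + 2)) (Fin (k + 2)) F),
      congrArg Units.val h1⟩, Units.ext rfl⟩
  obtain ⟨B, hB⟩ := hex x
  obtain ⟨C, hC⟩ := hex y
  refine ⟨B, conj_mem_RU hmem x (by rw [hB, hJ]), C, conj_mem_RU hmem y (by rw [hC, hJ]), ?_⟩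
  have hinj : Function.Injective (fun A : Matrix.SpecialLinearGroup (Fin (k + 2)) F => (A : GL (Fin (k + 2)) F)) := by
    intro A B h
    exact Subtype.ext (congrArg Units.val h)
  apply hinj
  simp only
  rw [map_mul, hB, hC]
  exact e

/-! ### Products of simple transvections -/

/-- the simple transvections `1 + c E_{i,i+1}` -/
def up1 {k : ℕ} (i : Fin k) (c : F) : Matrix.SpecialLinearGroup (Fin (k + 1)) F :=
  Matrix.SpecialLinearGroup.transvection (Fin.castSucc_lt_succ (i := i)).ne c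

/-- the simple transvections `1 + c E_{i+1,i}` -/
def lo1 {k : ℕ} (i : Fin k) (c : F) : Matrix.SpecialLinearGroup (Fin (k + 1)) F :=
  Matrix.SpecialLinearGroup.transvection (Fin.castSucc_lt_succ (i := i)).ne' c

theorem coe_up1 {k : ℕ} (i : Fin k) (c : F) :
    (up1 i c : Matrix (Fin (k + 1)) (Fin (k + 1)) F) = 1 + single i.castSucc i.succ c := rfl

theorem coe_lo1 {k : ℕ} (i : Fin k) (c : F) :
    (lo1 i c : Matrix (Fin (k + 1)) (Fin (k + 1)) F) = 1 + single i.succ i.castSucc c := rfl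

theorem prod_upper {k : ℕ} (c : Fin k → F) (L : List (Fin k)) :
    (∀ i j : Fin (k + 1), j < i → ((L.map fun l => up1 l (c l)).prod : Matrix.SpecialLinearGroup (Fin (k + 1)) F) i j = 0) ∧
    (∀ i : Fin (k + 1), ((L.map fun l => up1 l (c l)).prod : Matrix.SpecialLinearGroup (Fin (k + 1)) F) i i = 1) ∧
    (∀ i : Fin k, ((L.map fun l => up1 l (c l)).prod : Matrix.SpecialLinearGroup (Fin (k + 1)) F) i.castSucc i.succ =
      (L.map fun l => if l = i then c l else 0).sum) := by
  induction L with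
  | nil =>
    refine ⟨fun i j hij => ?_, fun i => ?_, fun i => ?_⟩
    · exact one_apply_ne (ne_of_gt hij)
    · exact one_apply_eq i
    · exact one_apply_ne (Fin.castSucc_lt_succ (i := i)).ne
  | cons l L ih =>
    obtain ⟨h1, h2, h3⟩ := ih
    have e : ∀ i j : Fin (k + 1), (((l :: L).map fun l => up1 l (c l)).prod :
        Matrix.SpecialLinearGroup (Fin (k + 1)) F) i j =
        ((L.map fun l => up1 l (c l)).prod : Matrix.SpecialLinearGroup (Fin (k + 1)) F) i j +
        (if i = l.castSucc then c l * ((L.map fun l => up1 l (c l)).prod :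
          Matrix.SpecialLinearGroup (Fin (k + 1)) F) l.succ j else 0) := by
      intro i j
      rw [List.map_cons, List.prod_cons]
      change (((up1 l (c l) : Matrix.SpecialLinearGroup (Fin (k + 1)) F) : Matrix (Fin (k + 1)) (Fin (k + 1)) F) *
        (((L.map fun l => up1 l (c l)).prod : Matrix.SpecialLinearGroup (Fin (k + 1)) F) :
          Matrix (Fin (k + 1)) (Fin (k + 1)) F)) i j = _
      rw [coe_up1, add_mul, one_mul, Matrix.add_apply]
      congr 1
      by_cases hi : i = l.castSucc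
      · subst hi
        rw [if_pos rfl, single_mul_apply_same]
      · rw [if_neg hi, single_mul_apply_of_ne _ _ _ _ _ hi]
    refine ⟨fun i j hij => ?_, fun i => ?_, fun i => ?_⟩
    · rw [e, h1 i j hij, zero_add]
      by_cases hi : i = l.castSucc
      · rw [if_pos hi, h1 l.succ j, mul_zero]
        rw [hi] at hij
        exact hij.trans (Fin.castSucc_lt_succ (i := l))
      · rw [if_neg hi]
    · rw [e, h2 i]
      by_cases hi : i = l.castSucc
      · rw [if_pos hi, h1 l.succ i, mul_zero, add_zero]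
        rw [hi]
        exact Fin.castSucc_lt_succ (i := l)
      · rw [if_neg hi, add_zero]
    · rw [e, h3 i, List.map_cons, List.sum_cons, add_comm]
      congr 1
      by_cases hi : l = i
      · subst hi
        rw [if_pos rfl, if_pos rfl, h2, mul_one]
      · rw [if_neg, if_neg hi]
        intro h4
        exact hi (Fin.castSucc_injective _ h4).symm

theorem prod_lower {k : ℕ} (c : Fin k → F) (L : List (Fin k)) :
    (∀ i j : Fin (k + 1), i < j → ((L.map fun l => lo1 l (c l)).prod : Matrix.SpecialLinearGroup (Fin (k + 1)) F) i j = 0) ∧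
    (∀ i : Fin (k + 1), ((L.map fun l => lo1 l (c l)).prod : Matrix.SpecialLinearGroup (Fin (k + 1)) F) i i = 1) ∧
    (∀ i : Fin k, ((L.map fun l => lo1 l (c l)).prod : Matrix.SpecialLinearGroup (Fin (k + 1)) F) i.succ i.castSucc =
      (L.map fun l => if l = i then c l else 0).sum) := by
  induction L with
  | nil =>
    refine ⟨fun i j hij => ?_, fun i => ?_, fun i => ?_⟩
    · exact one_apply_ne (ne_of_lt hij)
    · exact one_apply_eq i
    · exact one_apply_ne (Fin.castSucc_lt_succ (i := i)).ne'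
  | cons l L ih =>
    obtain ⟨h1, h2, h3⟩ := ih
    have e : ∀ i j : Fin (k + 1), (((l :: L).map fun l => lo1 l (c l)).prod :
        Matrix.SpecialLinearGroup (Fin (k + 1)) F) i j =
        ((L.map fun l => lo1 l (c l)).prod : Matrix.SpecialLinearGroup (Fin (k + 1)) F) i j +
        (if i = l.succ then c l * ((L.map fun l => lo1 l (c l)).prod :
          Matrix.SpecialLinearGroup (Fin (k + 1)) F) l.castSucc j else 0) := by
      intro i j
      rw [List.map_cons, List.prod_cons]
      change (((lo1 l (c l) : Matrix.SpecialLinearGroup (Fin (k + 1)) F) : Matrix (Fin (k + 1)) (Fin (k + 1)) F) *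
        (((L.map fun l => lo1 l (c l)).prod : Matrix.SpecialLinearGroup (Fin (k + 1)) F) :
          Matrix (Fin (k + 1)) (Fin (k + 1)) F)) i j = _
      rw [coe_lo1, add_mul, one_mul, Matrix.add_apply]
      congr 1
      by_cases hi : i = l.succ
      · subst hi
        rw [if_pos rfl, single_mul_apply_same]
      · rw [if_neg hi, single_mul_apply_of_ne _ _ _ _ _ hi]
    refine ⟨fun i j hij => ?_, fun i => ?_, fun i => ?_⟩
    · rw [e, h1 i j hij, zero_add]
      by_cases hi : i = l.succ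
      · rw [if_pos hi, h1 l.castSucc j, mul_zero]
        rw [hi] at hij
        exact (Fin.castSucc_lt_succ (i := l)).trans hij
      · rw [if_neg hi]
    · rw [e, h2 i]
      by_cases hi : i = l.succ
      · rw [if_pos hi, h1 l.castSucc i, mul_zero, add_zero]
        rw [hi]
        exact Fin.castSucc_lt_succ (i := l)
      · rw [if_neg hi, add_zero]
    · rw [e, h3 i, List.map_cons, List.sum_cons, add_comm]
      congr 1
      by_cases hi : l = i
      · subst hi
        rw [if_pos rfl, if_pos rfl, h2, mul_one]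
      · rw [if_neg, if_neg hi]
        intro h4
        exact hi (Fin.succ_injective _ h4).symm

theorem sum_finRange {k : ℕ} (c : Fin k → F) (i : Fin k) :
    ((List.finRange k).map fun l => if l = i then c l else 0).sum = c i := by
  have h1 : ((List.finRange k).map fun l => if l = i then c l else 0).sum =
      ∑ l : Fin k, if l = i then c l else 0 := by
    rw [← List.ofFn_eq_map, List.sum_ofFn]
  rw [h1, Finset.sum_ite_eq' Finset.univ i c, if_pos (Finset.mem_univ i)]

theorem prod_upper_mem_RU {k : ℕ} {c : Fin k → F} (hc : ∀ i, c i ≠ 0) :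
    ((List.finRange k).map fun l => up1 l (c l)).prod ∈ RU F (k + 1) := by
  obtain ⟨h1, h2, h3⟩ := prod_upper c (List.finRange k)
  refine upper_mem_RU (by omega) h1 h2 fun i j hij => ?_
  obtain ⟨l, rfl⟩ : ∃ l : Fin k, i = l.castSucc := ⟨⟨i.val, by have := j.2; omega⟩, rfl⟩
  have hj : j = l.succ := Fin.ext hij
  subst hj
  rw [h3, sum_finRange]
  exact hc l

theorem prod_lower_mem_RU {k : ℕ} {c : Fin k → F} (hc : ∀ i, c i ≠ 0) :
    ((List.finRange k).map fun l => lo1 l (c l)).prod ∈ RU F (k + 1) := by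
  obtain ⟨h1, h2, h3⟩ := prod_lower c (List.finRange k)
  refine lower_mem_RU (by omega) h1 h2 fun i j hij => ?_
  obtain ⟨l, rfl⟩ : ∃ l : Fin k, i = l.castSucc := ⟨⟨i.val, by have := j.2; omega⟩, rfl⟩
  have hj : j = l.succ := Fin.ext hij
  subst hj
  rw [h3, sum_finRange]
  exact hc l

end Cfsg.Agent.H155.TG
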