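import Cfsg.Agent.H155.TG.Torus
import Cfsg.Agent.H155.TG.RU

/-!
# A conjugacy class whose square is the group (helper155)

* `LD` : a homomorphism `φ : SL_m(F) → Y` onto the derived Levi subgroup of `J`, a torus element `e` centralised by it
  and acting without fixed points on the other root groups;
* `main` : the square of the class of `e φ(A)`, `A` regular unipotent, is the group.
-/

set_option autoImplicit false
set_option linter.unusedSectionVars false

namespace Cfsg.Agent.H155.TG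

open CoxeterSystem Cfsg.Agent.ChevalleyStructure.CoxeterGeom Cfsg.Agent.Tits.Roots Cfsg.Agent.Tits.Core
  Cfsg.Agent.Tits.Exchange Cfsg.Agent.Nodes.Reps Cfsg.Agent.Nodes.BNOf Cfsg.Agent.Nodes.StabComb
  Cfsg.Agent.Nodes.Bruhat Cfsg.Agent.Nodes.OppDec Cfsg.Agent.Nodes.LeviDec Cfsg.Agent.Nodes.NormalForm
  Cfsg.Agent.KFacts.RgdOpp Cfsg.Agent.Nodes.FreeTorus
open scoped commutatorElement

variable {I W Y : Type*} [Fintype I] [DecidableEq I] [Group W] [Group Y] {M : CoxeterMatrix I}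
  {cs : CoxeterSystem M W} {A : I → I → ℤ} {h : IsCartan M A} {p : ℕ} {T : Subgroup Y} {n : I → Y}
  {X : (I → ℤ) → Subgroup Y} {F : Type*} [Field F] {x y hh : I → F → Y} {χ : I → Y → F} {D : I → I → ℕ}

/-- The data on the Levi subgroup of `J`. -/
structure LD (cs : CoxeterSystem M W) (h : IsCartan M A) (T : Subgroup Y) (X : (I → ℤ) → Subgroup Y)
    (hh : I → F → Y) (J : Set I) (m : ℕ) (φ : Matrix.SpecialLinearGroup (Fin m) F →* Y) (e : Y) : Prop where
  hm : 1 ≤ m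
  hJ : J.Nonempty → 2 ≤ m
  hJ' : ¬ J.Nonempty → m = 1
  up : ∀ r ∈ PosJ cs h J, ∀ u ∈ X r, ∃ B : Matrix.SpecialLinearGroup (Fin m) F,
    (∀ i j, j < i → B i j = 0) ∧ (∀ i, B i i = 1) ∧ φ B = u
  lo : ∀ r ∈ PosJ cs h J, ∀ u ∈ X (-r), ∃ B : Matrix.SpecialLinearGroup (Fin m) F,
    (∀ i j, i < j → B i j = 0) ∧ (∀ i, B i i = 1) ∧ φ B = u
  di : ∀ j ∈ J, ∀ c, c ≠ 0 → ∃ B : Matrix.SpecialLinearGroup (Fin m) F, (∀ i j, i ≠ j → B i j = 0) ∧ φ B = hh j c
  ran : ∀ B, φ B ∈ LJ cs h T X J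
  eT : e ∈ T
  ecomm : ∀ B, e * φ B = φ B * e
  efix : ∀ r ∈ NotJ cs h J, ∀ u ∈ X r, e * u * e⁻¹ = u → u = 1
  efix' : ∀ r ∈ NotJ cs h J, ∀ u ∈ X (-r), e * u * e⁻¹ = u → u = 1
  tor : ∀ δ : Fˣ, ∃ τ ∈ T, ∀ B C : Matrix.SpecialLinearGroup (Fin m) F,
    (C : Matrix.GeneralLinearGroup (Fin m) F) = dgl m δ * (B : Matrix.GeneralLinearGroup (Fin m) F) * (dgl m δ)⁻¹ →
      τ * φ B * τ⁻¹ = φ C
  real : ∃ n₀, n₀ * e * n₀⁻¹ = e⁻¹ ∧ ∃ B ∈ RU F m, ∃ C ∈ RU F m, n₀ * φ B * n₀⁻¹ = φ C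

/-! ### triangular matrices -/

section Tri

variable {m : ℕ}

/-- upper unitriangular matrices -/
def upG (F : Type*) [Field F] (m : ℕ) : Set (Matrix.SpecialLinearGroup (Fin m) F) :=
  {B | (∀ i j, j < i → B i j = 0) ∧ ∀ i, B i i = 1}

/-- lower unitriangular matrices -/
def loG (F : Type*) [Field F] (m : ℕ) : Set (Matrix.SpecialLinearGroup (Fin m) F) :=
  {B | (∀ i j, i < j → B i j = 0) ∧ ∀ i, B i i = 1}

/-- diagonal matrices -/
def diG (F : Type*) [Field F] (m : ℕ) : Set (Matrix.SpecialLinearGroup (Fin m) F) :=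
  {B | ∀ i j, i ≠ j → B i j = 0}

theorem mul_apply' (B C : Matrix.SpecialLinearGroup (Fin m) F) (i j : Fin m) :
    (B * C) i j = ∑ l, B i l * C l j := Matrix.mul_apply

theorem one_apply' (i j : Fin m) : (1 : Matrix.SpecialLinearGroup (Fin m) F) i j = if i = j then 1 else 0 :=
  Matrix.one_apply

theorem upG_mul {B C : Matrix.SpecialLinearGroup (Fin m) F} (hB : B ∈ upG F m) (hC : C ∈ upG F m) :
    B * C ∈ upG F m := by
  refine ⟨fun i j hij => ?_, fun i => ?_⟩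
  · rw [mul_apply']
    refine Finset.sum_eq_zero fun l _ => ?_
    by_cases hl : l < i
    · rw [hB.1 i l hl, zero_mul]
    · rw [hC.1 l j (lt_of_lt_of_le hij (not_lt.1 hl)), mul_zero]
  · rw [mul_apply', Finset.sum_eq_single i, hB.2, hC.2, mul_one]
    · intro l _ hl
      rcases lt_or_gt_of_ne hl with h1 | h1
      · rw [hB.1 i l h1, zero_mul]
      · rw [hC.1 l i h1, mul_zero]
    · intro h1; exact absurd (Finset.mem_univ _) h1

theorem loG_mul {B C : Matrix.SpecialLinearGroup (Fin m) F} (hB : B ∈ loG F m) (hC : C ∈ loG F m) :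
    B * C ∈ loG F m := by
  refine ⟨fun i j hij => ?_, fun i => ?_⟩
  · rw [mul_apply']
    refine Finset.sum_eq_zero fun l _ => ?_
    by_cases hl : i < l
    · rw [hB.1 i l hl, zero_mul]
    · rw [hC.1 l j (lt_of_le_of_lt (not_lt.1 hl) hij), mul_zero]
  · rw [mul_apply', Finset.sum_eq_single i, hB.2, hC.2, mul_one]
    · intro l _ hl
      rcases lt_or_gt_of_ne hl with h1 | h1
      · rw [hC.1 l i h1, mul_zero]
      · rw [hB.1 i l h1, zero_mul]
    · intro h1; exact absurd (Finset.mem_univ _) h1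

theorem diG_mul {B C : Matrix.SpecialLinearGroup (Fin m) F} (hB : B ∈ diG F m) (hC : C ∈ diG F m) :
    B * C ∈ diG F m := by
  intro i j hij
  rw [mul_apply']
  refine Finset.sum_eq_zero fun l _ => ?_
  by_cases hl : i = l
  · subst hl; rw [hC i j hij, mul_zero]
  · rw [hB i l hl, zero_mul]

theorem one_mem_upG : (1 : Matrix.SpecialLinearGroup (Fin m) F) ∈ upG F m :=
  ⟨fun i j hij => by rw [one_apply', if_neg (ne_of_gt hij)], fun i => by rw [one_apply', if_pos rfl]⟩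

theorem one_mem_loG : (1 : Matrix.SpecialLinearGroup (Fin m) F) ∈ loG F m :=
  ⟨fun i j hij => by rw [one_apply', if_neg (ne_of_lt hij)], fun i => by rw [one_apply', if_pos rfl]⟩

theorem one_mem_diG : (1 : Matrix.SpecialLinearGroup (Fin m) F) ∈ diG F m :=
  fun i j hij => by rw [one_apply', if_neg hij]

theorem diG_inv {B : Matrix.SpecialLinearGroup (Fin m) F} (hB : B ∈ diG F m) : B⁻¹ ∈ diG F m := by
  intro i j hij
  have h1 : (B * B⁻¹) i j = 0 := by rw [mul_inv_cancel, one_apply', if_neg hij]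
  rw [mul_apply', Finset.sum_eq_single i] at h1
  · rcases mul_eq_zero.1 h1 with h2 | h2
    · exfalso
      have h3 : (B * B⁻¹) i i = 1 := by rw [mul_inv_cancel, one_apply', if_pos rfl]
      rw [mul_apply', Finset.sum_eq_single i, h2, zero_mul] at h3
      · exact zero_ne_one h3
      · intro l _ hl
        rw [hB i l (Ne.symm hl), zero_mul]
      · intro h4; exact absurd (Finset.mem_univ _) h4
    · exact h2
  · intro l _ hl
    rw [hB i l (Ne.symm hl), zero_mul]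
  · intro h4; exact absurd (Finset.mem_univ _) h4

/-- If `L D U` is scalar then `L = 1`. -/
theorem eq_one_of_scalar {L D U : Matrix.SpecialLinearGroup (Fin m) F} (hL : L ∈ loG F m) (hD : D ∈ diG F m)
    (hU : U ∈ upG F m) {c : F}
    (hc : ((L * D * U : Matrix.SpecialLinearGroup (Fin m) F) : Matrix (Fin m) (Fin m) F) =
      c • (1 : Matrix (Fin m) (Fin m) F)) : L = 1 := by
  -- `D` has nonzero diagonal entries
  have hD0 : ∀ i, D i i ≠ 0 := by
    intro i h1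
    have h2 : (D * D⁻¹) i i = 1 := by rw [mul_inv_cancel, one_apply', if_pos rfl]
    rw [mul_apply', Finset.sum_eq_single i, h1, zero_mul] at h2
    · exact zero_ne_one h2
    · intro l _ hl
      rw [hD i l (Ne.symm hl), zero_mul]
    · intro h4; exact absurd (Finset.mem_univ _) h4
  have hmul : ∀ i j, (L * D * U) i j = ∑ l, L i l * D l l * U l j := by
    intro i j
    rw [mul_apply']
    refine Finset.sum_congr rfl fun l _ => ?_
    rw [mul_apply', Finset.sum_eq_single l]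
    · intro l' _ hl
      rw [hD l' l hl, mul_zero]
    · intro h4; exact absurd (Finset.mem_univ _) h4
  have key : ∀ k : ℕ, ∀ j : Fin m, j.val = k → ∀ i, j < i → L i j = 0 := by
    intro k
    induction k using Nat.strong_induction_on with
    | _ k ih =>
    intro j hj i hij
    have h1 : (L * D * U) i j = 0 := by
      rw [hc, Matrix.smul_apply, Matrix.one_apply_ne (ne_of_gt hij), smul_zero]
    rw [hmul, Finset.sum_eq_single j, hU.2, mul_one] at h1
    · exact (mul_eq_zero.1 h1).resolve_right (hD0 j)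
    · intro l _ hl
      rcases lt_or_gt_of_ne hl with h2 | h2
      · rw [ih l.val (by rw [← hj]; exact h2) l rfl i (h2.trans hij), zero_mul, zero_mul]
      · rw [hU.1 l j h2, mul_zero]
    · intro h4; exact absurd (Finset.mem_univ _) h4
  apply Subtype.ext
  ext i j
  change L i j = (1 : Matrix.SpecialLinearGroup (Fin m) F) i j
  rw [one_apply']
  by_cases hij : i = j
  · subst hij
    rw [if_pos rfl, hL.2]
  · rw [if_neg hij]
    rcases lt_or_gt_of_ne hij with h1 | h1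
    · exact hL.1 i j h1
    · exact key j.val j rfl i h1

end Tri

section

variable [Finite W] [Finite Y] [Finite F]
  {J : Set I} {m : ℕ} {φ : Matrix.SpecialLinearGroup (Fin m) F →* Y} {e : Y}

theorem Sup_le_map {X : (I → ℤ) → Subgroup Y} {S : Set (I → ℤ)}
    {P : Matrix.SpecialLinearGroup (Fin m) F → Prop} (h1 : P 1) (hmul : ∀ B C, P B → P C → P (B * C))
    (hX : ∀ r ∈ S, ∀ u ∈ X r, ∃ B, P B ∧ φ B = u) {u : Y} (hu : u ∈ RGD.Sup X S) : ∃ B, P B ∧ φ B = u := by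
  refine Subgroup.iSup_induction (fun z : S => X z.1) (C := fun u => ∃ B, P B ∧ φ B = u) hu ?_ ?_ ?_
  · intro r v hv
    exact hX r.1 r.2 v hv
  · exact ⟨1, h1, map_one _⟩
  · rintro a b ⟨B, hB, rfl⟩ ⟨C, hC, rfl⟩
    exact ⟨B * C, hmul B C hB hC, map_mul _ _ _⟩

theorem LJ_opp : LJ cs h T (fun r => X (-r)) J = LJ cs h T X J := by
  unfold LJ
  rw [Sup_opp]
  congr 2
  ext r
  constructor
  · intro h1
    have := RootsJ.neg h1
    rwa [neg_neg] at this
  · exact RootsJ.neg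

/-- a unipotent element times `e` has the same centralizer in the unipotent radical as `e` -/
theorem centralizer_eq_bot (hX : RGD cs h p T n X) (heT : e ∈ T) [Fact p.Prime]
    (hfix : ∀ r ∈ NotJ cs h J, ∀ u ∈ X r, e * u * e⁻¹ = u → u = 1) {b : Y} (hb : ∃ k : ℕ, b ^ p ^ k = 1)
    (hbe : e * b = b * e) {w : Y} (hw : w ∈ VJ cs h X J) (hc : w * (b * e) = b * e * w) : w = 1 := by
  obtain ⟨k, hk⟩ := hb
  have hcomm : Commute b e := hbe.symm
  have h1 : (b * e) ^ p ^ k = e ^ p ^ k := by rw [hcomm.mul_pow, hk, one_mul]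
  have h2 : Commute w (b * e) := hc
  have h3 : Commute w (e ^ p ^ k) := by
    rw [← h1]; exact h2.pow_right _
  -- `e` is a power of `e ^ p ^ k`
  have hcop : (orderOf e).Coprime (p ^ k) := by
    apply Nat.Coprime.pow_right
    refine Nat.Coprime.coprime_dvd_left ?_ hX.tcop
    rw [← Subgroup.orderOf_mk e heT]
    exact orderOf_dvd_natCard _
  have h4 : Commute w e := by
    obtain ⟨l, hl⟩ := exists_pow_eq_self_of_coprime hcop.symm
    rw [← hl]
    exact h3.pow_right _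
  have h5 : w ∈ RGD.Sup X (RGD.Pos cs h) ⊓ Subgroup.centralizer {e} := by
    exact Subgroup.mem_inf.2 ⟨VJ_le_U J hw, Subgroup.mem_centralizer_singleton_iff.2 h4.eq⟩
  rw [centralizer_U hX (by rintro _ rfl; exact heT)] at h5
  have h6 : RGD.Sup (fun r => X r ⊓ Subgroup.centralizer {e}) (RGD.Pos cs h) ≤ LJ cs h T X J := by
    refine RGD.Sup_le fun r hr => ?_
    rcases mem_PosJ_or_NotJ J hr.1 hr.2 with h7 | h7
    · exact inf_le_left.trans (X_le_LJ (PosJ_subset J h7))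
    · rintro u ⟨hu, hu'⟩
      have h8 : u = 1 := by
        apply hfix r h7 u hu
        have h9 : u * e = e * u := Subgroup.mem_centralizer_singleton_iff.1 hu'
        rw [← h9, mul_inv_cancel_right]
      rw [h8]; exact one_mem _
  exact eq_one_of_mem_LJ_of_mem_VJ hX (h6 h5) hw

/-- the coset of the unipotent radical consists of conjugates -/
theorem coset_conj (hX : RGD cs h p T n X) (heT : e ∈ T) [Fact p.Prime]
    (hfix : ∀ r ∈ NotJ cs h J, ∀ u ∈ X r, e * u * e⁻¹ = u → u = 1) {b : Y} (hb : ∃ k : ℕ, b ^ p ^ k = 1)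
    (hbe : e * b = b * e) (hbL : b ∈ LJ cs h T X J) {q : Y} (hq : q ∈ VJ cs h X J) :
    IsConj (b * e) (q * (b * e)) := by
  have hL : b * e ∈ LJ cs h T X J := mul_mem hbL (T_le_LJ heT)
  have hn := LJ_le_normalizer_VJ hX J hL
  let f : VJ cs h X J → VJ cs h X J := fun w => ⟨w * ((b * e) * (w : Y)⁻¹ * (b * e)⁻¹), mul_mem w.2
    ((Subgroup.mem_normalizer_iff.1 hn _).1 (inv_mem w.2))⟩
  have hinj : Function.Injective f := by
    intro w w' hww
    have h1 : (w : Y) * ((b * e) * (w : Y)⁻¹ * (b * e)⁻¹) = w' * ((b * e) * (w' : Y)⁻¹ * (b * e)⁻¹) :=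
      congrArg Subtype.val hww
    have h2 : (w' : Y)⁻¹ * w * (b * e) = b * e * ((w' : Y)⁻¹ * w) := by
      calc (w' : Y)⁻¹ * w * (b * e) = (w' : Y)⁻¹ * (w * ((b * e) * (w : Y)⁻¹ * (b * e)⁻¹)) * (b * e) * w := by group
        _ = _ := by rw [h1]; group
    have h3 := centralizer_eq_bot hX heT hfix hb hbe (mul_mem (inv_mem w'.2) w.2) h2
    exact Subtype.ext (inv_mul_eq_one.1 h3).symm
  obtain ⟨w, hw⟩ := Finite.surjective_of_injective hinj ⟨q, hq⟩
  have h1 : (w : Y) * ((b * e) * (w : Y)⁻¹ * (b * e)⁻¹) = q := congrArg Subtype.val hw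
  rw [isConj_iff]
  refine ⟨w, ?_⟩
  rw [← h1]; group

theorem LD.mem_TS (L : LD cs h T X hh J m φ e) {t : Y} (ht : t ∈ TS hh J) : ∃ B, B ∈ diG F m ∧ φ B = t := by
  unfold TS at ht
  induction ht using Subgroup.closure_induction with
  | mem t ht =>
    obtain ⟨i, hi, c, hc, rfl⟩ := ht
    exact L.di i hi c hc
  | one => exact ⟨1, one_mem_diG, map_one _⟩
  | mul a b _ _ ha hb =>
    obtain ⟨B, hB, rfl⟩ := ha
    obtain ⟨C, hC, rfl⟩ := hb
    exact ⟨B * C, diG_mul hB hC, map_mul _ _ _⟩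
  | inv a _ ha =>
    obtain ⟨B, hB, rfl⟩ := ha
    exact ⟨B⁻¹, diG_inv hB, map_inv _ _⟩

/-- **The square of a conjugacy class is the group.** -/
theorem main [Fact p.Prime] [CharP F p] (R : RGD cs h p T n X) (E : FD cs h T X x y hh χ D)
    (hF : 9 ≤ Nat.card F) (hD : ∀ k, ∑ j ∈ Finset.univ.erase k, D k j ≤ 4)
    (hconn : ∀ S : Set I, S.Nonempty → S ≠ Set.univ → ∃ a ∈ S, ∃ b, b ∉ S ∧ M a b ≠ 2)
    (hn : ∀ i, n i ∈ LL X (sr i)) (hG : RGD.Sup X {r | IsRoot cs h r} = ⊤)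
    (hcore : (RGD.B cs h T X).normalCore = ⊥) (L : LD cs h T X hh J m φ e) :
    ∃ c : Y, ∀ g, ∃ x y, g = (x * c * x⁻¹) * (y * c * y⁻¹) := by
  classical
  have hT := T_le_TS E hF R hn hG
  have hop := opp R
  obtain ⟨n₀, hn₀, A₀, hA₀, B₀, hB₀, hreal⟩ := L.real
  have hcomm : ∀ t ∈ T, t * e = e * t := fun t ht => TS_comm E ht (hT L.eT)
  -- regular unipotent elements are conjugate under the centralizer of `e`
  have hconj : ∀ B ∈ RU F m, ∀ C ∈ RU F m, ∃ z, z * e = e * z ∧ z * φ B * z⁻¹ = φ C := by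
    intro B hB C hC
    obtain ⟨P, δ, C', hC', rfl⟩ := exists_conj_RU L.hm hB hC
    obtain ⟨τ, hτ, hτ'⟩ := L.tor δ
    refine ⟨φ P * τ, ?_, ?_⟩
    · rw [mul_assoc, hcomm τ hτ, ← mul_assoc, ← L.ecomm, mul_assoc]
    · have := hτ' B C' hC'
      rw [map_mul, map_mul, map_inv, ← this]
      group
  have hinv : ∀ z : Y, z * e = e * z → z * e⁻¹ = e⁻¹ * z := by
    intro z hz
    rw [eq_inv_mul_iff_mul_eq, ← mul_assoc, ← hz, mul_inv_cancel_right]
  have K1 : ∀ B ∈ RU F m, IsConj (e * φ A₀) (e * φ B) := by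
    intro B hB
    obtain ⟨z, hz, hz'⟩ := hconj A₀ hA₀ B hB
    rw [isConj_iff]
    refine ⟨z, ?_⟩
    calc z * (e * φ A₀) * z⁻¹ = (z * e) * (φ A₀ * z⁻¹) := by group
      _ = e * (z * φ A₀ * z⁻¹) := by rw [hz]; group
      _ = _ := by rw [hz']
  have K2 : ∀ B ∈ RU F m, IsConj (e * φ A₀) (e⁻¹ * φ B) := by
    intro B hB
    have h1 : IsConj (e * φ A₀) (e⁻¹ * φ B₀) := by
      rw [isConj_iff]
      refine ⟨n₀, ?_⟩
      rw [← hn₀, ← hreal]; group
    refine h1.trans ?_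
    obtain ⟨z, hz, hz'⟩ := hconj B₀ hB₀ B hB
    rw [isConj_iff]
    refine ⟨z, ?_⟩
    calc z * (e⁻¹ * φ B₀) * z⁻¹ = (z * e⁻¹) * (φ B₀ * z⁻¹) := by group
      _ = e⁻¹ * (z * φ B₀ * z⁻¹) := by rw [hinv z hz]; group
      _ = _ := by rw [hz']
  have hord : ∀ B ∈ RU F m, ∃ k : ℕ, (φ B) ^ p ^ k = 1 := by
    intro B hB
    obtain ⟨k, hk⟩ := exists_pow_eq_one (p := p) hB
    exact ⟨k, by rw [← map_pow, hk, map_one]⟩
  have K3 : ∀ q ∈ VJ cs h (fun r => X (-r)) J, ∀ B ∈ RU F m, IsConj (e * φ A₀) (q * (φ B * e)) := by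
    intro q hq B hB
    refine (K1 B hB).trans ?_
    rw [L.ecomm]
    exact coset_conj hop L.eT L.efix' (hord B hB) (L.ecomm B) (by rw [LJ_opp]; exact L.ran B) hq
  have K4 : ∀ q ∈ VJ cs h X J, ∀ B ∈ RU F m, IsConj (e * φ A₀) (e⁻¹ * φ B * q) := by
    intro q hq B hB
    refine (K2 B hB).trans ?_
    have hc := hinv (φ B) (L.ecomm B).symm
    have hfix : ∀ r ∈ NotJ cs h J, ∀ u ∈ X r, e⁻¹ * u * (e⁻¹)⁻¹ = u → u = 1 := by
      intro r hr u hu h1
      apply L.efix r hr u hu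
      rw [inv_inv] at h1
      calc e * u * e⁻¹ = e * (e⁻¹ * u * e) * e⁻¹ := by rw [h1]
        _ = u := by group
    have h2 := coset_conj R (inv_mem L.eT) hfix (hord B hB) hc.symm (L.ran B) hq
    rw [← hc]
    refine h2.trans ?_
    rw [isConj_iff]
    exact ⟨q⁻¹, by group⟩
  refine ⟨e * φ A₀, fun g => ?_⟩
  suffices hsuf : ∃ g₁ g₂, IsConj (e * φ A₀) g₁ ∧ IsConj (e * φ A₀) g₂ ∧ IsConj g (g₁ * g₂) by
    obtain ⟨g₁, g₂, h1, h2, h3⟩ := hsuf
    obtain ⟨a, ha⟩ := isConj_iff.1 h1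
    obtain ⟨b, hb⟩ := isConj_iff.1 h2
    obtain ⟨c, hc⟩ := isConj_iff.1 h3
    refine ⟨c⁻¹ * a, c⁻¹ * b, ?_⟩
    have e1 : g = c⁻¹ * (g₁ * g₂) * c := by rw [← hc]; group
    rw [e1, ← ha, ← hb]; group
  by_cases hg : g = 1
  · subst hg
    refine ⟨e * φ A₀, e⁻¹ * φ A₀⁻¹, IsConj.refl _, K2 _ (inv_mem_RU hA₀), ?_⟩
    have : e * φ A₀ * (e⁻¹ * φ A₀⁻¹) = 1 := by
      rw [L.ecomm, map_inv]; group
    rw [this]
  obtain ⟨t, a, b, k, hS, hk⟩ := exists_start R E hG hcore hg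
  obtain ⟨t, a, b, hS, ha⟩ := all_ne R E hF hD hconn hS hk
  -- the torus part in `T_J`
  obtain ⟨S₀, hS₀J, hS₀⟩ : ∃ S₀ : Set I, S₀ ⊆ J ∧ (J.Nonempty → S₀.Nonempty) := ⟨J, subset_rfl, fun h => h⟩
  have hJfin : ((Finset.univ.filter fun i => i ∉ J : Finset I) : Set I) = Jᶜ := by
    ext i; simp
  have key : ∃ t' a' b', St cs h T X x y g t' a' b' ∧ t' ∈ TS hh J ∧ (J.Nonempty → ∃ j ∈ J, a' j ≠ 0) := by
    by_cases hJ : J.Nonempty
    · obtain ⟨j, hj⟩ := hJ
      obtain ⟨t', a', b', h1, h2, h3⟩ := process R E hF hD (S₀ := {j}) _ (Finset.univ.filter fun i => i ∉ J) J rfl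
        (by
          intro k hk
          rw [Finset.mem_filter] at hk
          rintro rfl
          exact hk.2 hj) hS (by rw [hJfin, Set.union_compl_self]; exact hT hS.1) (fun i _ => ha i) (fun i _ => ha i)
      exact ⟨t', a', b', h1, h2, fun _ => ⟨j, hj, h3 j rfl⟩⟩
    · obtain ⟨t', a', b', h1, h2, h3⟩ := process R E hF hD (S₀ := ∅) _ (Finset.univ.filter fun i => i ∉ J) J rfl
        (fun k _ => Set.notMem_empty k) hS (by rw [hJfin, Set.union_compl_self]; exact hT hS.1) (fun i _ => ha i)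
        (fun i _ => ha i)
      exact ⟨t', a', b', h1, h2, fun h => absurd h hJ⟩
  obtain ⟨t', a', b', ⟨ht', v, hv, u, hu, hgc, hav, -⟩, htJ, hne⟩ := key
  -- the factors
  obtain ⟨vJ, hvJ, q, hq, rfl⟩ := (mem_U_iff hop (J := J)).1 hv
  obtain ⟨uJ, huJ, q', hq', rfl⟩ := (mem_U_iff R (J := J)).1 hu
  obtain ⟨Lo, hLo, rfl⟩ := Sup_le_map (φ := φ) (P := fun B => B ∈ loG F m) one_mem_loG (fun _ _ => loG_mul)
    (fun r hr u hu => by
      obtain ⟨B, h1, h2, h3⟩ := L.lo r hr u hu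
      exact ⟨B, ⟨h1, h2⟩, h3⟩) hvJ
  obtain ⟨Up, hUp, rfl⟩ := Sup_le_map (φ := φ) (P := fun B => B ∈ upG F m) one_mem_upG (fun _ _ => upG_mul)
    (fun r hr u hu => by
      obtain ⟨B, h1, h2, h3⟩ := L.up r hr u hu
      exact ⟨B, ⟨h1, h2⟩, h3⟩) huJ
  obtain ⟨Di, hDi, hDi'⟩ := L.mem_TS htJ
  subst hDi'
  -- `A = Lo Di Up` is a product of two regular unipotent elements
  have hprod : ∃ B ∈ RU F m, ∃ C ∈ RU F m, Lo * Di * Up = B * C := by
    by_cases hJ : J.Nonempty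
    · refine exists_mul_RU hF (L.hJ hJ) ?_
      rintro ⟨c, hc⟩
      have h1 := eq_one_of_scalar hLo hDi hUp hc
      obtain ⟨j, hj, hj0⟩ := hne hJ
      apply hj0
      refine cf_unique hop E.py (hav j) ?_
      rw [h1, map_one, one_mul]
      refine cf_of_mem_Q E.py ?_
      refine RGD.Sup_mono (S := NotJ cs h J) (S' := RGD.PosNe cs h j) (fun r hr => ?_) hq
      obtain ⟨h3, h4, k, hk, hk0⟩ := hr
      refine ⟨h3, h4, ?_⟩
      rintro rfl
      rw [sr_ne (by rintro rfl; exact hk hj)] at hk0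
      exact lt_irrefl _ hk0
    · have hm1 := L.hJ' hJ
      subst hm1
      have hsub : ∀ B : Matrix.SpecialLinearGroup (Fin 1) F, B = 1 := by
        intro B
        apply Subtype.ext
        ext i j
        have hi : i = 0 := Subsingleton.elim _ _
        have hj : j = 0 := Subsingleton.elim _ _
        subst hi hj
        have := B.2
        rw [Matrix.det_fin_one] at this
        rw [this]; rfl
      exact ⟨A₀, hA₀, A₀, hA₀, by rw [hsub (Lo * Di * Up), hsub (A₀ * A₀)]⟩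
  obtain ⟨B, hB, C, hC, hBC⟩ := hprod
  -- move `q` to the left
  have hq1 : φ Lo * q * (φ Lo)⁻¹ ∈ VJ cs h (fun r => X (-r)) J := by
    refine (Subgroup.mem_normalizer_iff.1 (LJ_le_normalizer_VJ hop J ?_) q).1 hq
    rw [LJ_opp]; exact L.ran Lo
  refine ⟨(φ Lo * q * (φ Lo)⁻¹) * (φ B * e), e⁻¹ * φ C * q', K3 _ hq1 B hB, K4 _ hq' C hC, ?_⟩
  refine hgc.trans ?_
  have e1 : φ Lo * q * φ Di * (φ Up * q') = (φ Lo * q * (φ Lo)⁻¹) * (φ B * e) * (e⁻¹ * φ C * q') := by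
    have h1 : φ Lo * φ Di * φ Up = φ B * φ C := by rw [← map_mul, ← map_mul, hBC, map_mul]
    calc φ Lo * q * φ Di * (φ Up * q') = (φ Lo * q * (φ Lo)⁻¹) * (φ Lo * φ Di * φ Up) * q' := by group
      _ = _ := by rw [h1]; group
  rw [e1]

end

end Cfsg.Agent.H155.TG
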