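import Mathlib
import Cfsg.Agent.KFacts.RgdOpp

/-!
# Simple coordinates of a root group datum (helper155)

* `Par cs X x` : `x i : F → X (sr i)` is a parametrisation;
* `Cf cs h X x i u s` : `u ∈ Q_i * x i s`, `Q_i` the join of the positive root groups other than `X (sr i)`;
  existence, uniqueness, products, conjugates;
* `norm_neg` : `X (-sr i)` normalises `Q_i`.
-/

set_option autoImplicit false
set_option linter.unusedSectionVars false

namespace Cfsg.Agent.H155.TG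

open CoxeterSystem Cfsg.Agent.ChevalleyStructure.CoxeterGeom Cfsg.Agent.Tits.Roots Cfsg.Agent.Tits.Core
  Cfsg.Agent.Tits.Exchange Cfsg.Agent.Nodes.Reps Cfsg.Agent.Nodes.BNOf Cfsg.Agent.Nodes.StabComb
  Cfsg.Agent.Nodes.Bruhat Cfsg.Agent.Nodes.OppDec Cfsg.Agent.Nodes.LeviDec Cfsg.Agent.Nodes.NormalForm
  Cfsg.Agent.KFacts.RgdOpp
open scoped commutatorElement

variable {I W Y : Type*} [Fintype I] [DecidableEq I] [Group W] [Group Y] {M : CoxeterMatrix I}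
  {cs : CoxeterSystem M W} {A : I → I → ℤ} {h : IsCartan M A} {p : ℕ} {T : Subgroup Y} {n : I → Y}
  {X : (I → ℤ) → Subgroup Y} {F : Type*} [Field F] {x : I → F → Y}

/-- The simple root groups are parametrised by `F`. -/
structure Par (X : (I → ℤ) → Subgroup Y) (x : I → F → Y) : Prop where
  mem : ∀ i u, u ∈ X (sr i) ↔ ∃ s, x i s = u
  add : ∀ i s t, x i (s + t) = x i s * x i t
  inj : ∀ i s, x i s = 1 → s = 0

theorem Par.zero (P : Par X x) (i : I) : x i 0 = 1 := by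
  have := P.add i 0 0
  rwa [add_zero, left_eq_mul] at this

theorem Par.neg (P : Par X x) (i : I) (s : F) : x i (-s) = (x i s)⁻¹ := by
  rw [eq_inv_iff_mul_eq_one, ← P.add, neg_add_cancel, P.zero]

theorem Par.x_mem (P : Par X x) (i : I) (s : F) : x i s ∈ X (sr i) := (P.mem i _).2 ⟨s, rfl⟩

theorem Par.inj' (P : Par X x) {i : I} {s t : F} (e : x i s = x i t) : s = t := by
  have h1 : x i (s - t) = 1 := by rw [sub_eq_add_neg, P.add, P.neg, e, mul_inv_cancel]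
  exact sub_eq_zero.1 (P.inj i _ h1)

/-- the positive root groups other than `X (sr i)` -/
abbrev QQ (cs : CoxeterSystem M W) (h : IsCartan M A) (X : (I → ℤ) → Subgroup Y) (i : I) : Subgroup Y :=
  RGD.Sup X (RGD.PosNe cs h i)

/-- the positive root groups -/
abbrev UU (cs : CoxeterSystem M W) (h : IsCartan M A) (X : (I → ℤ) → Subgroup Y) : Subgroup Y :=
  RGD.Sup X (RGD.Pos cs h)

theorem QQ_le (i : I) : QQ cs h X i ≤ UU cs h X := RGD.Sup_mono fun _ hz => ⟨hz.1, hz.2.1⟩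

theorem X_le_UU (i : I) : X (sr i) ≤ UU cs h X := RGD.le_Sup (S := RGD.Pos cs h) ⟨isRoot_sr cs h i, sr_nonneg i⟩

/-- `u ∈ Q_i x_i(s)` -/
def Cf (cs : CoxeterSystem M W) (h : IsCartan M A) (X : (I → ℤ) → Subgroup Y) (x : I → F → Y) (i : I) (u : Y)
    (s : F) : Prop := ∃ q ∈ QQ cs h X i, u = q * x i s

section

variable (R : RGD cs h p T n X) (P : Par X x)

include R

theorem conj_Q {i : I} {a q : Y} (ha : a ∈ X (sr i)) (hq : q ∈ QQ cs h X i) : a * q * a⁻¹ ∈ QQ cs h X i :=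
  (Subgroup.mem_normalizer_iff.1 (R.X_le_normalizer_V i ha) q).1 hq

theorem norm_neg (i : I) : X (-sr i) ≤ Subgroup.normalizer (QQ cs h X i : Set Y) := by
  intro a ha
  have h1 : (n i)⁻¹ * a * n i ∈ X (sr i) := by
    have := R.conj_mem' (rp_simple cs R.nsys i) (isRoot_sr cs h i).neg ha
    rwa [inv_simple, map_neg, rep_simple_sr, neg_neg] at this
  have h2 : cj (n i) (QQ cs h X i) = QQ cs h X i := R.cj_n_V i
  rw [mem_normalizer_iff_cj]
  have h3 : cj ((n i)⁻¹ * a * n i) (QQ cs h X i) = QQ cs h X i :=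
    mem_normalizer_iff_cj.1 (R.X_le_normalizer_V i h1)
  have e : a = n i * ((n i)⁻¹ * a * n i) * (n i)⁻¹ := by group
  have h4 : cj (n i)⁻¹ (QQ cs h X i) = QQ cs h X i := by
    conv_lhs => rw [← h2]
    rw [← cj_mul, inv_mul_cancel, cj_one]
  rw [e, cj_mul, cj_mul, h4, h3, h2]

theorem conj_Q' {i : I} {a q : Y} (ha : a ∈ X (-sr i)) (hq : q ∈ QQ cs h X i) : a * q * a⁻¹ ∈ QQ cs h X i :=
  (Subgroup.mem_normalizer_iff.1 (norm_neg R i ha) q).1 hq

theorem conj_T_Q {i : I} {t q : Y} (ht : t ∈ T) (hq : q ∈ QQ cs h X i) : t * q * t⁻¹ ∈ QQ cs h X i :=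
  (Subgroup.mem_normalizer_iff.1 (R.T_le_normalizer (S := RGD.PosNe cs h i) (fun _ hx => hx.1) ht) q).1 hq

theorem conj_T_U {t q : Y} (ht : t ∈ T) (hq : q ∈ UU cs h X) : t * q * t⁻¹ ∈ UU cs h X :=
  (Subgroup.mem_normalizer_iff.1 (R.T_le_normalizer (S := RGD.Pos cs h) (fun _ hx => hx.1) ht) q).1 hq

/-- `U` normalises `Q_i`. -/
theorem U_le_normalizer_Q (i : I) : UU cs h X ≤ Subgroup.normalizer (QQ cs h X i : Set Y) := by
  have h1 : UU cs h X = X (sr i) ⊔ QQ cs h X i := R.Upos_eq i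
  rw [h1]
  exact sup_le (R.X_le_normalizer_V i) Subgroup.le_normalizer

theorem conj_U_Q {i : I} {a q : Y} (ha : a ∈ UU cs h X) (hq : q ∈ QQ cs h X i) : a * q * a⁻¹ ∈ QQ cs h X i :=
  (Subgroup.mem_normalizer_iff.1 (U_le_normalizer_Q R i ha) q).1 hq

include P

theorem cf_exists (i : I) {u : Y} (hu : u ∈ UU cs h X) : ∃ s, Cf cs h X x i u s := by
  have h1 : UU cs h X = X (sr i) ⊔ QQ cs h X i := R.Upos_eq i
  rw [h1, sup_comm] at hu
  have h2 : u ∈ ((QQ cs h X i ⊔ X (sr i) : Subgroup Y) : Set Y) := hu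
  rw [Subgroup.coe_mul_of_right_le_normalizer_left _ _ (R.X_le_normalizer_V i)] at h2
  obtain ⟨q, hq, a, ha, rfl⟩ := h2
  obtain ⟨s, rfl⟩ := (P.mem i a).1 ha
  exact ⟨s, q, hq, rfl⟩

theorem cf_unique [Finite W] {i : I} {u : Y} {s t : F} (hs : Cf cs h X x i u s) (ht : Cf cs h X x i u t) :
    s = t := by
  obtain ⟨q, hq, rfl⟩ := hs
  obtain ⟨r, hr, e⟩ := ht
  have h1 : x i (s - t) = q⁻¹ * r := by
    rw [sub_eq_add_neg, P.add, P.neg]
    have h2 : x i s = q⁻¹ * (r * x i t) := by rw [← e]; group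
    rw [h2]; group
  have h2 : x i (s - t) = 1 := eq_one_of_mem_PosNe R (P.x_mem i _) (by rw [h1]; exact mul_mem (inv_mem hq) hr)
  exact sub_eq_zero.1 (P.inj i _ h2)

theorem cf_mul {i : I} {u v : Y} {s t : F} (hs : Cf cs h X x i u s) (ht : Cf cs h X x i v t) :
    Cf cs h X x i (u * v) (s + t) := by
  obtain ⟨q, hq, rfl⟩ := hs
  obtain ⟨r, hr, rfl⟩ := ht
  refine ⟨q * (x i s * r * (x i s)⁻¹), mul_mem hq (conj_Q R (P.x_mem i s) hr), ?_⟩
  rw [P.add]; group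

theorem cf_inv {i : I} {u : Y} {s : F} (hs : Cf cs h X x i u s) : Cf cs h X x i u⁻¹ (-s) := by
  obtain ⟨q, hq, rfl⟩ := hs
  refine ⟨x i (-s) * q⁻¹ * (x i (-s))⁻¹, conj_Q R (P.x_mem i _) (inv_mem hq), ?_⟩
  rw [P.neg]; group

omit R
theorem cf_of_mem_Q {i : I} {q : Y} (hq : q ∈ QQ cs h X i) : Cf cs h X x i q 0 :=
  ⟨q, hq, by rw [P.zero, mul_one]⟩

theorem cf_self (i : I) (s : F) : Cf cs h X x i (x i s) s := ⟨1, one_mem _, by rw [one_mul]⟩

theorem cf_one (i : I) : Cf cs h X x i (1 : Y) 0 := cf_of_mem_Q P (one_mem _)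

theorem cf_ne {i j : I} (hij : i ≠ j) (s : F) : Cf cs h X x j (x i s) 0 := by
  refine cf_of_mem_Q P (RGD.le_Sup (S := RGD.PosNe cs h j) ⟨isRoot_sr cs h i, sr_nonneg i, fun e => hij ?_⟩ (P.x_mem i s))
  by_contra hne
  have h1 := congrFun e i
  rw [sr_self, sr_ne hne] at h1
  exact one_ne_zero h1

theorem Cf.mem_U {i : I} {u : Y} {s : F} (hs : Cf cs h X x i u s) : u ∈ UU cs h X := by
  obtain ⟨q, hq, rfl⟩ := hs
  exact mul_mem (QQ_le i hq) (X_le_UU i (P.x_mem i s))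

include R

theorem cf_conj_U {i : I} {u v : Y} {s : F} (hu : u ∈ UU cs h X) (hs : Cf cs h X x i v s) :
    Cf cs h X x i (u * v * u⁻¹) s := by
  obtain ⟨a, ha⟩ := cf_exists R P i hu
  have := cf_mul R P (cf_mul R P ha hs) (cf_inv R P ha)
  rwa [add_neg_cancel_comm] at this

theorem cf_zero_iff [Finite W] {i : I} {u : Y} (hu : u ∈ UU cs h X) : Cf cs h X x i u 0 ↔ u ∈ QQ cs h X i := by
  constructor
  · rintro ⟨q, hq, rfl⟩
    rwa [P.zero, mul_one]
  · exact cf_of_mem_Q P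

/-- `Cf` with the factor on the left. -/
theorem cf_left {i : I} {u : Y} {s : F} (hs : Cf cs h X x i u s) : ∃ q ∈ QQ cs h X i, u = x i s * q := by
  obtain ⟨q, hq, rfl⟩ := hs
  refine ⟨(x i s)⁻¹ * q * ((x i s)⁻¹)⁻¹, conj_Q R (inv_mem (P.x_mem i s)) hq, ?_⟩
  group

end

end Cfsg.Agent.H155.TG
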