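import Cfsg.Agent.H155.TG.Grow

/-!
# Every element has a conjugate in `U⁻ T U`; not all of them with trivial rank one parts (helper155)

* `exists_mul_cell` : `c k ∈ U⁻ T U` for some `c ∈ U`;
* `exists_conj_cell` : every element has a conjugate in `U⁻ T U`;
* `mem_B_of_all` : if all conjugates of `g` are in `U⁻ T U` then all are in `B`;
* `exists_start` : `g ≠ 1` has a conjugate `v t u` with a nontrivial rank one part.
-/

set_option autoImplicit false
set_option linter.unusedSectionVars false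

namespace Cfsg.Agent.H155.TG

open CoxeterSystem Cfsg.Agent.ChevalleyStructure.CoxeterGeom Cfsg.Agent.Tits.Roots Cfsg.Agent.Tits.Core
  Cfsg.Agent.Tits.Exchange Cfsg.Agent.Nodes.Reps Cfsg.Agent.Nodes.BNOf Cfsg.Agent.Nodes.StabComb
  Cfsg.Agent.Nodes.Bruhat Cfsg.Agent.Nodes.OppDec Cfsg.Agent.Nodes.LeviDec Cfsg.Agent.Nodes.NormalForm
  Cfsg.Agent.KFacts.RgdOpp
open scoped commutatorElement

variable {I W Y : Type*} [Fintype I] [DecidableEq I] [Group W] [Group Y] {M : CoxeterMatrix I}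
  {cs : CoxeterSystem M W} {A : I → I → ℤ} {h : IsCartan M A} {p : ℕ} {T : Subgroup Y} {n : I → Y}
  {X : (I → ℤ) → Subgroup Y}

/-- the big cell -/
def Big (cs : CoxeterSystem M W) (h : IsCartan M A) (T : Subgroup Y) (X : (I → ℤ) → Subgroup Y) (g : Y) : Prop :=
  ∃ v ∈ UU cs h (fun r => X (-r)), ∃ t ∈ T, ∃ u ∈ UU cs h X, g = v * t * u

section

variable [Finite W] (R : RGD cs h p T n X)

include R

theorem Big.mul_U {g u : Y} (hg : Big cs h T X g) (hu : u ∈ UU cs h X) : Big cs h T X (g * u) := by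
  obtain ⟨v, hv, t, ht, u', hu', rfl⟩ := hg
  exact ⟨v, hv, t, ht, u' * u, mul_mem hu' hu, by group⟩

theorem Big.mul_V {g v : Y} (hg : Big cs h T X g) (hv : v ∈ UU cs h (fun r => X (-r))) : Big cs h T X (v * g) := by
  obtain ⟨v', hv', t, ht, u', hu', rfl⟩ := hg
  exact ⟨v * v', mul_mem hv hv', t, ht, u', hu', by group⟩

theorem Big.mul_T {g t : Y} (hg : Big cs h T X g) (ht : t ∈ T) : Big cs h T X (t * g) := by
  obtain ⟨v', hv', t', ht', u', hu', rfl⟩ := hg
  exact ⟨t * v' * t⁻¹, conj_T_U (opp R) ht hv', t * t', mul_mem ht ht', u', hu', by group⟩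

theorem Big.mul_T' {g t : Y} (hg : Big cs h T X g) (ht : t ∈ T) : Big cs h T X (g * t) := by
  obtain ⟨v', hv', t', ht', u', hu', rfl⟩ := hg
  refine ⟨v', hv', t' * t, mul_mem ht' ht, t⁻¹ * u' * t, ?_, by group⟩
  have := conj_T_U R (inv_mem ht) hu'
  rwa [inv_inv] at this

/-- `x n_i ∈ X_{-i} T X_i` for some `x ∈ X_i` -/
theorem exists_x_mul_n (i : I) : ∃ x ∈ X (sr i), ∃ y ∈ X (-sr i), ∃ t ∈ T, ∃ b ∈ X (sr i), x * n i = y * t * b := by
  obtain ⟨u, hu, hu1⟩ := exists_ne_one (opp R) i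
  have hu' : u ∈ X (-sr i) := hu
  obtain ⟨a, ha, t, ht, b, hb, e⟩ := R.rk1 i u hu' hu1
  have hc : ∀ z, IsRoot cs h z → ∀ c ∈ X z, t⁻¹ * c * t ∈ X z := by
    intro z hz c hc
    have h1 := R.tor z hz t⁻¹ (inv_mem ht)
    rw [← h1, mem_cj]
    have e1 : (t⁻¹)⁻¹ * (t⁻¹ * c * t) * t⁻¹ = c := by group
    rwa [e1]
  refine ⟨t⁻¹ * a * t, hc _ (isRoot_sr cs h i) _ ha, t⁻¹ * u * t, hc _ (isRoot_sr cs h i).neg _ hu',
    t⁻¹, inv_mem ht, b⁻¹, inv_mem hb, ?_⟩
  rw [e]; group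

/-- **`c k ∈ U⁻ T U` for some `c ∈ U`.** -/
theorem exists_mul_cell : ∀ {w : W} {k : Y}, Rp cs R.nsys w k → ∃ c ∈ UU cs h X, Big cs h T X (c * k) := by
  intro w
  induction hn : cs.length w using Nat.strong_induction_on generalizing w with
  | _ N ih =>
  intro k hk
  by_cases hw1 : w = 1
  · subst hw1
    exact ⟨1, one_mem _, 1, one_mem _, k, hk.mem_of_one, 1, one_mem _, by group⟩
  obtain ⟨i, hi⟩ := cs.exists_leftDescent_of_ne_one hw1
  have hi' : cs.length (cs.simple i * w) < cs.length w := hi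
  obtain ⟨w', hw'⟩ : ∃ w', w' = cs.simple i * w := ⟨_, rfl⟩
  have hww : cs.simple i * w' = w := by rw [hw', ← mul_assoc, simple_mul_simple_self, one_mul]
  have hpos : 0 ≤ rep cs h w'⁻¹ (sr i) := by
    refine (lt_iff' cs h w'⁻¹ i).1 ?_
    have e : w'⁻¹ * cs.simple i = w⁻¹ := by rw [← hww, mul_inv_rev, inv_simple]
    rw [e, length_inv, length_inv, hw']
    exact hi'
  obtain ⟨k', hk'⟩ : ∃ k', k' = (n i)⁻¹ * k := ⟨_, rfl⟩
  have hk'2 : Rp cs R.nsys w' k' := by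
    have := (rp_simple cs R.nsys i).inv.mul hk
    rwa [inv_simple, ← hk', ← hw'] at this
  have hkk : k = n i * k' := by rw [hk']; group
  obtain ⟨c, hc, hcb⟩ := ih (cs.length w') (by rw [← hn, hw']; exact hi') rfl hk'2
  -- `k'⁻¹ X_i k' ≤ U`
  have hXk : ∀ a ∈ X (sr i), k'⁻¹ * a * k' ∈ UU cs h X := by
    intro a ha
    have := R.conj_mem' hk'2 (isRoot_sr cs h i) ha
    exact RGD.le_Sup (S := RGD.Pos cs h) ⟨(isRoot_sr cs h i).act _, hpos⟩ this
  -- `c = q a`
  have hUQ : UU cs h X = X (sr i) ⊔ QQ cs h X i := R.Upos_eq i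
  have hc' := hc
  rw [hUQ, sup_comm] at hc'
  have h2 : c ∈ ((QQ cs h X i ⊔ X (sr i) : Subgroup Y) : Set Y) := hc'
  rw [Subgroup.coe_mul_of_right_le_normalizer_left _ _ (R.X_le_normalizer_V i)] at h2
  obtain ⟨q, hq, a, ha, e⟩ := h2
  have e' : q * a = c := e
  have hqk : Big cs h T X (q * k') := by
    have h3 := Big.mul_U R hcb (inv_mem (hXk a ha))
    have e1 : c * k' * (k'⁻¹ * a * k')⁻¹ = q * k' := by rw [← e']; group
    rwa [e1] at h3
  obtain ⟨z, hz, y, hy, t, ht, b, hb, ez⟩ := exists_x_mul_n R i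
  have hyt : y * t * q * (y * t)⁻¹ ∈ QQ cs h X i := by
    have e2 : y * t * q * (y * t)⁻¹ = y * (t * q * t⁻¹) * y⁻¹ := by group
    rw [e2]
    exact conj_Q' R hy (conj_T_Q R ht hq)
  refine ⟨(y * t * q * (y * t)⁻¹) * z, mul_mem (QQ_le i hyt) (X_le_UU i hz), ?_⟩
  have e3 : y * t * q * (y * t)⁻¹ * z * k = y * (t * (q * k' * (k'⁻¹ * b * k'))) := by
    rw [hkk]
    calc y * t * q * (y * t)⁻¹ * z * (n i * k') = y * t * q * (y * t)⁻¹ * (z * n i) * k' := by group
      _ = _ := by rw [ez]; group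
  rw [e3]
  refine Big.mul_V R (Big.mul_T R (Big.mul_U R hqk (hXk b hb)) ht) ?_
  exact X_le_UU (X := fun r => X (-r)) i hy

/-- **Every element of the group has a conjugate in the big cell.** -/
theorem exists_conj_cell (hG : GG cs h T X = ⊤) (g : Y) : ∃ g', IsConj g g' ∧ Big cs h T X g' := by
  obtain ⟨w, b₁, hb₁, k, hk, b₂, hb₂, rfl⟩ := (mem_GG R).1 (hG ▸ Subgroup.mem_top g : g ∈ GG cs h T X)
  obtain ⟨t, ht, u, hu, e⟩ := R.mem_B.1 (mul_mem hb₂ hb₁)
  -- `g ~ b₂ b₁ k = t u k`; write `t u = u' t`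
  have hu' : t * u * t⁻¹ ∈ UU cs h X := conj_T_U R ht hu
  have hk' : Rp cs R.nsys w (t * k) := by
    have := (rp_of_mem (cs := cs) (hN := R.nsys) ht).mul hk
    rwa [one_mul] at this
  obtain ⟨c, hc, hcb⟩ := exists_mul_cell R hk'
  refine ⟨c * (t * k) * (t * u * t⁻¹ * c⁻¹), ?_, Big.mul_U R hcb (mul_mem hu' (inv_mem hc))⟩
  rw [isConj_iff]
  refine ⟨c * (t * u * t⁻¹)⁻¹ * b₂, ?_⟩
  have e1 : c * (t * u * t⁻¹)⁻¹ * b₂ * (b₁ * k * b₂) * (c * (t * u * t⁻¹)⁻¹ * b₂)⁻¹ =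
      c * (t * u * t⁻¹)⁻¹ * (b₂ * b₁) * k * (t * u * t⁻¹ * c⁻¹) := by group
  rw [e1, e]
  group

theorem Big.mem_BN_B {g : Y} (hg : Big cs h T X g) : ∃ v ∈ BN cs h T X, ∃ b ∈ RGD.B cs h T X, g = v * b := by
  obtain ⟨v, hv, t, ht, u, hu, rfl⟩ := hg
  refine ⟨v, ?_, t * u, mul_mem (RGD.T_le_B ht) (RGD.U_le_B hu), by group⟩
  have h1 : UU cs h (fun r => X (-r)) = UN cs h X := U_opp
  rw [h1] at hv
  exact UN_le_BN hv

/-- If all conjugates are in the big cell then all are in `B`. -/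
theorem mem_B_of_all (hG : GG cs h T X = ⊤) {g : Y} (hg : ∀ g', IsConj g g' → Big cs h T X g') :
    g ∈ RGD.B cs h T X := by
  obtain ⟨w, b₁, hb₁, k, hk, b₂, hb₂, rfl⟩ := (mem_GG R).1 (hG ▸ Subgroup.mem_top g : g ∈ GG cs h T X)
  have h1 : Big cs h T X (k * (b₂ * b₁)) := by
    apply hg
    rw [isConj_iff]
    exact ⟨b₁⁻¹, by group⟩
  obtain ⟨v, hv, b, hb, e⟩ := Big.mem_BN_B R h1
  have hw : w = 1 := by
    refine birkhoff R hk (rp_one (cs := cs) (hN := R.nsys)) (one_mem _) (mul_mem hb₂ hb₁) hv hb ?_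
    rw [one_mul, mul_one, e]
  subst hw
  exact mul_mem (mul_mem hb₁ (RGD.T_le_B hk.mem_of_one)) hb₂

/-- the simple root groups generate -/
theorem closure_eq (hG : RGD.Sup X {r | IsRoot cs h r} = ⊤) :
    Subgroup.closure {y : Y | ∃ i, y ∈ X (sr i) ∨ y ∈ X (-sr i)} = ⊤ := by
  obtain ⟨P, hP⟩ : ∃ P, P = Subgroup.closure {y : Y | ∃ i, y ∈ X (sr i) ∨ y ∈ X (-sr i)} := ⟨_, rfl⟩
  rw [← hP]
  have hx : ∀ i, X (sr i) ≤ P := fun i y hy => by rw [hP]; exact Subgroup.subset_closure ⟨i, Or.inl hy⟩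
  have hy : ∀ i, X (-sr i) ≤ P := fun i y hy => by rw [hP]; exact Subgroup.subset_closure ⟨i, Or.inr hy⟩
  have hcl : ∀ g : Y, (∀ i, cj g (X (sr i)) ≤ P) → (∀ i, cj g (X (-sr i)) ≤ P) → cj g P ≤ P := by
    intro g h1 h2
    intro z hz
    rw [mem_cj] at hz
    have e : z = MulAut.conj g (g⁻¹ * z * g) := by rw [MulAut.conj_apply]; group
    rw [e]
    obtain ⟨z', hz'⟩ : ∃ z', z' = g⁻¹ * z * g := ⟨_, rfl⟩
    rw [← hz'] at hz ⊢
    clear e hz'
    rw [hP] at hz
    induction hz using Subgroup.closure_induction with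
    | mem z hz =>
      obtain ⟨i, hz | hz⟩ := hz
      · exact h1 i (by rw [MulAut.conj_apply]; exact conj_mem_cj.2 hz)
      · exact h2 i (by rw [MulAut.conj_apply]; exact conj_mem_cj.2 hz)
    | one => rw [map_one]; exact one_mem _
    | mul a b _ _ ha hb => rw [map_mul]; exact mul_mem ha hb
    | inv a _ ha => rw [map_inv]; exact inv_mem ha
  have hT : ∀ t ∈ T, cj t P ≤ P := fun t ht =>
    hcl t (fun i => by rw [R.tor _ (isRoot_sr cs h i) t ht]; exact hx i)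
      (fun i => by rw [R.tor _ (isRoot_sr cs h i).neg t ht]; exact hy i)
  have hn : ∀ i, cj (n i) P ≤ P := by
    intro i
    obtain ⟨x, hx', y, hy', t, ht, b, hb, e⟩ := exists_x_mul_n R i
    have e1 : n i = x⁻¹ * y * (t * b) := by
      calc n i = x⁻¹ * (x * n i) := by group
        _ = _ := by rw [e]; group
    have h1 : cj (t * b) P ≤ P := by
      rw [cj_mul, cj_eq_of_mem (hx i hb)]; exact hT t ht
    rw [e1, cj_mul]
    refine (cj_mono _ h1).trans ?_
    rw [cj_eq_of_mem (mul_mem (inv_mem (hx i hx')) (hy i hy'))]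
  rw [← top_le_iff, ← hG]
  refine RGD.Sup_le ?_
  rintro _ ⟨w, i, rfl⟩
  obtain ⟨k, hkc, hk⟩ := exists_rp_closure (cs := cs) (hN := R.nsys) w
  rw [← R.conj_rp hk (isRoot_sr cs h i)]
  refine (cj_mono k (hx i)).trans ?_
  have hfix : ∀ i, cj (n i) P = P := by
    intro i
    apply le_antisymm (hn i)
    have h2 : n i * n i ∈ T := by
      have := R.nsys.rel i i
      rwa [M.diagonal, pow_one] at this
    have h3 : cj (n i * n i) P = P := by
      apply le_antisymm (hT _ h2)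
      have h4 := cj_mono (n i * n i) (hT _ (inv_mem h2))
      rwa [cj_cj_inv] at h4
    calc P = cj (n i) (cj (n i) P) := by rw [← cj_mul, h3]
      _ ≤ cj (n i) P := cj_mono _ (hn i)
  have : cj k P = P := by
    clear hk
    induction hkc using Subgroup.closure_induction with
    | mem z hz => obtain ⟨i, rfl⟩ := hz; exact hfix i
    | one => exact cj_one P
    | mul a b _ _ ha hb => rw [cj_mul, hb, ha]
    | inv a _ ha =>
      conv_lhs => rw [← ha]
      rw [cj_inv_cj]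
  exact this.le

end

section

variable {F : Type*} [Field F] {x y hh : I → F → Y} {χ : I → Y → F} {D : I → I → ℕ}
variable [Finite W] (R : RGD cs h p T n X) (E : FD cs h T X x y hh χ D)

include R E

theorem Big.st {g g' : Y} (hg : IsConj g g') (hb : Big cs h T X g') : ∃ t a b, St cs h T X x y g t a b ∧
    ∃ v ∈ UU cs h (fun r => X (-r)), ∃ u ∈ UU cs h X, g' = v * t * u ∧
      (∀ j, Cf cs h (fun r => X (-r)) y j v (a j)) ∧ ∀ j, Cf cs h X x j u (b j) := by
  obtain ⟨v, hv, t, ht, u, hu, rfl⟩ := hb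
  have h1 : ∀ j, ∃ c, Cf cs h (fun r => X (-r)) y j v c := fun j => cf_exists (opp R) E.py j hv
  have h2 : ∀ j, ∃ c, Cf cs h X x j u c := fun j => cf_exists R E.px j hu
  choose a ha using h1
  choose b hb using h2
  exact ⟨t, a, b, ⟨ht, v, hv, u, hu, hg, ha, hb⟩, v, hv, u, hu, rfl, ha, hb⟩

/-- **A conjugate with a nontrivial rank one part.** -/
theorem exists_start (hG : RGD.Sup X {r | IsRoot cs h r} = ⊤) (hcore : (RGD.B cs h T X).normalCore = ⊥) {g : Y}
    (hg : g ≠ 1) : ∃ t a b k, St cs h T X x y g t a b ∧ ¬ (a k = 0 ∧ b k = 0 ∧ χ k t = 1) := by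
  by_contra hcon
  push Not at hcon
  have hGG : GG cs h T X = ⊤ := by
    rw [eq_top_iff, ← hG]; exact le_sup_right
  -- conjugation by the simple root groups preserves the big cell
  have hx : ∀ z, IsConj g z → Big cs h T X z → ∀ w, (∃ i, w ∈ X (sr i) ∨ w ∈ X (-sr i)) →
      Big cs h T X (w * z * w⁻¹) := by
    rintro z hz hb w ⟨i, hw⟩
    obtain ⟨t, a, b, hS, v, hv, u, hu, rfl, ha, hb'⟩ := Big.st R E hz hb
    obtain ⟨h1, h2, h3⟩ := hcon t a b i hS
    have h4 := ha i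
    have h5 := hb' i
    rw [h1] at h4
    rw [h2] at h5
    have hvQ := (cf_zero_iff (opp R) E.py hv).1 h4
    have huQ := (cf_zero_iff R E.px hu).1 h5
    have ht := hS.1
    have hwt : w * t * w⁻¹ = t := by
      rcases hw with hw | hw
      · obtain ⟨s, rfl⟩ := (E.px.mem i w).1 hw
        have h6 := E.tx i t ht s
        rw [h3, one_mul] at h6
        rw [mul_inv_eq_iff_eq_mul] at h6 ⊢
        exact h6.symm
      · obtain ⟨s, rfl⟩ := (E.py.mem i w).1 hw
        have h6 := E.ty i t ht s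
        rw [h3, inv_one, one_mul] at h6
        rw [mul_inv_eq_iff_eq_mul] at h6 ⊢
        exact h6.symm
    have e : w * (v * t * u) * w⁻¹ = (w * v * w⁻¹) * (w * t * w⁻¹) * (w * u * w⁻¹) := by group
    rw [e, hwt]
    refine ⟨_, QQ_le i ?_, t, ht, _, QQ_le i ?_, rfl⟩
    · rcases hw with hw | hw
      · exact conj_Q' (opp R) (by rw [neg_neg]; exact hw) hvQ
      · exact conj_Q (opp R) hw hvQ
    · rcases hw with hw | hw
      · exact conj_Q R hw huQ
      · exact conj_Q' R hw huQ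
  obtain ⟨g', hg', hb'⟩ := exists_conj_cell R hGG g
  have hall : ∀ w : Y, ∀ z, IsConj g z → Big cs h T X z → Big cs h T X (w * z * w⁻¹) := by
    intro w
    have hw : w ∈ Subgroup.closure {y : Y | ∃ i, y ∈ X (sr i) ∨ y ∈ X (-sr i)} := by
      rw [closure_eq R hG]; exact Subgroup.mem_top w
    induction hw using Subgroup.closure_induction_left with
    | one => intro z _ hb; rwa [one_mul, inv_one, mul_one]
    | mul_left a ha b _ ih =>
      intro z hz hb
      have h1 := ih z hz hb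
      have h2 : IsConj g (b * z * b⁻¹) := hz.trans (isConj_iff.2 ⟨b, rfl⟩)
      have h3 := hx _ h2 h1 a ha
      have e : a * b * z * (a * b)⁻¹ = a * (b * z * b⁻¹) * a⁻¹ := by group
      rwa [e]
    | inv_mul_cancel a ha b _ ih =>
      intro z hz hb
      have h1 := ih z hz hb
      have h2 : IsConj g (b * z * b⁻¹) := hz.trans (isConj_iff.2 ⟨b, rfl⟩)
      have h3 := hx _ h2 h1 a⁻¹ (by
        obtain ⟨i, h4 | h4⟩ := ha
        · exact ⟨i, Or.inl (inv_mem h4)⟩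
        · exact ⟨i, Or.inr (inv_mem h4)⟩)
      have e : a⁻¹ * b * z * (a⁻¹ * b)⁻¹ = a⁻¹ * (b * z * b⁻¹) * (a⁻¹)⁻¹ := by group
      rwa [e]
  have hbig : ∀ z, IsConj g z → Big cs h T X z := by
    intro z hz
    obtain ⟨c, hc⟩ := isConj_iff.1 (hg'.symm.trans hz)
    rw [← hc]
    exact hall c g' hg' hb'
  apply hg
  rw [← Subgroup.mem_bot, ← hcore]
  intro c
  exact mem_B_of_all R hGG fun z hz => hbig z ((isConj_iff.2 ⟨c, rfl⟩).trans hz)

end

end Cfsg.Agent.H155.TG
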