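import Mathlib
import Cfsg.Agent.KFacts.RgdChevCoord

/-!
# The rank one relation in `SL_2` (helper155)
-/

set_option autoImplicit false

namespace Cfsg.Agent.H155.TG

open Cfsg.Agent.KFacts.RgdChevCoord

variable {K : Type*} [Field K]

/-- the reflection elements -/
def sN (c : K) : Matrix.SpecialLinearGroup (Fin 2) K := sx c * (sy (-c⁻¹) * sx c)

/-- the diagonal elements -/
def sH (c : K) : Matrix.SpecialLinearGroup (Fin 2) K := sN c * sN (-1)

theorem sH_val {c : K} (hc : c ≠ 0) : (sH c).1 = !![c, 0; 0, c⁻¹] := by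
  change (!![1, c; 0, 1] * (!![1, 0; -c⁻¹, 1] * !![1, c; 0, 1])) *
    (!![1, -1; 0, 1] * (!![1, 0; -(-1 : K)⁻¹, 1] * !![1, -1; 0, 1])) = _
  have e1 : (-(-1 : K)⁻¹) = 1 := by rw [inv_neg, inv_one, neg_neg]
  have e0 : (-1 : K) + 1 = 0 := neg_add_cancel 1
  rw [e1]
  ext i j
  fin_cases i <;> fin_cases j
  · simp [hc, e0]
  · simp [hc, e0]
  · simp [hc, e0]
  · simp [hc, e0]

theorem sl_rank1 {a b : K} (hab : 1 + b * a ≠ 0) :
    sx b * sy a = sy (a / (1 + b * a)) * sH (1 + b * a) * sx (b / (1 + b * a)) := by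
  apply Subtype.ext
  change !![1, b; 0, 1] * !![1, 0; a, 1] =
    !![1, 0; a / (1 + b * a), 1] * (sH (1 + b * a)).1 * !![1, b / (1 + b * a); 0, 1]
  rw [sH_val hab]
  have hab' : 1 + a * b ≠ 0 := by rwa [mul_comm a b]
  ext i j
  fin_cases i <;> fin_cases j
  · simp
  · simp
    field_simp
  · simp
    field_simp
  · simp
    field_simp
    ring

theorem sH_mul {c d : K} (hc : c ≠ 0) (hd : d ≠ 0) : sH (c * d) = sH c * sH d := by
  apply Subtype.ext
  change (sH (c * d)).1 = (sH c).1 * (sH d).1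
  rw [sH_val hc, sH_val hd, sH_val (mul_ne_zero hc hd)]
  ext i j
  fin_cases i <;> fin_cases j <;> simp [mul_comm]

end Cfsg.Agent.H155.TG
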