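import Cfsg.Agent.H155.TG.Asm
import Cfsg.Agent.H155.TG.SLTwo
import Cfsg.Agent.KFacts.RgdChevCoord

/-!
# Field coordinates of the Chevalley groups of exceptional type (helper155)

`fd` : `FD` for `D.group K`.
-/

set_option autoImplicit false
set_option linter.unusedSectionVars false

namespace Cfsg.Agent.H155.TG

open CoxeterSystem Cfsg.Agent.ChevalleyStructure.CoxeterGeom Cfsg.Agent.Tits.Roots Cfsg.Agent.Tits.Core
  Cfsg.Agent.Nodes.Reps Cfsg.Agent.Nodes.BNOf
  Cfsg.Agent.Nodes.OppDec Cfsg.Agent.Nodes.RGDChev Cfsg.Agent.KFacts.RgdOpp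
  Cfsg.Agent.KFacts.RgdAut Cfsg.Agent.KFacts.RgdDiag Cfsg.Agent.KFacts.RgdRigid
  Cfsg.Agent.KFacts.RgdField Cfsg.Agent.KFacts.RgdTau Cfsg.Agent.KFacts.RgdChevCoord
  Cfsg.Agent.Nodes.FreeTorus
open Cfsg.Lie Cfsg.Agent.ChevalleyStructure Cfsg.Agent.ChevalleyStructure.Elts
  Cfsg.Agent.ChevalleyStructure.RootVec Cfsg.Agent.ChevalleyStructure.RootVecTab
  Cfsg.Agent.ChevalleyStructure.NPerm Cfsg.Agent.ChevalleyStructure.CoxeterGeomTypes
open scoped commutatorElement

universe u

variable {D : ChevalleyDatum} {l : ℕ} {M : CoxeterMatrix (Fin l)} (hp : IsType D l M) {K : Type u} [Field K]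
  {W : Type*} [Group W] (cs : CoxeterSystem M W)

/-- the degree bounds -/
def DD (D : ChevalleyDatum) (l : ℕ) (k j : Fin l) : ℕ := (-(cartanOf D l k j)).toNat

theorem coe_sr (i : Fin l) (s : K) : ((xc hp (sr i) s : ↥(D.group K)) : GL D.Idx K) = xG hp.inList (D.simple i) s := by
  rw [← vec_simple hp i, coe_xc hp (simple_lt hp.inList (lt_rank hp i))]

theorem coe_neg_sr (i : Fin l) (s : K) :
    ((xc hp (-sr i) s : ↥(D.group K)) : GL D.Idx K) = xG hp.inList (D.neg (D.simple i)) s := by
  have h := simple_lt hp.inList (lt_rank hp i)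
  rw [← vec_simple hp i, ← vec_neg hp h, coe_xc hp (neg_lt hp.inList h)]

theorem coe_hc (i : Fin l) (c : K) :
    ((hc hp i c : ↥(D.group K)) : GL D.Idx K) = hG hp.inList (D.simple i) c := rfl

/-- the homomorphisms from `SL_2` -/
theorem exists_phi (i : Fin l) : ∃ φ : Matrix.SpecialLinearGroup (Fin 2) K →* GL D.Idx K,
    (∀ s, φ (sx s) = xG hp.inList (D.simple i) s) ∧ (∀ s, φ (sy s) = xG hp.inList (D.neg (D.simple i)) s) ∧
    ∀ c, φ (sH c) = hG hp.inList (D.simple i) c := by
  obtain ⟨φ, -, hxy⟩ := Cfsg.Agent.S1030.result (F := K) D hp.inList (D.simple i) (simple_lt hp.inList (lt_rank hp i))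
  have hsx : ∀ u : K, φ (sx u) = xG hp.inList (D.simple i) u := fun u =>
    Units.ext (by rw [(hxy (sx u) u).1 rfl, coe_xG])
  have hsy : ∀ u : K, φ (sy u) = xG hp.inList (D.neg (D.simple i)) u := fun u =>
    Units.ext (by rw [(hxy (sy u) u).2 rfl, coe_xG])
  refine ⟨φ, hsx, hsy, fun c => ?_⟩
  unfold sH sN
  rw [map_mul, map_mul, map_mul, map_mul, map_mul, hsx, hsy, hsx, hsy, hG_def, nG_def, nG_def]

theorem nn_mem_LL (i : Fin l) : nc hp K i ∈ LL (XX D l K) (sr i) := by
  have hx : ∀ u : K, (⟨xG hp.inList (D.simple i) u, xG_mem_group hp.inList _ u⟩ : ↥(D.group K)) ∈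
      XX D l K (sr i) ⊔ XX D l K (-sr i) := fun u => Subgroup.mem_sup_left (by
    rw [Subgroup.mem_subgroupOf, XV_sr hp]; exact xG_mem_rootSubgroup hp.inList _ u)
  have hy : ∀ u : K, (⟨xG hp.inList (D.neg (D.simple i)) u, xG_mem_group hp.inList _ u⟩ : ↥(D.group K)) ∈
      XX D l K (sr i) ⊔ XX D l K (-sr i) := fun u => Subgroup.mem_sup_right (by
    rw [Subgroup.mem_subgroupOf, XV_neg_sr hp]; exact xG_mem_rootSubgroup hp.inList _ u)
  have e : nc hp K i =
      (⟨xG hp.inList (D.simple i) 1, xG_mem_group hp.inList _ 1⟩ *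
        (⟨xG hp.inList (D.neg (D.simple i)) (-1⁻¹), xG_mem_group hp.inList _ _⟩ *
          ⟨xG hp.inList (D.simple i) 1, xG_mem_group hp.inList _ 1⟩)) := by
    apply Subtype.ext
    show nG hp.inList (D.simple i) 1 = _
    rw [nG_def]
    rfl
  rw [e]
  exact mul_mem (hx _) (mul_mem (hy _) (hx _))

include hp cs in
/-- the torus is generated by the coroot elements -/
theorem TT_le [Finite K] (p : ℕ) [Fact p.Prime] [CharP K p] :
    TT D K ≤ Subgroup.closure {t | ∃ i c, c ≠ 0 ∧ hc hp i c = t} := by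
  have := finite_W hp cs
  have h1 := Cfsg.Agent.H945.T_inf_Sup (rgd (K := K) hp cs p) (nn_mem_LL hp)
  have h2 : RGD.Sup (XX D l K) {r | IsRoot cs hp.isCartan r} = ⊤ := G1_eq_top hp cs
  rw [h2, inf_top_eq] at h1
  refine h1.trans (iSup_le fun i => ?_)
  intro t ht
  obtain ⟨c, hc0, e⟩ := (coroot_mem hp cs p i t).1 ht
  exact Subgroup.subset_closure ⟨i, c, hc0, e⟩

include hp cs in
theorem ch_neg [Finite K] (p : ℕ) [Fact p.Prime] [CharP K p] {r : ℕ} (hr : r < D.nroots) {t : ↥(D.group K)}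
    (ht : t ∈ TT D K) : ch hp (-vec D l r) t = (ch hp (vec D l r) t)⁻¹ := by
  have C := coords (K := K) hp cs p
  have hroot := isRoot_vec hp cs hr
  have c1 := C.coord _ hroot
  have c2 := C.coord _ hroot.neg
  rw [← vec_neg hp hr] at c2 ⊢
  have hn := neg_lt hp.inList hr
  have key : ∀ t ∈ Subgroup.closure {t : ↥(D.group K) | ∃ i c, c ≠ 0 ∧ hc hp i c = t},
      t ∈ TT D K → ch hp (vec D l (D.neg r)) t * ch hp (vec D l r) t = 1 := by
    intro t ht
    have hle : Subgroup.closure {t : ↥(D.group K) | ∃ i c, c ≠ 0 ∧ hc hp i c = t} ≤ TT D K := by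
      rw [Subgroup.closure_le]
      rintro _ ⟨i, c, hc0, rfl⟩
      exact hc_mem hp i hc0
    induction ht using Subgroup.closure_induction with
    | mem t ht =>
      intro _
      obtain ⟨i, c, hc0, rfl⟩ := ht
      rw [ch_hc hp i hc0 hr, ch_hc hp i hc0 hn]
      have e : D.cartan i (D.neg r) = -D.cartan i r := by
        rw [← pairing_vec hp i hn, ← pairing_vec hp i hr, vec_neg hp hr]
        unfold pairing
        simp [Finset.sum_neg_distrib]
      rw [e, zpow_neg, inv_mul_cancel₀ (zpow_ne_zero _ hc0)]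
    | one =>
      intro h1
      have h3 := c1.chi_mul h1 h1
      have h4 := c2.chi_mul h1 h1
      rw [mul_one] at h3 h4
      have h5 := c1.chi_ne_zero h1
      have h6 := c2.chi_ne_zero h1
      rw [(mul_eq_left₀ h5).1 h3.symm, (mul_eq_left₀ h6).1 h4.symm, mul_one]
    | mul a b ha hb iha ihb =>
      intro _
      have ha' := hle ha
      have hb' := hle hb
      rw [c1.chi_mul ha' hb', c2.chi_mul ha' hb']
      calc _ = (ch hp (vec D l (D.neg r)) a * ch hp (vec D l r) a) *
          (ch hp (vec D l (D.neg r)) b * ch hp (vec D l r) b) := by ring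
        _ = 1 := by rw [iha ha', ihb hb', one_mul]
    | inv a ha iha =>
      intro _
      have ha' := hle ha
      have h1 : (1 : ↥(D.group K)) ∈ TT D K := one_mem _
      have h3 := c1.chi_mul h1 h1
      have h4 := c2.chi_mul h1 h1
      rw [mul_one] at h3 h4
      have h5 := c1.chi_ne_zero h1
      have h6 := c2.chi_ne_zero h1
      have h7 := (mul_eq_left₀ h5).1 h3.symm
      have h8 := (mul_eq_left₀ h6).1 h4.symm
      have h9 := c1.chi_mul (inv_mem ha') ha'
      have h10 := c2.chi_mul (inv_mem ha') ha'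
      rw [inv_mul_cancel] at h9 h10
      rw [h7] at h9
      rw [h8] at h10
      have h11 := iha ha'
      calc _ = (ch hp (vec D l (D.neg r)) a⁻¹ * ch hp (vec D l r) a⁻¹) *
          (ch hp (vec D l (D.neg r)) a * ch hp (vec D l r) a) := by rw [h11, mul_one]
        _ = (ch hp (vec D l (D.neg r)) a⁻¹ * ch hp (vec D l (D.neg r)) a) *
          (ch hp (vec D l r) a⁻¹ * ch hp (vec D l r) a) := by ring
        _ = 1 := by rw [← h9, ← h10, one_mul]
  exact eq_inv_of_mul_eq_one_left (key t (TT_le hp cs p ht) ht)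

/-! ### polynomial dependence -/

section Poly

theorem natDegree_sum_le {R : Type*} [Semiring R] {d : ℕ} (L : List (Polynomial R))
    (hL : ∀ P ∈ L, P.natDegree ≤ d) : L.sum.natDegree ≤ d := by
  induction L with
  | nil => simp
  | cons P L ih =>
    rw [List.sum_cons]
    exact (Polynomial.natDegree_add_le _ _).trans (max_le (hL P List.mem_cons_self)
      (ih fun Q hQ => hL Q (List.mem_cons_of_mem _ hQ)))

/-- a word of root elements as an element of the group -/
theorem cf_word [Finite K] (p : ℕ) [Fact p.Prime] [CharP K p] (PY : Par (fun r => XX D l K (-r))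
    (fun i (s : K) => xc hp (-sr i) s)) (j : Fin l) (w : List (ℕ × K))
    (hw : ∀ c ∈ w, c.1 < D.nroots ∧ vec D l c.1 ≤ 0) :
    ∃ g : ↥(D.group K), (g : GL D.Idx K) = wordG hp.inList w ∧
      Cf cs hp.isCartan (fun r => XX D l K (-r)) (fun i (s : K) => xc hp (-sr i) s) j g
        ((w.map fun c => if c.1 = D.neg (D.simple j) then c.2 else 0).sum) := by
  have := finite_W hp cs
  have R := opp (rgd (K := K) hp cs p)
  induction w with
  | nil => exact ⟨1, rfl, cf_one PY j⟩
  | cons c w ih =>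
    obtain ⟨g, hg, hc⟩ := ih fun d hd => hw d (List.mem_cons_of_mem _ hd)
    obtain ⟨h1, h2⟩ := hw c List.mem_cons_self
    refine ⟨⟨xG hp.inList c.1 c.2, xG_mem_group hp.inList _ _⟩ * g, ?_, ?_⟩
    · rw [wordG_cons, ← hg]; rfl
    · rw [List.map_cons, List.sum_cons]
      refine cf_mul R PY ?_ hc
      by_cases hc1 : c.1 = D.neg (D.simple j)
      · rw [if_pos hc1]
        have e : (⟨xG hp.inList c.1 c.2, xG_mem_group hp.inList _ _⟩ : ↥(D.group K)) = xc hp (-sr j) c.2 := by
          apply Subtype.ext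
          rw [coe_neg_sr, ← hc1]
        rw [e]
        exact cf_self PY j _
      · rw [if_neg hc1]
        refine cf_of_mem_Q PY ?_
        refine RGD.le_Sup (X := fun r => XX D l K (-r)) (S := RGD.PosNe cs hp.isCartan j) (z := -vec D l c.1)
          ⟨(isRoot_vec hp cs h1).neg, neg_nonneg.2 h2, ?_⟩ ?_
        · intro h3
          apply hc1
          have h4 := simple_lt hp.inList (lt_rank hp j)
          apply vec_inj hp h1 (neg_lt hp.inList h4)
          rw [vec_neg hp h4, vec_simple hp j, ← h3, _root_.neg_neg]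
        · show _ ∈ XX D l K (- -vec D l c.1)
          rw [_root_.neg_neg, Subgroup.mem_subgroupOf, XV_vec hp K h1]
          exact xG_mem_rootSubgroup hp.inList _ _

theorem poly [Finite K] (p : ℕ) [Fact p.Prime] [CharP K p] (PY : Par (fun r => XX D l K (-r))
    (fun i (s : K) => xc hp (-sr i) s)) (k j : Fin l) (hjk : j ≠ k) (r : Fin l → ℤ)
    (hr : r ∈ RGD.PosNe cs hp.isCartan k) (v : ↥(D.group K)) (hv : v ∈ XX D l K (-r)) :
    ∃ P : Polynomial K, P.natDegree ≤ DD D l k j ∧
      ∀ s, Cf cs hp.isCartan (fun r => XX D l K (-r)) (fun i (s : K) => xc hp (-sr i) s) j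
        (xc hp (sr k) (-s) * v * xc hp (sr k) s) (P.eval s) := by
  classical
  have := finite_W hp cs
  have R := rgd (K := K) hp cs p
  have hop := opp R
  obtain ⟨hroot, hr0, hrk⟩ := hr
  obtain ⟨σ, hσ, e⟩ := (isRoot_iff hp cs _).1 hroot.neg
  obtain rfl : r = -vec D l σ := by rw [e, _root_.neg_neg]
  rw [_root_.neg_neg, Subgroup.mem_subgroupOf, XV_vec hp K hσ, mem_rootSubgroup_iff hp.inList] at hv
  obtain ⟨u, hu⟩ := hv
  have hκ := simple_lt hp.inList (lt_rank hp k)
  obtain ⟨κ, hκd⟩ : ∃ κ, κ = D.simple k := ⟨_, rfl⟩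
  rw [← hκd] at hκ
  have hσκ : σ ≠ κ := by
    rintro rfl
    rw [hκd, vec_simple hp k] at hr0
    have := hr0 k
    rw [Pi.neg_apply, sr_self] at this
    exact absurd this (by norm_num)
  have hσκ' : σ ≠ D.neg κ := by
    rintro rfl
    apply hrk
    rw [vec_neg hp hκ, _root_.neg_neg, hκd, vec_simple hp k]
  have hvec0 : vec D l σ ≤ 0 := neg_nonneg.1 hr0
  -- the terms
  have hterm : ∀ c ∈ D.commTerms κ σ, c.1 < D.nroots ∧ vec D l c.1 ≤ 0 ∧
      (c.1 = D.neg (D.simple j) → c.2.2.1 ≤ DD D l k j) := by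
    rintro ⟨ρ, C, a, b⟩ hc
    obtain ⟨h1, -, -, ha, hb, hvec⟩ := commTerms_rt hp.checked hc
    have hvec' : ∀ i : Fin l, vec D l ρ i = (a : ℤ) * sr k i + (b : ℤ) * vec D l σ i := by
      intro i
      rw [vec_apply, hvec, ← vec_apply, hκd, vec_simple hp k, ← vec_apply]
    have hroot' := isRoot_vec hp cs h1
    have hneg : vec D l ρ ≤ 0 := by
      rcases hroot'.pos_or_neg with h0 | h0
      · exfalso
        -- `σ` vanishes outside `k`
        have h2 : ∀ i, i ≠ k → (-vec D l σ) i = 0 := by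
          intro i hi
          have h3 := hvec' i
          rw [sr_ne hi, mul_zero, zero_add] at h3
          have h4 := h0 i
          rw [h3] at h4
          have h5 := hvec0 i
          have h6 : (0 : ℤ) < b := by exact_mod_cast hb
          rw [Pi.neg_apply]
          have h7 : (0 : Fin l → ℤ) i = 0 := rfl
          rw [h7] at h4 h5
          nlinarith
        exact hrk (hroot.eq_sr hr0 k h2)
      · exact h0
    refine ⟨h1, hneg, fun hρ => ?_⟩
    simp only at hρ ⊢
    subst hρ
    have hj := simple_lt hp.inList (lt_rank hp j)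
    rw [vec_neg hp hj, vec_simple hp j] at hvec'
    -- `b = 1`, `-vec σ = sr j + a sr k`
    have hb1 : (b : ℤ) * (-vec D l σ) j = 1 := by
      have := hvec' j
      rw [Pi.neg_apply, sr_self, sr_ne hjk] at this
      rw [Pi.neg_apply]; linarith
    have hb2 : (b : ℤ) = 1 := by
      have h3 : (b : ℤ) ∣ 1 := ⟨_, hb1.symm⟩
      exact Int.eq_one_of_dvd_one (by positivity) h3
    have hform : -vec D l σ = sr j + (a : ℤ) • sr k := by
      funext i
      have := hvec' i
      rw [Pi.neg_apply, hb2] at this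
      rw [Pi.neg_apply, Pi.add_apply, Pi.smul_apply, smul_eq_mul]
      linarith
    -- reflect in `k`
    have h4 : -vec D l σ ≠ sr k := hrk
    have h5 := hroot.simple_nonneg hr0 k h4
    rw [hform, rep_simple_eq] at h5
    have h6 := h5 k
    have h7 : (0 : Fin l → ℤ) k = 0 := rfl
    rw [h7, Pi.sub_apply, Pi.smul_apply, smul_eq_mul, sr_self, mul_one, Pi.add_apply, Pi.smul_apply, smul_eq_mul,
      sr_self, mul_one, sr_ne (Ne.symm hjk), zero_add] at h6
    have h8 : pairing (cartanOf D l) k (sr j + (a : ℤ) • sr k) = cartanOf D l k j + a * 2 := by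
      unfold pairing
      have e1 : ∀ i, cartanOf D l k i * (sr j + (a : ℤ) • sr k) i =
          cartanOf D l k i * sr j i + a * (cartanOf D l k i * sr k i) := by
        intro i
        rw [Pi.add_apply, Pi.smul_apply, smul_eq_mul]
        ring
      rw [Finset.sum_congr rfl fun i _ => e1 i, Finset.sum_add_distrib, ← Finset.mul_sum]
      congr 1
      · rw [Finset.sum_eq_single j]
        · rw [sr_self, mul_one]
        · intro i _ hi; rw [sr_ne hi, mul_zero]
        · intro h; exact absurd (Finset.mem_univ _) h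
      · rw [Finset.sum_eq_single k]
        · rw [sr_self, mul_one, hp.isCartan.diag]
        · intro i _ hi; rw [sr_ne hi, mul_zero]
        · intro h; exact absurd (Finset.mem_univ _) h
    rw [h8] at h6
    have h9 : (0 : ℤ) ≤ (a : ℤ) - (cartanOf D l k j + (a : ℤ) * 2) := h6
    unfold DD
    clear h6 h8
    omega
  -- the polynomial
  obtain ⟨P₂, hP₂⟩ : ∃ P : Polynomial K, P = ((D.commTerms κ σ).map fun c => if c.1 = D.neg (D.simple j) then
        Polynomial.C ((c.2.1 : K) * u ^ c.2.2.2) * (-Polynomial.X) ^ c.2.2.1 else 0).sum := ⟨_, rfl⟩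
  obtain ⟨u₁, hu₁⟩ : ∃ u₁ : K, u₁ = if σ = D.neg (D.simple j) then u else 0 := ⟨_, rfl⟩
  have hdeg : P₂.natDegree ≤ DD D l k j := by
    rw [hP₂]
    refine natDegree_sum_le _ fun P hP => ?_
    rw [List.mem_map] at hP
    obtain ⟨c, hc, rfl⟩ := hP
    split_ifs with h1
    · refine (Polynomial.natDegree_C_mul_le _ _).trans ((Polynomial.natDegree_pow_le).trans ?_)
      rw [Polynomial.natDegree_neg, Polynomial.natDegree_X, mul_one]
      exact (hterm c hc).2.2 h1
    · simp
  refine ⟨Polynomial.C u₁ + P₂, (Polynomial.natDegree_add_le _ _).trans (max_le (by simp) hdeg), fun s => ?_⟩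
  obtain ⟨g, hg, hcf⟩ := cf_word hp cs p PY j ((σ, u) :: D.commWord K κ σ s u) (by
    intro c hc
    rw [List.mem_cons] at hc
    rcases hc with rfl | hc
    · exact ⟨hσ, hvec0⟩
    · have hc' : c ∈ (D.commTerms κ σ).map fun c => (c.1, (c.2.1 : K) * (-s) ^ c.2.2.1 * u ^ c.2.2.2) := hc
      rw [List.mem_map] at hc'
      obtain ⟨d, hd, rfl⟩ := hc'
      exact ⟨(hterm d hd).1, (hterm d hd).2.1⟩)
  have e1 : xc hp (sr k) (-s) * v * xc hp (sr k) s = g := by
    apply Subtype.ext
    rw [Subgroup.coe_mul, Subgroup.coe_mul, coe_sr, coe_sr, hg, wordG_cons, ← comm_xG hp hκ hσ hσκ hσκ',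
      commutatorElement_def, ← hκd, ← hu, inv_inv, inv_inv]
    have e2 : xG hp.inList κ (-s) = (xG hp.inList κ s)⁻¹ := (xG_inv hp.inList κ s).symm
    rw [e2]
    group
  have e2 : (Polynomial.C u₁ + P₂).eval s =
      ((((σ, u) :: D.commWord K κ σ s u).map fun c => if c.1 = D.neg (D.simple j) then c.2 else 0).sum) := by
    rw [Polynomial.eval_add, Polynomial.eval_C, List.map_cons, List.sum_cons, hu₁]
    congr 1
    have e3 : D.commWord K κ σ s u =
      (D.commTerms κ σ).map fun c => (c.1, (c.2.1 : K) * (-s) ^ c.2.2.1 * u ^ c.2.2.2) := rfl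
    rw [e3, List.map_map, hP₂]
    have e4 : ∀ L : List (ℕ × ℤ × ℕ × ℕ), Polynomial.eval s (L.map fun c => if c.1 = D.neg (D.simple j) then
        Polynomial.C ((c.2.1 : K) * u ^ c.2.2.2) * (-Polynomial.X) ^ c.2.2.1 else 0).sum =
        (L.map ((fun c : ℕ × K => if c.1 = D.neg (D.simple j) then c.2 else 0) ∘
          fun c => (c.1, (c.2.1 : K) * (-s) ^ c.2.2.1 * u ^ c.2.2.2))).sum := by
      intro L
      induction L with
      | nil => simp
      | cons c L ih =>
        rw [List.map_cons, List.sum_cons, Polynomial.eval_add, ih, List.map_cons, List.sum_cons]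
        congr 1
        simp only [Function.comp_apply]
        split_ifs with h1
        · simp only [Polynomial.eval_mul, Polynomial.eval_C, Polynomial.eval_pow, Polynomial.eval_neg,
            Polynomial.eval_X]
          ring
        · simp
    exact e4 _
  rw [e1, e2]
  exact hcf

end Poly

/-- **The field coordinates of `D.group K`.** -/
theorem fd [Finite K] (p : ℕ) [Fact p.Prime] [CharP K p] :
    FD cs hp.isCartan (TT D K) (XX D l K) (fun i (s : K) => xc hp (sr i) s) (fun i (s : K) => xc hp (-sr i) s)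
      (hc hp) (fun i => ch hp (sr i)) (DD D l) := by
  have C := coords (K := K) hp cs p
  have px : Par (XX D l K) (fun i (s : K) => xc hp (sr i) s) := by
    refine ⟨fun i u => (C.coord _ (isRoot_sr cs _ i)).mem u, fun i s t => (C.coord _ (isRoot_sr cs _ i)).add s t,
      fun i s h1 => ?_⟩
    exact (C.coord _ (isRoot_sr cs _ i)).inj (h1.trans (C.coord _ (isRoot_sr cs _ i)).zero.symm)
  have py : Par (fun r => XX D l K (-r)) (fun i (s : K) => xc hp (-sr i) s) := by
    refine ⟨fun i u => (C.coord _ (isRoot_sr cs _ i).neg).mem u,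
      fun i s t => (C.coord _ (isRoot_sr cs _ i).neg).add s t, fun i s h1 => ?_⟩
    exact (C.coord _ (isRoot_sr cs _ i).neg).inj (h1.trans (C.coord _ (isRoot_sr cs _ i).neg).zero.symm)
  have hchi : ∀ i j c, c ≠ 0 → ch hp (sr j) (hc hp i c : ↥(D.group K)) = c ^ cartanOf D l i j := by
    intro i j c hc0
    exact (coroots (K := K) hp cs p).char j i c hc0
  refine ⟨px, py, ?_, fun i c hc0 => hc_mem hp i hc0, ?_, ?_, ?_, ?_, chd_of hchi hp.isCartan,
    chn_of hchi hp.isCartan, ?_⟩
  · intro i a b hab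
    obtain ⟨φ, h1, h2, h3⟩ := exists_phi (K := K) hp i
    apply Subtype.ext
    rw [Subgroup.coe_mul, Subgroup.coe_mul, Subgroup.coe_mul, coe_sr, coe_sr, coe_neg_sr, coe_neg_sr, coe_hc, ← h1,
      ← h1, ← h2, ← h2, ← h3, ← map_mul, ← map_mul, ← map_mul, sl_rank1 hab]
  · intro i c d hc0 hd0
    obtain ⟨φ, h1, h2, h3⟩ := exists_phi (K := K) hp i
    apply Subtype.ext
    rw [Subgroup.coe_mul, coe_hc, coe_hc, coe_hc, ← h3, ← h3, ← h3, ← map_mul, sH_mul hc0 hd0]
  · intro i t ht
    exact (C.coord _ (isRoot_sr cs _ i)).chi_ne_zero ht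
  · intro i t ht s
    exact (C.coord _ (isRoot_sr cs _ i)).act t ht s
  · intro i t ht s
    have h1 := (C.coord _ (isRoot_sr cs _ i).neg).act t ht s
    have h2 := ch_neg hp cs p (simple_lt hp.inList (lt_rank hp i)) ht
    rw [vec_simple hp i] at h2
    rw [h2] at h1
    exact h1
  · intro k j hjk r hr v hv
    exact poly hp cs p py k j hjk r hr v hv

end Cfsg.Agent.H155.TG
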