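import Cfsg.Agent.H155.TG.Chev
import Cfsg.Agent.TitsThree.KExcRT
import Cfsg.Agent.AGraded.Hom
import Cfsg.Agent.H135.KTwoB
import Cfsg.Agent.KFacts.RgdCent
import Cfsg.Agent.LieClassical.SLGen

/-!
# The Levi data of the Chevalley groups of exceptional type from a table (helper155)
-/

set_option autoImplicit false
set_option linter.unusedSectionVars false

namespace Cfsg.Agent.H155.TG

open CoxeterSystem Cfsg.Agent.ChevalleyStructure.CoxeterGeom Cfsg.Agent.Tits.Roots Cfsg.Agent.Tits.Core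
  Cfsg.Agent.Nodes.Reps Cfsg.Agent.Nodes.BNOf Cfsg.Agent.Nodes.StabComb Cfsg.Agent.Nodes.Bruhat
  Cfsg.Agent.Nodes.OppDec Cfsg.Agent.Nodes.RGDChev Cfsg.Agent.KFacts.RgdOpp
  Cfsg.Agent.KFacts.RgdAut Cfsg.Agent.KFacts.RgdDiag Cfsg.Agent.KFacts.RgdRigid
  Cfsg.Agent.KFacts.RgdField Cfsg.Agent.KFacts.RgdTau Cfsg.Agent.KFacts.RgdChevCoord
  Cfsg.Agent.Nodes.FreeTorus
open Cfsg.Lie Cfsg.Agent.ChevalleyStructure Cfsg.Agent.ChevalleyStructure.Elts
  Cfsg.Agent.ChevalleyStructure.RootVec Cfsg.Agent.ChevalleyStructure.RootVecTab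
  Cfsg.Agent.ChevalleyStructure.NPerm Cfsg.Agent.ChevalleyStructure.CoxeterGeomTypes
  Cfsg.Agent.TitsThree.KExcRT
open Matrix Matrix.SpecialLinearGroup
open scoped commutatorElement MatrixGroups

universe u

section Lin

variable {F : Type*} [Field F] {m : ℕ}

theorem SL_coe_inj {A B : Matrix.SpecialLinearGroup (Fin m) F} (h : (A : GL (Fin m) F) = B) : A = B :=
  Subtype.ext (congrArg Units.val h)

theorem exists_dgl (δ : Fˣ) (A : Matrix.SpecialLinearGroup (Fin m) F) : ∃ C : Matrix.SpecialLinearGroup (Fin m) F,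
    (C : GL (Fin m) F) = dgl m δ * (A : GL (Fin m) F) * (dgl m δ)⁻¹ := by
  have h1 : GeneralLinearGroup.det (dgl m δ * (A : GL (Fin m) F) * (dgl m δ)⁻¹) = 1 := by
    rw [map_mul, map_mul, map_inv, mul_inv_eq_iff_eq_mul, one_mul]
    have : GeneralLinearGroup.det (A : GL (Fin m) F) = 1 := Units.ext A.2
    rw [this, mul_one]
  exact ⟨⟨((dgl m δ * (A : GL (Fin m) F) * (dgl m δ)⁻¹ : GL (Fin m) F) : Matrix (Fin m) (Fin m) F),
    congrArg Units.val h1⟩, Units.ext rfl⟩

/-- the entries of `dgl` -/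
def dl (δ : Fˣ) (i : Fin m) : Fˣ := if i.val = 0 then δ else 1

theorem dgl_transvection (δ : Fˣ) {i j : Fin m} (hij : i ≠ j) (a : F) :
    ((Matrix.SpecialLinearGroup.transvection hij ((dl δ i : F) * a * ((dl δ j)⁻¹ : Fˣ)) :
      Matrix.SpecialLinearGroup (Fin m) F) : GL (Fin m) F) =
      dgl m δ * ((Matrix.SpecialLinearGroup.transvection hij a : Matrix.SpecialLinearGroup (Fin m) F) : GL (Fin m) F) *
        (dgl m δ)⁻¹ := by
  rw [eq_mul_inv_iff_mul_eq]
  apply Units.ext
  rw [Units.val_mul, Units.val_mul]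
  have hd : ((dgl m δ : GL (Fin m) F) : Matrix (Fin m) (Fin m) F) = diagonal fun i => (dl δ i : F) := by
    show diagonal _ = _
    congr 1
    funext i
    unfold dl
    split_ifs <;> rfl
  rw [hd]
  show (1 + single i j _) * diagonal _ = diagonal _ * (1 + single i j a)
  rw [add_mul, mul_add, one_mul, mul_one]
  congr 1
  ext k l
  rw [mul_diagonal, diagonal_mul, single_apply, single_apply]
  split_ifs with h
  · obtain ⟨rfl, rfl⟩ := h
    rw [Units.inv_mul_cancel_right]
  · rw [zero_mul, mul_zero]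

/-- The conjugation with `dgl` -/
theorem conj_dgl {Y : Type*} [Group Y] (φ : Matrix.SpecialLinearGroup (Fin m) F →* Y) (δ : Fˣ) (τ : Y)
    (h : ∀ (i j : Fin m) (hij : i ≠ j) (a : F), τ * φ (Matrix.SpecialLinearGroup.transvection hij a) * τ⁻¹ =
      φ (Matrix.SpecialLinearGroup.transvection hij ((dl δ i : F) * a * ((dl δ j)⁻¹ : Fˣ)))) :
    ∀ B C : Matrix.SpecialLinearGroup (Fin m) F, (C : GL (Fin m) F) = dgl m δ * (B : GL (Fin m) F) * (dgl m δ)⁻¹ →
      τ * φ B * τ⁻¹ = φ C := by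
  intro B
  have hB : B ∈ Subgroup.closure (Cfsg.Agent.LieClassical.SLGen.transvections (Fin m) F) := by
    rw [Cfsg.Agent.LieClassical.SLGen.closure_transvections]
    exact Subgroup.mem_top B
  induction hB using Subgroup.closure_induction with
  | mem B hB =>
    obtain ⟨i, j, hij, a, rfl⟩ := hB
    intro C hC
    rw [← dgl_transvection δ hij a] at hC
    rw [h, SL_coe_inj hC]
  | one =>
    intro C hC
    have h1 : C = 1 := by
      apply SL_coe_inj
      rw [hC, map_one, mul_one, mul_inv_cancel]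
    rw [h1, map_one, mul_one, mul_inv_cancel]
  | mul A B _ _ hA hB =>
    intro C hC
    obtain ⟨A', hA'⟩ := exists_dgl δ A
    obtain ⟨B', hB'⟩ := exists_dgl δ B
    have h1 : C = A' * B' := by
      apply SL_coe_inj
      rw [hC, map_mul, map_mul, hA', hB']
      group
    rw [h1, map_mul, map_mul, ← hA A' hA', ← hB B' hB']
    group
  | inv A _ hA =>
    intro C hC
    obtain ⟨A', hA'⟩ := exists_dgl δ A
    have h1 : C = A'⁻¹ := by
      apply SL_coe_inj
      rw [hC, map_inv, map_inv, hA']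
      group
    rw [h1, map_inv, map_inv, ← hA A' hA']
    group

/-- a property of the image of a homomorphism from `SL_m` -/
theorem SL_le {Y : Type*} [Group Y] (φ : Matrix.SpecialLinearGroup (Fin m) F →* Y) (H : Subgroup Y)
    (h : ∀ (i j : Fin m) (hij : i ≠ j) (a : F), φ (Matrix.SpecialLinearGroup.transvection hij a) ∈ H) (B) :
    φ B ∈ H := by
  have hB : B ∈ Subgroup.closure (Cfsg.Agent.LieClassical.SLGen.transvections (Fin m) F) := by
    rw [Cfsg.Agent.LieClassical.SLGen.closure_transvections]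
    exact Subgroup.mem_top B
  have h1 : Subgroup.closure (Cfsg.Agent.LieClassical.SLGen.transvections (Fin m) F) ≤ H.comap φ := by
    rw [Subgroup.closure_le]
    rintro _ ⟨i, j, hij, a, rfl⟩
    exact h i j hij a
  exact h1 hB

end Lin

variable {D : ChevalleyDatum} {l : ℕ} {M : CoxeterMatrix (Fin l)} (hp : IsType D l M) {K : Type u} [Field K]
  {W : Type*} [Group W] (cs : CoxeterSystem M W)

/-- the weight of a coroot combination -/
def wt (D : ChevalleyDatum) {l : ℕ} (lam : Fin l → ℤ) (t : ℕ) : ℤ :=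
  ((List.finRange l).map fun i => lam i * D.cartan i t).sum

/-- reflections along a word -/
def actw (D : ChevalleyDatum) {l : ℕ} (w : List (Fin l)) (t : ℕ) : ℕ := w.foldr (fun i t => D.reflectRoot i t) t

/-- the table of a Levi subgroup of type `A_k` -/
structure Tab (D : ChevalleyDatum) (l : ℕ) (J : Finset (Fin l)) (k : ℕ) (r : Fin (k + 1) → Fin (k + 1) → ℕ)
    (s : Fin (k + 1) → Fin (k + 1) → ℤ) (lam mu : Fin l → ℤ) (w : List (Fin l)) (σ : Fin l → Fin l) : Prop where
  ra : ∀ a b, a ≠ b → r a b < D.nroots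
  rd : ∀ a b, s a b * s a b = 1
  s1 : ∀ i : Fin k, s i.castSucc i.succ = 1 ∧ s i.succ i.castSucc = 1
  neg : ∀ a b, a ≠ b → r b a = D.neg (r a b)
  van : ∀ a b, a ≠ b → ∀ i, i ∉ J → vec D l (r a b) i = 0
  sim : ∀ j ∈ J, ∃ i : Fin k, r i.castSucc i.succ = D.simple j
  all : allLT (fun t => ((List.finRange l).any fun i => decide (vec D l t i < 0)) ||
    ((List.finRange l).any fun i => decide (i ∉ J) && decide (vec D l t i ≠ 0)) ||
    ((List.finRange (k + 1)).any fun a => (List.finRange (k + 1)).any fun b => decide (a < b) && Nat.beq (r a b) t))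
    D.nroots = true
  lam0 : ∀ a b, a ≠ b → wt D lam (r a b) = 0
  lam1 : allLT (fun t => ((List.finRange l).any fun i => decide (vec D l t i < 0)) ||
    ((List.finRange l).all fun i => decide (i ∈ J) || decide (vec D l t i = 0)) ||
    (decide (0 < wt D lam t) && decide (wt D lam t < 8))) D.nroots = true
  mu0 : ∀ a b, a ≠ b → wt D mu (r a b) = (if a.val = 0 then 1 else 0) - (if b.val = 0 then 1 else 0)
  w0 : ∀ i : Fin l, actw D w (D.neg (D.simple (σ i))) = D.simple i ∧
    wt D lam (D.neg (D.simple (σ i))) = -wt D lam (D.simple i)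
  w1 : ∀ i : Fin k, actw D w (r i.castSucc i.succ) = r i.succ i.castSucc

/-- the torus element of a coroot combination -/
noncomputable def hw (hp : IsType D l M) (lam : Fin l → ℤ) (c : K) : ↥(D.group K) :=
  ((List.finRange l).map fun i => hc hp i (c ^ lam i)).prod

theorem ch_one {t : ℕ} (ht : t < D.nroots) : ch hp (vec D l t) (1 : ↥(D.group K)) = 1 :=
  ch_eq hp ht (one_mem _) (by rw [one_mul, inv_one, mul_one])

theorem ch_mul {t : ℕ} (ht : t < D.nroots) {a b : ↥(D.group K)} (ha : a ∈ TT D K) (hb : b ∈ TT D K) :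
    ch hp (vec D l t) (a * b) = ch hp (vec D l t) a * ch hp (vec D l t) b := by
  apply ch_eq hp ht (mul_mem ha hb)
  calc a * b * xc hp (vec D l t) 1 * (a * b)⁻¹ = a * (b * xc hp (vec D l t) 1 * b⁻¹) * a⁻¹ := by group
    _ = _ := by rw [(act hp ht hb).2, (act hp ht ha).2, mul_one]

theorem hw_aux (lam : Fin l → ℤ) {c : K} (hc0 : c ≠ 0) {t : ℕ} (ht : t < D.nroots) (L : List (Fin l)) :
    (L.map fun i => hc hp i (c ^ lam i)).prod ∈ TT D K ∧
      ch hp (vec D l t) (L.map fun i => hc hp i (c ^ lam i)).prod = c ^ (L.map fun i => lam i * D.cartan i t).sum := by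
  induction L with
  | nil => exact ⟨one_mem _, by rw [List.map_nil, List.map_nil, List.prod_nil, List.sum_nil, zpow_zero, ch_one hp ht]⟩
  | cons i L ih =>
    have h1 := hc_mem hp i (K := K) (zpow_ne_zero (lam i) hc0)
    rw [List.map_cons, List.map_cons, List.prod_cons, List.sum_cons]
    refine ⟨mul_mem h1 ih.1, ?_⟩
    rw [ch_mul hp ht h1 ih.1, ih.2, ch_hc hp i (zpow_ne_zero _ hc0) ht, zpow_add₀ hc0, _root_.zpow_mul]

theorem hw_mem (lam : Fin l → ℤ) {c : K} (hc0 : c ≠ 0) : hw hp lam c ∈ TT D K := by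
  unfold hw
  refine list_prod_mem fun x hx => ?_
  rw [List.mem_map] at hx
  obtain ⟨i, -, rfl⟩ := hx
  exact hc_mem hp i (zpow_ne_zero _ hc0)

theorem ch_hw (lam : Fin l → ℤ) {c : K} (hc0 : c ≠ 0) {t : ℕ} (ht : t < D.nroots) :
    ch hp (vec D l t) (hw hp lam c) = c ^ wt D lam t := (hw_aux hp lam hc0 ht _).2

theorem hw_conj (lam : Fin l → ℤ) {c : K} (hc0 : c ≠ 0) {t : ℕ} (ht : t < D.nroots) (a : K) :
    hw hp lam c * xc hp (vec D l t) a * (hw hp lam c)⁻¹ = xc hp (vec D l t) (c ^ wt D lam t * a) := by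
  rw [(act hp ht (hw_mem hp lam hc0)).2, ch_hw hp lam hc0 ht]

/-- the element of the normalizer of the torus of a word -/
noncomputable def nw (hp : IsType D l M) (K : Type u) [Field K] (w : List (Fin l)) : ↥(D.group K) :=
  (w.map (nc hp K)).prod

theorem nw_conj (w : List (Fin l)) {t : ℕ} (ht : t < D.nroots) : actw D w t < D.nroots ∧ ∃ d : K, d ≠ 0 ∧
    ∀ a, nw hp K w * xc hp (vec D l t) a * (nw hp K w)⁻¹ = xc hp (vec D l (actw D w t)) (d * a) := by
  induction w with
  | nil => exact ⟨ht, 1, one_ne_zero, fun a => by unfold nw; simp [actw]⟩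
  | cons i w ih =>
    obtain ⟨h1, d, hd, h2⟩ := ih
    obtain ⟨d', hd', h3⟩ := nact hp (K := K) (i := i) h1
    refine ⟨reflectRoot_lt hp.inList (lt_rank hp i) h1, d' * d, mul_ne_zero hd' hd, fun a => ?_⟩
    have e : nw hp K (i :: w) = nc hp K i * nw hp K w := by unfold nw; rw [List.map_cons, List.prod_cons]
    rw [e]
    calc nc hp K i * nw hp K w * xc hp (vec D l t) a * (nc hp K i * nw hp K w)⁻¹ =
        nc hp K i * (nw hp K w * xc hp (vec D l t) a * (nw hp K w)⁻¹) * (nc hp K i)⁻¹ := by group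
      _ = _ := by rw [h2, h3, mul_assoc]; rfl

include hp cs in
theorem nw_norm [Finite K] (p : ℕ) [Fact p.Prime] [CharP K p] (w : List (Fin l)) {t : ↥(D.group K)}
    (ht : t ∈ TT D K) : nw hp K w * t * (nw hp K w)⁻¹ ∈ TT D K := by
  have R := rgd (K := K) hp cs p
  induction w with
  | nil => unfold nw; simpa using ht
  | cons i w ih =>
    have e : nw hp K (i :: w) = nc hp K i * nw hp K w := by unfold nw; rw [List.map_cons, List.prod_cons]
    rw [e]
    have := (Subgroup.mem_normalizer_iff.1 (R.nsys.norm i) _).1 ih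
    convert this using 1
    group

include cs in
/-- an element of the torus centralizing the root groups of the fundamental roots is trivial -/
theorem eq_one_of_simple [Finite K] (p : ℕ) [Fact p.Prime] [CharP K p]
    (hZ : Subgroup.center ↥(D.group K) = ⊥) {t : ↥(D.group K)} (ht : t ∈ TT D K)
    (hc : ∀ i : Fin l, ch hp (vec D l (D.simple i)) t = 1) : t = 1 := by
  have := finite_W hp cs
  have R := rgd (K := K) hp cs p
  have hc' : ∀ i, ∀ u ∈ XX D l K (sr i), t * u = u * t := by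
    intro i u hu
    have h1 := simple_lt hp.inList (lt_rank hp i)
    rw [Subgroup.mem_subgroupOf, XV_sr hp, mem_rootSubgroup_iff hp.inList] at hu
    obtain ⟨a, ha⟩ := hu
    have h2 : u = xc hp (vec D l (D.simple i)) a := Subtype.ext (by rw [coe_xc hp h1, ha])
    have h3 := (act hp h1 ht).2 a
    rw [hc i, one_mul, ← h2] at h3
    rw [← mul_inv_eq_iff_eq_mul, h3]
  rw [← Subgroup.mem_bot, ← hZ, Subgroup.mem_center_iff]
  have h1 : RGD.Sup (XX D l K) {x | IsRoot cs hp.isCartan x} ≤ Subgroup.centralizer {t} := by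
    refine Sup_le_of_simple R (fun i u hu => ?_) (fun i u hu => ?_)
    · rw [Subgroup.mem_centralizer_singleton_iff]
      exact (hc' i u hu).symm
    · rw [Subgroup.mem_centralizer_singleton_iff]
      exact ((Cfsg.Agent.KFacts.RgdCent.cen_neg R ht (b := sr i) ⟨isRoot_sr cs hp.isCartan i, hc' i⟩).2 u hu).symm
  have h2 : RGD.Sup (XX D l K) {r | IsRoot cs hp.isCartan r} = ⊤ := G1_eq_top hp cs
  rw [h2] at h1
  intro g
  exact Subgroup.mem_centralizer_singleton_iff.1 (h1 (Subgroup.mem_top g))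

section Main

variable {J : Finset (Fin l)} {k : ℕ} {r : Fin (k + 1) → Fin (k + 1) → ℕ}
  {s : Fin (k + 1) → Fin (k + 1) → ℤ} {lam mu : Fin l → ℤ} {w : List (Fin l)} {σ : Fin l → Fin l}

theorem Tab.ss (T : Tab D l J k r s lam mu w σ) (a b : Fin (k + 1)) : ((s a b : ℤ) : K) * (s a b : K) = 1 := by
  rw [← Int.cast_mul, T.rd, Int.cast_one]

theorem Tab.exists_pos (T : Tab D l J k r s lam mu w σ) {t : ℕ} (ht : t < D.nroots) (h0 : 0 ≤ vec D l t)
    (hJ : ∀ i, i ∉ J → vec D l t i = 0) : ∃ a b, a < b ∧ r a b = t := by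
  have h1 := T.all
  rw [allLT_iff] at h1
  have h2 := h1 t ht
  simp only [Bool.or_eq_true, List.any_eq_true, List.mem_finRange, true_and, decide_eq_true_eq,
    Bool.and_eq_true] at h2
  rcases h2 with (⟨i, hi⟩ | ⟨i, hi, hi'⟩) | ⟨a, b, hab, h3⟩
  · exact absurd (h0 i) (not_le.2 hi)
  · exact absurd (hJ i hi) hi'
  · exact ⟨a, b, hab, Nat.eq_of_beq_eq_true h3⟩

theorem Tab.wt_pos (T : Tab D l J k r s lam mu w σ) {t : ℕ} (ht : t < D.nroots) (h0 : 0 ≤ vec D l t)
    (hJ : ∃ i, i ∉ J ∧ 0 < vec D l t i) : 0 < wt D lam t ∧ wt D lam t < 8 := by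
  have h1 := T.lam1
  rw [allLT_iff] at h1
  have h2 := h1 t ht
  simp only [Bool.or_eq_true, List.any_eq_true, List.all_eq_true, List.mem_finRange, true_and, decide_eq_true_eq,
    Bool.and_eq_true, forall_const] at h2
  rcases h2 with (⟨i, hi⟩ | h3) | h3
  · exact absurd (h0 i) (not_le.2 hi)
  · obtain ⟨i, hi, hi'⟩ := hJ
    rcases h3 i with h4 | h4
    · exact absurd h4 hi
    · rw [h4] at hi'; exact absurd hi' (lt_irrefl _)
  · exact h3

theorem Tab.mem_root (T : Tab D l J k r s lam mu w σ) {a b : Fin (k + 1)} (hab : a ≠ b) :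
    vec D l (r a b) ∈ RootsJ cs hp.isCartan (J : Set (Fin l)) :=
  ⟨isRoot_vec hp cs (T.ra a b hab), fun i hi => T.van a b hab i hi⟩

include cs in
theorem exists_xc [Finite K] (p : ℕ) [Fact p.Prime] [CharP K p] {t : ℕ} (ht : t < D.nroots) {u : ↥(D.group K)}
    (hu : u ∈ XX D l K (vec D l t)) : ∃ a, u = xc hp (vec D l t) a := by
  rw [Subgroup.mem_subgroupOf, XV_vec hp K ht, mem_rootSubgroup_iff hp.inList] at hu
  obtain ⟨a, ha⟩ := hu
  exact ⟨a, Subtype.ext (by rw [coe_xc hp ht, ha])⟩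

/-- **The Levi data from a table.** -/
theorem ld [Finite K] (p : ℕ) [Fact p.Prime] [CharP K p] (hF : 9 ≤ Nat.card K)
    (hZ : Subgroup.center ↥(D.group K) = ⊥) (T : Tab D l J k r s lam mu w σ)
    (hJk : J.Nonempty ↔ 1 ≤ k) (φ : Matrix.SpecialLinearGroup (Fin (k + 1)) K →* ↥(D.group K))
    (hφ : ∀ i j (hij : i ≠ j) a, φ (Matrix.SpecialLinearGroup.transvection hij a) =
      xc hp (vec D l (r i j)) ((s i j : K) * a)) :
    ∃ e, LD cs hp.isCartan (TT D K) (XX D l K) (hc hp) (J : Set (Fin l)) (k + 1) φ e := by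
  classical
  have R := rgd (K := K) hp cs p
  -- the generator
  have := Fintype.ofFinite K
  obtain ⟨g, hg⟩ := IsCyclic.exists_generator (α := Kˣ)
  have hord : 8 ≤ orderOf g := by
    rw [orderOf_eq_card_of_forall_mem_zpowers hg, Nat.card_units]
    omega
  obtain ⟨c, hcg⟩ : ∃ c : K, c = (g : K) := ⟨_, rfl⟩
  have hc0 : c ≠ 0 := by rw [hcg]; exact g.ne_zero
  have hpow : ∀ z : ℤ, 0 < z → z < 8 → c ^ z ≠ 1 := by
    intro z hz hz' h1
    obtain ⟨n, rfl⟩ := Int.eq_ofNat_of_zero_le hz.le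
    rw [zpow_natCast, hcg, ← Units.val_pow_eq_pow_val, Units.val_eq_one] at h1
    have h2 := orderOf_dvd_of_pow_eq_one h1
    have h3 := Nat.le_of_dvd (by omega) h2
    omega
  have hmem : ∀ i j, i ≠ j → ∀ a, xc hp (vec D l (r i j)) a ∈ XX D l K (vec D l (r i j)) := fun i j hij a =>
    (((coords (K := K) hp cs p).coord _ (isRoot_vec hp cs (T.ra i j hij))).mem _).2 ⟨a, rfl⟩
  have hran : ∀ B, φ B ∈ LJ cs hp.isCartan (TT D K) (XX D l K) (J : Set (Fin l)) := by
    refine SL_le φ _ fun i j hij a => ?_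
    rw [hφ]
    exact X_le_LJ (T.mem_root hp cs hij) (hmem i j hij _)
  refine ⟨hw hp lam c, ⟨by omega, ?_, ?_, ?_, ?_, ?_, hran, hw_mem hp lam hc0, ?_, ?_, ?_, ?_, ?_⟩⟩
  · intro h
    have := hJk.1 (by simpa using h)
    omega
  · intro h
    have : ¬ 1 ≤ k := fun h' => h (by simpa using hJk.2 h')
    omega
  · -- up
    intro q hq u hu
    obtain ⟨hq1, hq2, hq3⟩ := hq
    obtain ⟨t, ht, rfl⟩ := (isRoot_iff hp cs _).1 hq1
    obtain ⟨a, b, hab, rfl⟩ := T.exists_pos ht hq2 (fun i hi => hq3 i hi)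
    obtain ⟨z, rfl⟩ := exists_xc hp cs p ht hu
    refine ⟨Matrix.SpecialLinearGroup.transvection hab.ne ((s a b : K) * z), fun i j hij => ?_, fun i => ?_, ?_⟩
    · show (1 + single a b _ : Matrix _ _ K) i j = 0
      rw [Matrix.add_apply, one_apply_ne (ne_of_gt hij), single_apply_of_ne, add_zero]
      rintro ⟨rfl, rfl⟩
      exact absurd hab (not_lt.2 hij.le)
    · show (1 + single a b _ : Matrix _ _ K) i i = 1
      rw [Matrix.add_apply, one_apply_eq, single_apply_of_ne, add_zero]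
      rintro ⟨rfl, h⟩
      exact hab.ne h.symm
    · rw [hφ, ← mul_assoc, T.ss, one_mul]
  · -- lo
    intro q hq u hu
    obtain ⟨hq1, hq2, hq3⟩ := hq
    obtain ⟨t, ht, rfl⟩ := (isRoot_iff hp cs _).1 hq1
    obtain ⟨a, b, hab, rfl⟩ := T.exists_pos ht hq2 (fun i hi => hq3 i hi)
    rw [← vec_neg hp ht, ← T.neg a b hab.ne] at hu
    obtain ⟨z, rfl⟩ := exists_xc hp cs p (T.ra b a hab.ne') hu
    refine ⟨Matrix.SpecialLinearGroup.transvection hab.ne' ((s b a : K) * z), fun i j hij => ?_, fun i => ?_, ?_⟩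
    · show (1 + single b a _ : Matrix _ _ K) i j = 0
      rw [Matrix.add_apply, one_apply_ne (ne_of_lt hij), single_apply_of_ne, add_zero]
      rintro ⟨rfl, rfl⟩
      exact absurd hab (not_lt.2 hij.le)
    · show (1 + single b a _ : Matrix _ _ K) i i = 1
      rw [Matrix.add_apply, one_apply_eq, single_apply_of_ne, add_zero]
      rintro ⟨rfl, h⟩
      exact hab.ne h
    · rw [hφ, ← mul_assoc, T.ss, one_mul]
  · -- di
    intro j hj z hz
    obtain ⟨i, hi⟩ := T.sim j hj
    have hne : i.castSucc ≠ i.succ := (Fin.castSucc_lt_succ (i := i)).ne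
    refine ⟨diag2n hne z hz, fun a b hab => ?_, ?_⟩
    · show (diagonal _ : Matrix _ _ K) a b = 0
      rw [diagonal_apply_ne _ hab]
    · rw [Cfsg.Agent.LieClassical.SLGen.diag2n_decompose]
      simp only [map_mul, hφ]
      obtain ⟨h1, h2⟩ := T.s1 i
      have h3 := simple_lt hp.inList (lt_rank hp j)
      have h4 := neg_lt hp.inList h3
      rw [h1, h2, T.neg _ _ hne, hi]
      simp only [Int.cast_one, one_mul]
      apply Subtype.ext
      simp only [Subgroup.coe_mul, coe_xc hp h3, coe_xc hp h4]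
      rw [coe_hc, hG_def, nG_def, nG_def, inv_neg, inv_one, _root_.neg_neg]
      simp only [mul_assoc]
  · -- ecomm
    intro B
    have h1 : φ B ∈ Subgroup.centralizer {hw hp lam c} := by
      refine SL_le φ _ (fun i j hij a => ?_) B
      rw [Subgroup.mem_centralizer_singleton_iff, hφ]
      have h2 := hw_conj hp lam hc0 (T.ra i j hij) ((s i j : K) * a)
      rw [T.lam0 i j hij, zpow_zero, one_mul, mul_inv_eq_iff_eq_mul] at h2
      exact h2.symm
    exact (Subgroup.mem_centralizer_singleton_iff.1 h1).symm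
  · -- efix
    intro q hq u hu h1
    obtain ⟨hq1, hq2, i, hi, hi'⟩ := hq
    obtain ⟨t, ht, rfl⟩ := (isRoot_iff hp cs _).1 hq1
    obtain ⟨h2, h3⟩ := T.wt_pos ht hq2 ⟨i, hi, hi'⟩
    obtain ⟨z, rfl⟩ := exists_xc hp cs p ht hu
    rw [hw_conj hp lam hc0 ht] at h1
    have h4 := xc_inj hp ht h1
    have hz : z = 0 := by
      by_contra hz
      exact hpow _ h2 h3 (mul_eq_right₀ hz |>.1 h4)
    rw [hz]
    exact ((coords (K := K) hp cs p).coord _ hq1).zero
  · -- efix'
    intro q hq u hu h1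
    obtain ⟨hq1, hq2, i, hi, hi'⟩ := hq
    obtain ⟨t, ht, rfl⟩ := (isRoot_iff hp cs _).1 hq1
    obtain ⟨h2, h3⟩ := T.wt_pos ht hq2 ⟨i, hi, hi'⟩
    have hn := neg_lt hp.inList ht
    have h5 := ch_neg hp cs p ht (hw_mem hp lam hc0)
    have hr' := hq1.neg
    rw [← vec_neg hp ht] at hu h5 hr'
    obtain ⟨z, rfl⟩ := exists_xc hp cs p hn hu
    rw [(act hp hn (hw_mem hp lam hc0)).2, h5, ch_hw hp lam hc0 ht] at h1
    have h4 := xc_inj hp hn h1
    have hz : z = 0 := by
      by_contra hz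
      have h6 := (mul_eq_right₀ hz).1 h4
      rw [inv_eq_iff_eq_inv, inv_one] at h6
      exact hpow _ h2 h3 h6
    rw [hz]
    exact ((coords (K := K) hp cs p).coord _ hr').zero
  · -- tor
    intro δ
    refine ⟨hw hp mu (δ : K), hw_mem hp mu δ.ne_zero, conj_dgl φ δ _ fun i j hij a => ?_⟩
    rw [hφ, hφ, hw_conj hp mu δ.ne_zero (T.ra i j hij), T.mu0 i j hij]
    congr 1
    have hδ := δ.ne_zero
    unfold dl
    split_ifs with h1 h2 h2
    · rw [sub_self, zpow_zero, one_mul, Units.val_inv_eq_inv_val]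
      field_simp
    · simp; ring
    · simp; ring
    · simp
  · -- real
    refine ⟨nw hp K w, ?_, ?_⟩
    · have hmem' := nw_norm hp cs p w (hw_mem hp lam hc0)
      have h1 : nw hp K w * hw hp lam c * (nw hp K w)⁻¹ * hw hp lam c = 1 := by
        refine eq_one_of_simple hp cs p hZ (mul_mem hmem' (hw_mem hp lam hc0)) fun i => ?_
        obtain ⟨h2, h3⟩ := T.w0 i
        have h4 := simple_lt hp.inList (lt_rank hp i)
        have h5 := neg_lt hp.inList (simple_lt hp.inList (lt_rank hp (σ i)))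
        rw [ch_mul hp h4 hmem' (hw_mem hp lam hc0), ch_hw hp lam hc0 h4]
        obtain ⟨-, d, hd, h6⟩ := nw_conj hp (K := K) w h5
        rw [h2] at h6
        have h7 : ch hp (vec D l (D.simple i)) (nw hp K w * hw hp lam c * (nw hp K w)⁻¹) =
            c ^ wt D lam (D.neg (D.simple (σ i))) := by
          apply ch_eq hp h4 hmem'
          have e1 : xc hp (vec D l (D.simple i)) 1 = nw hp K w * xc hp (vec D l (D.neg (D.simple (σ i)))) d⁻¹ *
              (nw hp K w)⁻¹ := by rw [h6, mul_inv_cancel₀ hd]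
          rw [e1]
          calc nw hp K w * hw hp lam c * (nw hp K w)⁻¹ * (nw hp K w * xc hp (vec D l (D.neg (D.simple (σ i)))) d⁻¹ *
              (nw hp K w)⁻¹) * (nw hp K w * hw hp lam c * (nw hp K w)⁻¹)⁻¹ =
              nw hp K w * (hw hp lam c * xc hp (vec D l (D.neg (D.simple (σ i)))) d⁻¹ * (hw hp lam c)⁻¹) *
                (nw hp K w)⁻¹ := by group
            _ = _ := by rw [hw_conj hp lam hc0 h5, h6]; congr 1; field_simp
        rw [h7, ← zpow_add₀ hc0, h3, neg_add_cancel, zpow_zero]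
      exact eq_inv_of_mul_eq_one_left h1
    · have h1 : ∀ i : Fin k, ∃ d : K, d ≠ 0 ∧ nw hp K w * φ (up1 i 1) * (nw hp K w)⁻¹ = φ (lo1 i d) := by
        intro i
        have hne : i.castSucc ≠ i.succ := (Fin.castSucc_lt_succ (i := i)).ne
        obtain ⟨-, d, hd, h2⟩ := nw_conj hp (K := K) w (T.ra _ _ hne)
        obtain ⟨h3, h4⟩ := T.s1 i
        refine ⟨d, hd, ?_⟩
        unfold up1 lo1
        rw [hφ, hφ, h2, T.w1, h3, h4]
        congr 1
        push_cast
        ring
      choose d hd h2 using h1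
      refine ⟨((List.finRange k).map fun i => up1 i (1 : K)).prod,
        prod_upper_mem_RU (c := fun _ => 1) (fun _ => one_ne_zero), ((List.finRange k).map fun i => lo1 i (d i)).prod,
        prod_lower_mem_RU hd, ?_⟩
      have h3 : ∀ L : List (Fin k), nw hp K w * φ ((L.map fun i => up1 i (1 : K)).prod) * (nw hp K w)⁻¹ =
          φ ((L.map fun i => lo1 i (d i)).prod) := by
        intro L
        induction L with
        | nil => simp
        | cons i L ih =>
          rw [List.map_cons, List.prod_cons, List.map_cons, List.prod_cons, map_mul, map_mul, ← ih, ← h2]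
          group
      exact h3 _

end Main

end Cfsg.Agent.H155.TG
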