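import Cfsg.Agent.H155.TG.ChevLD

/-!
# The tables of the exceptional types (helper155)
-/

set_option autoImplicit false

namespace Cfsg.Agent.H155.TG

open Cfsg.Lie Cfsg.Agent.ChevalleyStructure.CoxeterGeomTypes Cfsg.Agent.TitsThree.KExcRT
open Cfsg.Agent.ChevalleyStructure.CoxeterGeom

/-- repetition of a word -/
def rpt {α : Type*} (n : ℕ) (L : List α) : List α := (List.replicate n L).flatten

def rG2 : Fin 1 → Fin 1 → ℕ := ![![0]]
def sG2 : Fin 1 → Fin 1 → ℤ := ![![1]]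
def rF4 : Fin 2 → Fin 2 → ℕ := ![![0, 27], ![20, 0]]
def sF4 : Fin 2 → Fin 2 → ℤ := ![![1, 1], ![1, 1]]
def rE6 : Fin 3 → Fin 3 → ℕ := ![![0, 46, 47], ![25, 0, 39], ![24, 32, 0]]
def sE6 : Fin 3 → Fin 3 → ℤ := ![![1, 1, -1], ![1, 1, 1], ![-1, 1, 1]]
def rE7 : Fin 4 → Fin 4 → ℕ := ![![0, 73, 74, 75], ![52, 0, 69, 70], ![51, 56, 0, 66], ![50, 55, 59, 0]]
def sE7 : Fin 4 → Fin 4 → ℤ := ![![1, 1, -1, 1], ![1, 1, 1, -1], ![-1, 1, 1, 1], ![1, -1, 1, 1]]
def rE8 : Fin 6 → Fin 6 → ℕ := ![![0, 135, 136, 137, 138, 139], ![104, 0, 130, 131, 132, 133],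
  ![103, 109, 0, 126, 127, 128], ![102, 108, 113, 0, 123, 124], ![101, 107, 112, 116, 0, 121],
  ![100, 106, 111, 115, 118, 0]]
def sE8 : Fin 6 → Fin 6 → ℤ := ![![1, 1, -1, 1, -1, 1], ![1, 1, 1, -1, 1, -1], ![-1, 1, 1, 1, -1, 1],
  ![1, -1, 1, 1, 1, -1], ![-1, 1, -1, 1, 1, 1], ![1, -1, 1, -1, 1, 1]]

theorem tab_G2 : Tab chevG2 2 ∅ 0 rG2 sG2 ![3, 5] ![0, 0] (rpt 3 [0, 1]) ![0, 1] :=
  ⟨by decide +kernel, by decide +kernel, by decide +kernel, by decide +kernel, by decide +kernel, by decide +kernel,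
    by decide +kernel, by decide +kernel, by decide +kernel, by decide +kernel, by decide +kernel, by decide +kernel⟩

theorem tab_F4 : Tab chevF4 4 {1} 1 rF4 sF4 ![5, 9, 13, 7] ![-1, 0, 0, 0] (rpt 6 [0, 1, 2, 3]) ![0, 1, 2, 3] :=
  ⟨by decide +kernel, by decide +kernel, by decide +kernel, by decide +kernel, by decide +kernel, by decide +kernel,
    by decide +kernel, by decide +kernel, by decide +kernel, by decide +kernel, by decide +kernel, by decide +kernel⟩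

theorem tab_E6 : Tab chevE6 6 {1, 3} 2 rE6 sE6 ![5, 6, 9, 12, 9, 5] ![0, 0, -2, -1, 0, 0] (rpt 6 [0, 3, 5, 1, 2, 4])
    ![5, 1, 4, 3, 2, 0] :=
  ⟨by decide +kernel, by decide +kernel, by decide +kernel, by decide +kernel, by decide +kernel, by decide +kernel,
    by decide +kernel, by decide +kernel, by decide +kernel, by decide +kernel, by decide +kernel, by decide +kernel⟩

theorem tab_E7 : Tab chevE7 7 {2, 3, 4} 3 rE7 sE7 ![7, 10, 13, 19, 15, 11, 6] ![-1, 0, 0, 0, 0, 0, 0]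
    (rpt 9 [0, 1, 2, 3, 4, 5, 6]) ![0, 1, 2, 3, 4, 5, 6] :=
  ⟨by decide +kernel, by decide +kernel, by decide +kernel, by decide +kernel, by decide +kernel, by decide +kernel,
    by decide +kernel, by decide +kernel, by decide +kernel, by decide +kernel, by decide +kernel, by decide +kernel⟩

theorem tab_E8 : Tab chevE8 8 {2, 3, 4, 5, 6} 5 rE8 sE8 ![11, 16, 21, 31, 25, 19, 13, 7] ![-1, 0, 0, 0, 0, 0, 0, 0]
    (rpt 15 [0, 1, 2, 3, 4, 5, 6, 7]) ![0, 1, 2, 3, 4, 5, 6, 7] :=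
  ⟨by decide +kernel, by decide +kernel, by decide +kernel, by decide +kernel, by decide +kernel, by decide +kernel,
    by decide +kernel, by decide +kernel, by decide +kernel, by decide +kernel, by decide +kernel, by decide +kernel⟩

/-- the relations of the tables -/
theorem rtb_E6 : RTb chevE6 rE6 sE6 := by decide +kernel
theorem rtc_E6 : RTc chevE6 rE6 := by decide +kernel
theorem rtb_E7 : RTb chevE7 rE7 sE7 := by decide +kernel
theorem rtc_E7 : RTc chevE7 rE7 := by decide +kernel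
theorem rtb_E8 : RTb chevE8 rE8 sE8 := by decide +kernel
theorem rtc_E8 : RTc chevE8 rE8 := by decide +kernel

/-- degree bounds -/
theorem hD_G2 : ∀ k, ∑ j ∈ Finset.univ.erase k, DD chevG2 2 k j ≤ 4 := by decide +kernel
theorem hD_F4 : ∀ k, ∑ j ∈ Finset.univ.erase k, DD chevF4 4 k j ≤ 4 := by decide +kernel
theorem hD_E6 : ∀ k, ∑ j ∈ Finset.univ.erase k, DD chevE6 6 k j ≤ 4 := by decide +kernel
theorem hD_E7 : ∀ k, ∑ j ∈ Finset.univ.erase k, DD chevE7 7 k j ≤ 4 := by decide +kernel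
theorem hD_E8 : ∀ k, ∑ j ∈ Finset.univ.erase k, DD chevE8 8 k j ≤ 4 := by decide +kernel

/-- connectedness from a path to `0` -/
theorem conn_of_par {l : ℕ} {M : CoxeterMatrix (Fin (l + 1))} (par : Fin (l + 1) → Fin (l + 1)) (n : ℕ)
    (h1 : ∀ i, par^[n] i = 0) (h2 : ∀ i, i ≠ par i → M i (par i) ≠ 2)
    (S : Set (Fin (l + 1))) (hS : S.Nonempty) (hS' : S ≠ Set.univ) : ∃ a ∈ S, ∃ b, b ∉ S ∧ M a b ≠ 2 := by
  classical
  by_contra hc
  push Not at hc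
  have key : ∀ i, i ∈ S ↔ par i ∈ S := by
    intro i
    by_cases hi : i = par i
    · rw [← hi]
    constructor
    · intro h3
      by_contra h4
      exact h2 i hi (hc i h3 _ h4)
    · intro h3
      by_contra h4
      apply h2 i hi
      rw [M.symmetric]
      exact hc _ h3 _ h4
  have key2 : ∀ n i, i ∈ S ↔ par^[n] i ∈ S := by
    intro n
    induction n with
    | zero => intro i; exact Iff.rfl
    | succ n ih =>
      intro i
      rw [Function.iterate_succ_apply, ← ih, ← key]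
  obtain ⟨a, ha⟩ := hS
  apply hS'
  rw [Set.eq_univ_iff_forall]
  intro b
  have h3 := (key2 n a).1 ha
  rw [h1] at h3
  rw [key2 n b, h1]
  exact h3

theorem conn_G2 (S : Set (Fin 2)) (hS : S.Nonempty) (hS' : S ≠ Set.univ) :
    ∃ a ∈ S, ∃ b, b ∉ S ∧ CoxeterMatrix.G₂ a b ≠ 2 :=
  conn_of_par ![0, 0] 1 (by decide) (by decide) S hS hS'

theorem conn_F4 (S : Set (Fin 4)) (hS : S.Nonempty) (hS' : S ≠ Set.univ) :
    ∃ a ∈ S, ∃ b, b ∉ S ∧ CoxeterMatrix.F₄ a b ≠ 2 :=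
  conn_of_par ![0, 0, 1, 2] 3 (by decide) (by decide) S hS hS'

theorem conn_E6 (S : Set (Fin 6)) (hS : S.Nonempty) (hS' : S ≠ Set.univ) :
    ∃ a ∈ S, ∃ b, b ∉ S ∧ CoxeterMatrix.E₆ a b ≠ 2 :=
  conn_of_par ![0, 3, 0, 2, 3, 4] 4 (by decide) (by decide) S hS hS'

theorem conn_E7 (S : Set (Fin 7)) (hS : S.Nonempty) (hS' : S ≠ Set.univ) :
    ∃ a ∈ S, ∃ b, b ∉ S ∧ CoxeterMatrix.E₇ a b ≠ 2 :=
  conn_of_par ![0, 3, 0, 2, 3, 4, 5] 5 (by decide) (by decide) S hS hS'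

theorem conn_E8 (S : Set (Fin 8)) (hS : S.Nonempty) (hS' : S ≠ Set.univ) :
    ∃ a ∈ S, ∃ b, b ∉ S ∧ CoxeterMatrix.E₈ a b ≠ 2 :=
  conn_of_par ![0, 3, 0, 2, 3, 4, 5, 6] 6 (by decide) (by decide) S hS hS'

end Cfsg.Agent.H155.TG
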