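import Cfsg.Agent.H155.TG.ChevTab
import Cfsg.Agent.S1054
import Cfsg.Agent.S1055

/-!
# Thompson's class square conjecture for the exceptional types over fields with at least 9 elements (helper155)
-/

set_option autoImplicit false
set_option linter.unusedSectionVars false

namespace Cfsg.Agent.H155.TG

open CoxeterSystem Cfsg.Agent.ChevalleyStructure.CoxeterGeom Cfsg.Agent.Tits.Roots Cfsg.Agent.Tits.Core
  Cfsg.Agent.Nodes.Reps Cfsg.Agent.Nodes.BNOf Cfsg.Agent.Nodes.StabComb Cfsg.Agent.Nodes.Bruhat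
  Cfsg.Agent.Nodes.OppDec Cfsg.Agent.Nodes.RGDChev Cfsg.Agent.KFacts.RgdOpp
  Cfsg.Agent.KFacts.RgdAut Cfsg.Agent.KFacts.RgdDiag Cfsg.Agent.KFacts.RgdRigid
  Cfsg.Agent.KFacts.RgdField Cfsg.Agent.KFacts.RgdTau Cfsg.Agent.KFacts.RgdChevCoord
  Cfsg.Agent.Nodes.FreeTorus
open Cfsg.Lie Cfsg.Agent.ChevalleyStructure Cfsg.Agent.ChevalleyStructure.Elts
  Cfsg.Agent.ChevalleyStructure.RootVec Cfsg.Agent.ChevalleyStructure.RootVecTab
  Cfsg.Agent.ChevalleyStructure.NPerm Cfsg.Agent.ChevalleyStructure.CoxeterGeomTypes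
  Cfsg.Agent.TitsThree.KExcRT Cfsg.Agent.AGraded
open Matrix Matrix.SpecialLinearGroup
open scoped commutatorElement MatrixGroups

universe u

variable {D : ChevalleyDatum} {l : ℕ} {M : CoxeterMatrix (Fin l)} (hp : IsType D l M) {K : Type u} [Field K]

/-- the homomorphism from `SL_m`, `m ≥ 3` -/
theorem exists_phi3 [Finite K] {k : ℕ} (hk : 2 ≤ k) {r : Fin (k + 1) → Fin (k + 1) → ℕ}
    {s : Fin (k + 1) → Fin (k + 1) → ℤ} (ha : RTa D r) (hb : RTb D r s) (hc : RTc D r) (hd : RTd s) :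
    ∃ φ : Matrix.SpecialLinearGroup (Fin (k + 1)) K →* ↥(D.group K),
      ∀ i j (hij : i ≠ j) a, φ (Matrix.SpecialLinearGroup.transvection hij a) =
        xc hp (vec D l (r i j)) ((s i j : K) * a) := by
  classical
  have hS := stein (F := K) hp.inList ha hb hc hd
  obtain ⟨π, hπ, -, -⟩ := exists_hom_core hS (by rw [Fintype.card_fin]; omega)
    fun _ _ hy hygen _ _ hφ _ _ => Cfsg.Agent.H135.KTwo.ker_eq_bot_fin hy hk hygen hφ
  have hmem : ∀ g, π g ∈ D.group K := by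
    refine SL_le π _ fun i j hij a => ?_
    rw [hπ i j hij]
    exact xG_mem_group hp.inList _ _
  refine ⟨π.codRestrict (D.group K) hmem, fun i j hij a => ?_⟩
  apply Subtype.ext
  show π _ = ((xc hp (vec D l (r i j)) ((s i j : K) * a) : ↥(D.group K)) : GL D.Idx K)
  rw [hπ i j hij, coe_xc hp (ha i j hij)]
  rfl

theorem exists_phi2 (j : Fin l) {r : Fin 2 → Fin 2 → ℕ} {s : Fin 2 → Fin 2 → ℤ} (h1 : r 0 1 = D.simple j)
    (h2 : r 1 0 = D.neg (D.simple j)) (h3 : s 0 1 = 1) (h4 : s 1 0 = 1) :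
    ∃ φ : Matrix.SpecialLinearGroup (Fin 2) K →* ↥(D.group K),
      ∀ i j (hij : i ≠ j) a, φ (Matrix.SpecialLinearGroup.transvection hij a) =
        xc hp (vec D l (r i j)) ((s i j : K) * a) := by
  classical
  obtain ⟨π, hx, hy, -⟩ := exists_phi (K := K) hp j
  have hs := simple_lt hp.inList (lt_rank hp j)
  have hs' := neg_lt hp.inList hs
  have e1 : ∀ (h : (0 : Fin 2) ≠ 1) (a : K), Matrix.SpecialLinearGroup.transvection h a = sx a := by
    intro h a
    apply Subtype.ext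
    show (1 + single 0 1 a : Matrix _ _ K) = !![1, a; 0, 1]
    ext i j
    fin_cases i <;> fin_cases j <;> simp
  have e2 : ∀ (h : (1 : Fin 2) ≠ 0) (a : K), Matrix.SpecialLinearGroup.transvection h a = sy a := by
    intro h a
    apply Subtype.ext
    show (1 + single 1 0 a : Matrix _ _ K) = !![1, 0; a, 1]
    ext i j
    fin_cases i <;> fin_cases j <;> simp
  have key : ∀ i j (hij : i ≠ j) (a : K), π (Matrix.SpecialLinearGroup.transvection hij a) =
      xG hp.inList (r i j) ((s i j : K) * a) := by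
    intro i j hij a
    have hc : (i = 0 ∧ j = 1) ∨ (i = 1 ∧ j = 0) := by omega
    rcases hc with ⟨rfl, rfl⟩ | ⟨rfl, rfl⟩
    · rw [e1, hx, h1, h3, Int.cast_one, one_mul]
    · rw [e2, hy, h2, h4, Int.cast_one, one_mul]
  have hr : ∀ i j, i ≠ j → r i j < D.nroots := by
    intro i j hij
    have hc : (i = 0 ∧ j = 1) ∨ (i = 1 ∧ j = 0) := by omega
    rcases hc with ⟨rfl, rfl⟩ | ⟨rfl, rfl⟩
    · rw [h1]; exact hs
    · rw [h2]; exact hs'
  have hmem : ∀ g, π g ∈ D.group K := by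
    refine SL_le π _ fun i j hij a => ?_
    rw [key i j hij]
    exact xG_mem_group hp.inList _ _
  refine ⟨π.codRestrict (D.group K) hmem, fun i j hij a => ?_⟩
  apply Subtype.ext
  show π _ = ((xc hp (vec D l (r i j)) ((s i j : K) * a) : ↥(D.group K)) : GL D.Idx K)
  rw [key i j hij, coe_xc hp (hr i j hij)]

/-- **The square of a conjugacy class is the group.** -/
theorem exc_main [Finite K] (hF : 9 ≤ Nat.card K) (hl : 0 < l)
    (hsimp : IsSimpleGroup ↥(D.group K) ∧ ¬ IsMulCommutative ↥(D.group K))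
    (hD : ∀ k, ∑ j ∈ Finset.univ.erase k, DD D l k j ≤ 4)
    (hconn : ∀ S : Set (Fin l), S.Nonempty → S ≠ Set.univ → ∃ a ∈ S, ∃ b, b ∉ S ∧ M a b ≠ 2)
    {J : Finset (Fin l)} {k : ℕ} {r : Fin (k + 1) → Fin (k + 1) → ℕ}
    {s : Fin (k + 1) → Fin (k + 1) → ℤ} {lam mu : Fin l → ℤ} {w : List (Fin l)} {σ : Fin l → Fin l}
    (T : Tab D l J k r s lam mu w σ) (hJk : J.Nonempty ↔ 1 ≤ k)
    (hφ : ∃ φ : Matrix.SpecialLinearGroup (Fin (k + 1)) K →* ↥(D.group K),
      ∀ i j (hij : i ≠ j) a, φ (Matrix.SpecialLinearGroup.transvection hij a) =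
        xc hp (vec D l (r i j)) ((s i j : K) * a)) :
    ∃ c : ↥(D.group K), ∀ g, ∃ x y, g = (x * c * x⁻¹) * (y * c * y⁻¹) := by
  classical
  obtain ⟨φ, hφ⟩ := hφ
  obtain ⟨p, hpc⟩ := CharP.exists K
  have hpp : p.Prime := (CharP.char_is_prime_or_zero K p).resolve_right (CharP.char_ne_zero_of_finite K p)
  have : Fact p.Prime := ⟨hpp⟩
  let cs : CoxeterSystem M M.Group := M.toCoxeterSystem
  have hfinW : Finite M.Group := finite_W hp cs
  have hs := hsimp.1
  have hZ : Subgroup.center ↥(D.group K) = ⊥ := by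
    rcases (inferInstance : (Subgroup.center ↥(D.group K)).Normal).eq_bot_or_eq_top with h1 | h1
    · exact h1
    · exfalso
      apply hsimp.2
      exact ⟨⟨fun a b => by
        have h2 : a ∈ Subgroup.center ↥(D.group K) := by rw [h1]; exact Subgroup.mem_top a
        exact (Subgroup.mem_center_iff.1 h2 b).symm⟩⟩
  obtain ⟨e, L⟩ := ld hp cs p hF hZ T hJk φ hφ
  have R := rgd (K := K) hp cs p
  refine main (F := K) R (fd hp cs p) hF hD hconn (nn_mem_LL hp) (G1_eq_top hp cs) ?_ L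
  rcases (inferInstance : (RGD.B cs hp.isCartan (TT D K) (XX D l K)).normalCore.Normal).eq_bot_or_eq_top with h1 | h1
  · exact h1
  · exfalso
    have h2 : (⊤ : Subgroup ↥(D.group K)) ≤ RGD.B cs hp.isCartan (TT D K) (XX D l K) := by
      rw [← h1]
      exact Subgroup.normalCore_le _
    exact R.not_neg_le_B ⟨0, hl⟩ (le_top.trans h2)

theorem exc_G2 (F : Type*) [Field F] [Finite F] (hF : 9 ≤ Nat.card F) :
    ∃ c : ↥(chevG2.group F), ∀ g, ∃ x y, g = (x * c * x⁻¹) * (y * c * y⁻¹) := by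
  have hp : IsType chevG2 2 CoxeterMatrix.G₂ := by simp [IsType, typeList]
  have h0 : ∃ a : F, a ≠ 0 ∧ a ≠ 1 := by
    classical
    have := Fintype.ofFinite F
    by_contra hc
    push Not at hc
    have h1 : (Finset.univ : Finset F) ⊆ {0, 1} := by
      intro a _
      by_cases ha : a = 0
      · simp [ha]
      · simp [hc a ha]
    have h2 := Finset.card_le_card h1
    have h3 : ({0, 1} : Finset F).card ≤ 2 := Finset.card_le_two
    rw [Finset.card_univ, ← Nat.card_eq_fintype_card] at h2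
    omega
  refine exc_main hp hF (by norm_num) (Cfsg.Agent.S1055.result h0) hD_G2 conn_G2 tab_G2 (by decide)
    ⟨1, fun i j hij => absurd (Fin.ext (by omega)) hij⟩

theorem exc_F4 (F : Type*) [Field F] [Finite F] (hF : 9 ≤ Nat.card F) :
    ∃ c : ↥(chevF4.group F), ∀ g, ∃ x y, g = (x * c * x⁻¹) * (y * c * y⁻¹) := by
  have hp : IsType chevF4 4 CoxeterMatrix.F₄ := by simp [IsType, typeList]
  exact exc_main hp hF (by norm_num) (Cfsg.Agent.S1054.result _ (by simp)) hD_F4 conn_F4 tab_F4 (by decide)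
    (exists_phi2 hp 1 (by decide +kernel) (by decide +kernel) rfl rfl)

theorem exc_E6 (F : Type*) [Field F] [Finite F] (hF : 9 ≤ Nat.card F) :
    ∃ c : ↥(chevE6.group F), ∀ g, ∃ x y, g = (x * c * x⁻¹) * (y * c * y⁻¹) := by
  have hp : IsType chevE6 6 CoxeterMatrix.E₆ := by simp [IsType, typeList]
  exact exc_main hp hF (by norm_num) (Cfsg.Agent.S1054.result _ (by simp)) hD_E6 conn_E6 tab_E6 (by decide)
    (exists_phi3 hp (by norm_num) tab_E6.ra rtb_E6 rtc_E6 tab_E6.rd)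

theorem exc_E7 (F : Type*) [Field F] [Finite F] (hF : 9 ≤ Nat.card F) :
    ∃ c : ↥(chevE7.group F), ∀ g, ∃ x y, g = (x * c * x⁻¹) * (y * c * y⁻¹) := by
  have hp : IsType chevE7 7 CoxeterMatrix.E₇ := by simp [IsType, typeList]
  exact exc_main hp hF (by norm_num) (Cfsg.Agent.S1054.result _ (by simp)) hD_E7 conn_E7 tab_E7 (by decide)
    (exists_phi3 hp (by norm_num) tab_E7.ra rtb_E7 rtc_E7 tab_E7.rd)

theorem exc_E8 (F : Type*) [Field F] [Finite F] (hF : 9 ≤ Nat.card F) :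
    ∃ c : ↥(chevE8.group F), ∀ g, ∃ x y, g = (x * c * x⁻¹) * (y * c * y⁻¹) := by
  have hp : IsType chevE8 8 CoxeterMatrix.E₈ := by simp [IsType, typeList]
  exact exc_main hp hF (by norm_num) (Cfsg.Agent.S1054.result _ (by simp)) hD_E8 conn_E8 tab_E8 (by decide)
    (exists_phi3 hp (by norm_num) tab_E8.ra rtb_E8 rtc_E8 tab_E8.rd)

end Cfsg.Agent.H155.TG
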