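import Cfsg.Agent.H155.TG.Moves

/-!
# Nonzero coefficients at all nodes, torus part in a Levi subgroup (helper155)

* `start` : from a noncentral rank one part to `a k ≠ 0`;
* `grow`, `all_ne` : conjugates with all `a i ≠ 0`;
* `process` : torus part in `T_S`, `a i ≠ 0` for `i ∈ S₀`.
-/

set_option autoImplicit false
set_option linter.unusedSectionVars false

namespace Cfsg.Agent.H155.TG

open CoxeterSystem Cfsg.Agent.ChevalleyStructure.CoxeterGeom Cfsg.Agent.Tits.Roots Cfsg.Agent.Tits.Core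
  Cfsg.Agent.Tits.Exchange Cfsg.Agent.Nodes.Reps Cfsg.Agent.Nodes.BNOf Cfsg.Agent.Nodes.StabComb
  Cfsg.Agent.Nodes.Bruhat Cfsg.Agent.Nodes.OppDec Cfsg.Agent.Nodes.LeviDec Cfsg.Agent.Nodes.NormalForm
  Cfsg.Agent.KFacts.RgdOpp
open scoped commutatorElement Polynomial

section Poly

variable {F : Type*} [Field F] [Finite F] {I : Type*}

theorem exists_good (hF : 9 ≤ Nat.card F) (G : F[X]) (hG : G ≠ 0) (P : I → F[X]) (S : Finset I)
    (hP : ∀ j ∈ S, P j ≠ 0) (hdeg : G.natDegree + ∑ j ∈ S, (P j).natDegree < 9) :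
    ∃ s, G.eval s ≠ 0 ∧ ∀ j ∈ S, (P j).eval s ≠ 0 := by
  have h1 : G * ∏ j ∈ S, P j ≠ 0 := mul_ne_zero hG (Finset.prod_ne_zero_iff.2 hP)
  have h2 : (G * ∏ j ∈ S, P j).natDegree < 9 := by
    refine lt_of_le_of_lt (Polynomial.natDegree_mul_le) (lt_of_le_of_lt ?_ hdeg)
    exact Nat.add_le_add_left (Polynomial.natDegree_prod_le _ _) _
  obtain ⟨s, hs⟩ := Polynomial.exists_eval_ne_zero_of_natDegree_lt_card _ h1 (by
    rw [← Nat.cast_card]
    exact_mod_cast lt_of_lt_of_le h2 hF)
  rw [Polynomial.eval_mul, Polynomial.eval_prod] at hs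
  refine ⟨s, left_ne_zero_of_mul hs, fun j hj => ?_⟩
  exact Finset.prod_ne_zero_iff.1 (right_ne_zero_of_mul hs) j hj

theorem exists_notMem3 (hF : 9 ≤ Nat.card F) (a b c : F) : ∃ r : F, r ≠ a ∧ r ≠ b ∧ r ≠ c := by
  classical
  have := Fintype.ofFinite F
  by_contra hcon
  push Not at hcon
  have h1 : (Finset.univ : Finset F) ⊆ {a, b, c} := by
    intro r _
    rw [Finset.mem_insert, Finset.mem_insert, Finset.mem_singleton]
    by_cases h1 : r = a
    · exact Or.inl h1
    · by_cases h2 : r = b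
      · exact Or.inr (Or.inl h2)
      · exact Or.inr (Or.inr (hcon r h1 h2))
  have h2 := Finset.card_le_card h1
  have h3 : ({a, b, c} : Finset F).card ≤ 3 := Finset.card_le_three
  rw [Finset.card_univ, ← Nat.card_eq_fintype_card] at h2
  omega

/-- the polynomial `1 - a X` -/
theorem deg1 (a : F) : (1 - Polynomial.C a * Polynomial.X : F[X]).natDegree ≤ 1 := by
  compute_degree

theorem ne1 (a : F) : (1 - Polynomial.C a * Polynomial.X : F[X]) ≠ 0 := by
  intro h1
  have h2 := congrArg (Polynomial.eval 0) h1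
  simp at h2

end Poly

variable {I W Y : Type*} [Fintype I] [DecidableEq I] [Group W] [Group Y] {M : CoxeterMatrix I}
  {cs : CoxeterSystem M W} {A : I → I → ℤ} {h : IsCartan M A} {p : ℕ} {T : Subgroup Y} {n : I → Y}
  {X : (I → ℤ) → Subgroup Y} {F : Type*} [Field F] {x y hh : I → F → Y} {χ : I → Y → F} {D : I → I → ℕ}

section

variable [Finite W] (R : RGD cs h p T n X) (E : FD cs h T X x y hh χ D) [Finite F] (hF : 9 ≤ Nat.card F)

include R E hF

/-- from a nontrivial rank one part to a nonzero coefficient; the other coefficients are unchanged -/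
theorem start {g t : Y} {a b : I → F} (hS : St cs h T X x y g t a b) {k : I}
    (hk : ¬ (a k = 0 ∧ b k = 0 ∧ χ k t = 1)) :
    ∃ t' a' b', St cs h T X x y g t' a' b' ∧ a' k ≠ 0 ∧ ∀ j, j ≠ k → a' j = a j := by
  by_cases ha : a k = 0
  · have ht := E.chi0 k t hS.1
    have key : ∃ r, r ≠ 0 ∧ 1 + b k * r ≠ 0 ∧ 1 + b k * r ≠ (χ k t)⁻¹ := by
      by_cases hb : b k = 0
      · refine ⟨1, one_ne_zero, by rw [hb]; simp, ?_⟩
        rw [hb, zero_mul, add_zero]
        intro h1
        exact hk ⟨ha, hb, inv_eq_one.1 h1.symm⟩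
      · obtain ⟨r, h1, h2, h3⟩ := exists_notMem3 hF 0 (-1 / b k) (((χ k t)⁻¹ - 1) / b k)
        refine ⟨r, h1, fun h4 => h2 ?_, fun h4 => h3 ?_⟩
        · rw [eq_div_iff hb]; linear_combination h4
        · rw [eq_div_iff hb]; linear_combination h4
    obtain ⟨r, h1, h2, h3⟩ := key
    obtain ⟨a', b', hS', hak, haj⟩ := ymove R E hS k h2
    refine ⟨_, a', b', hS', ?_, haj⟩
    rw [hak, ha]
    intro h4
    have h5 : (χ k t)⁻¹ * r = r * (1 + b k * r) := by
      have h6 : (χ k t)⁻¹ * (r / (1 + b k * r)) = r := by linear_combination h4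
      calc (χ k t)⁻¹ * r = (χ k t)⁻¹ * (r / (1 + b k * r)) * (1 + b k * r) := by rw [mul_assoc, div_mul_cancel₀ _ h2]
        _ = _ := by rw [h6]
    apply h3
    have h6 : r * (1 + b k * r) = r * (χ k t)⁻¹ := by rw [← h5, mul_comm]
    exact mul_left_cancel₀ h1 h6
  · exact ⟨t, a, b, hS, ha, fun _ _ => rfl⟩

variable (hD : ∀ k, ∑ j ∈ Finset.univ.erase k, D k j ≤ 4)

include hD

/-- **One more nonzero coefficient.** -/
theorem grow {g t : Y} {a b : I → F} (hS : St cs h T X x y g t a b) {S : Set I} (ha : ∀ i ∈ S, a i ≠ 0) {j k : I}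
    (hj : j ∈ S) (hk : k ∉ S) (hjk : M j k ≠ 2) :
    ∃ t' a' b', St cs h T X x y g t' a' b' ∧ ∀ i ∈ insert k S, a' i ≠ 0 := by
  classical
  by_cases hkt : ¬ (a k = 0 ∧ b k = 0 ∧ χ k t = 1)
  · obtain ⟨t', a', b', hS', h1, h2⟩ := start R E hF hS hkt
    refine ⟨t', a', b', hS', ?_⟩
    rintro i (rfl | hi)
    · exact h1
    · rw [h2 i (by rintro rfl; exact hk hi)]
      exact ha i hi
  rw [not_not] at hkt
  have hjk' : j ≠ k := by rintro rfl; exact hk hj
  -- the exponent
  obtain ⟨m, hm1, hm3, hmA⟩ := E.chn j k hjk' hjk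
  obtain ⟨P, hP, hmove⟩ := xmove R E hS j
  have haj : a j ≠ 0 := ha j hj
  -- the conditions on `s`
  have hG2 : ((1 - Polynomial.C (a j) * Polynomial.X) ^ m - 1 : F[X]) ≠ 0 := by
    intro h1
    have h2 := congrArg (Polynomial.eval (a j)⁻¹) h1
    simp [mul_inv_cancel₀ haj, zero_pow (by omega : m ≠ 0)] at h2
  have hG2d : ((1 - Polynomial.C (a j) * Polynomial.X) ^ m - 1 : F[X]).natDegree ≤ m := by
    refine (Polynomial.natDegree_sub_le _ _).trans (max_le ?_ (by simp))
    exact (Polynomial.natDegree_pow_le).trans (by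
      have := deg1 (a j)
      calc m * _ ≤ m * 1 := Nat.mul_le_mul_left m this
        _ = m := mul_one m)
  have hPne : ∀ i ∈ (Finset.univ.erase j).filter (fun i => i ∈ S), P i ≠ 0 := by
    intro i hi h1
    rw [Finset.mem_filter, Finset.mem_erase] at hi
    apply ha i hi.2
    rw [← (hP i hi.1.1).2, h1, Polynomial.eval_zero]
  have hsum : ∑ i ∈ (Finset.univ.erase j).filter (fun i => i ∈ S), (P i).natDegree ≤ 4 := by
    refine le_trans ?_ (hD j)
    refine le_trans (Finset.sum_le_sum (g := fun i => D j i) fun i hi => ?_)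
      (Finset.sum_le_sum_of_subset (Finset.filter_subset _ _))
    rw [Finset.mem_filter, Finset.mem_erase] at hi
    exact (hP i hi.1.1).1
  obtain ⟨s, hs, hsP⟩ := exists_good hF
    ((1 - Polynomial.C (a j) * Polynomial.X) * ((1 - Polynomial.C (a j) * Polynomial.X) ^ m - 1))
    (mul_ne_zero (ne1 _) hG2) P _ hPne (by
      have h1 := Polynomial.natDegree_mul_le (p := (1 - Polynomial.C (a j) * Polynomial.X : F[X]))
        (q := (1 - Polynomial.C (a j) * Polynomial.X) ^ m - 1)
      have h2 := deg1 (a j)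
      omega)
  rw [Polynomial.eval_mul] at hs
  have hs1 : 1 - s * a j ≠ 0 := by
    have := left_ne_zero_of_mul hs
    simp only [Polynomial.eval_sub, Polynomial.eval_one, Polynomial.eval_mul, Polynomial.eval_C,
      Polynomial.eval_X] at this
    rwa [mul_comm s]
  have hs2 : (1 - s * a j) ^ m ≠ 1 := by
    have := right_ne_zero_of_mul hs
    simp only [Polynomial.eval_sub, Polynomial.eval_pow, Polynomial.eval_one, Polynomial.eval_mul, Polynomial.eval_C,
      Polynomial.eval_X] at this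
    rw [mul_comm s]
    exact sub_ne_zero.1 this
  obtain ⟨a', b', hS', haj', hai', -⟩ := hmove s hs1
  have hχ : χ k (hh j (1 - s * a j) * t) ≠ 1 := by
    rw [chi_mul E (E.hmem j _ hs1) hS.1, hmA _ hs1, hkt.2.2, mul_one]
    intro h1
    exact hs2 (inv_eq_one.1 h1)
  obtain ⟨t'', a'', b'', hS'', h1, h2⟩ := start R E hF hS' (k := k) (fun h3 => hχ h3.2.2)
  refine ⟨t'', a'', b'', hS'', ?_⟩
  rintro i (rfl | hi)
  · exact h1
  · rw [h2 i (by rintro rfl; exact hk hi)]
    by_cases hij : i = j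
    · rw [hij, haj']
      exact div_ne_zero haj hs1
    · rw [hai' i hij]
      exact hsP i (by rw [Finset.mem_filter, Finset.mem_erase]; exact ⟨⟨hij, Finset.mem_univ i⟩, hi⟩)

/-- **All coefficients nonzero.** -/
theorem all_ne (hconn : ∀ S : Set I, S.Nonempty → S ≠ Set.univ → ∃ a ∈ S, ∃ b, b ∉ S ∧ M a b ≠ 2)
    {g t : Y} {a b : I → F} (hS : St cs h T X x y g t a b) {k : I}
    (hk : ¬ (a k = 0 ∧ b k = 0 ∧ χ k t = 1)) :
    ∃ t' a' b', St cs h T X x y g t' a' b' ∧ ∀ i, a' i ≠ 0 := by
  classical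
  have key : ∀ m : ℕ, ∀ S : Finset I, (Finset.univ \ S).card = m → S.Nonempty →
      ∀ {t : Y} {a b : I → F}, St cs h T X x y g t a b → (∀ i ∈ S, a i ≠ 0) →
      ∃ t' a' b', St cs h T X x y g t' a' b' ∧ ∀ i, a' i ≠ 0 := by
    intro m
    induction m with
    | zero =>
      intro S hS0 _ t a b hS ha
      rw [Finset.card_eq_zero, Finset.sdiff_eq_empty_iff_subset] at hS0
      exact ⟨t, a, b, hS, fun i => ha i (hS0 (Finset.mem_univ i))⟩
    | succ m ih =>
      intro S hm hne t a b hS ha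
      have hSne : (S : Set I) ≠ Set.univ := by
        intro h1
        rw [← Finset.coe_univ, Finset.coe_inj] at h1
        rw [h1, sdiff_self] at hm
        simp at hm
      obtain ⟨j, hj, k, hk, hjk⟩ := hconn S (by simpa using hne) hSne
      obtain ⟨t', a', b', hS', h1⟩ := grow R E hF hD hS (S := (S : Set I)) (by simpa using ha) hj hk hjk
      refine ih (insert k S) ?_ (Finset.insert_nonempty k S) hS' (fun i hi => h1 i (by simpa using hi))
      have h2 : Finset.univ \ insert k S = (Finset.univ \ S).erase k := by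
        ext i
        simp [Finset.mem_erase, not_or]
      rw [h2, Finset.card_erase_of_mem (by simpa using hk), hm]
      rfl
  obtain ⟨t', a', b', hS', h1, -⟩ := start R E hF hS hk
  exact key _ {k} rfl (Finset.singleton_nonempty k) hS' (fun i hi => by
    rw [Finset.mem_singleton] at hi; rw [hi]; exact h1)

/-- **Moving the torus part into a Levi subgroup.** -/
theorem process {g : Y} {S₀ : Set I} : ∀ (m : ℕ) (K : Finset I) (J : Set I), K.card = m → (∀ k ∈ K, k ∉ S₀) →
    ∀ {t : Y} {a b : I → F}, St cs h T X x y g t a b → t ∈ TS hh (J ∪ K) → (∀ i ∈ K, a i ≠ 0) →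
    (∀ i ∈ S₀, a i ≠ 0) →
    ∃ t' a' b', St cs h T X x y g t' a' b' ∧ t' ∈ TS hh J ∧ ∀ i ∈ S₀, a' i ≠ 0 := by
  classical
  intro m
  induction m with
  | zero =>
    intro K J hK _ t a b hS ht _ ha0
    rw [Finset.card_eq_zero] at hK
    subst hK
    rw [Finset.coe_empty, Set.union_empty] at ht
    exact ⟨t, a, b, hS, ht, ha0⟩
  | succ m ih =>
    intro K J hK hKS t a b hS ht haK ha0
    obtain ⟨k, hk⟩ : K.Nonempty := by
      rw [← Finset.card_pos, hK]; exact Nat.succ_pos m
    obtain ⟨P, hP, hmove⟩ := xmove R E hS k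
    have hak : a k ≠ 0 := haK k hk
    have htT := hS.1
    have hχ := E.chi0 k t htT
    have hset : ∀ i, i ∈ (Finset.univ.erase k).filter (fun i => i ∈ K ∨ i ∈ S₀) ↔ i ≠ k ∧ (i ∈ K ∨ i ∈ S₀) := by
      intro i
      rw [Finset.mem_filter, Finset.mem_erase]
      simp
    have hG2 : ((Polynomial.C (b k) + Polynomial.X) * (1 - Polynomial.C (a k) * Polynomial.X) -
        Polynomial.C (χ k t)⁻¹ * Polynomial.X : F[X]) ≠ 0 := by
      intro h1
      have h2 := congrArg (Polynomial.eval (a k)⁻¹) h1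
      simp [mul_inv_cancel₀ hak] at h2
      exact h2.elim (fun h3 => hχ h3) (fun h3 => hak h3)
    have hG2d : ((Polynomial.C (b k) + Polynomial.X) * (1 - Polynomial.C (a k) * Polynomial.X) -
        Polynomial.C (χ k t)⁻¹ * Polynomial.X : F[X]).natDegree ≤ 2 := by
      compute_degree
    obtain ⟨s, hs, hsP⟩ := exists_good hF
      ((1 - Polynomial.C (a k) * Polynomial.X) * ((Polynomial.C (b k) + Polynomial.X) *
        (1 - Polynomial.C (a k) * Polynomial.X) - Polynomial.C (χ k t)⁻¹ * Polynomial.X))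
      (mul_ne_zero (ne1 _) hG2) P ((Finset.univ.erase k).filter (fun i => i ∈ K ∨ i ∈ S₀)) (by
        intro i hi h1
        rw [hset] at hi
        have h2 := (hP i hi.1).2
        rw [h1, Polynomial.eval_zero] at h2
        rcases hi.2 with h3 | h3
        · exact haK i h3 h2.symm
        · exact ha0 i h3 h2.symm) (by
        have h1 := Polynomial.natDegree_mul_le (p := (1 - Polynomial.C (a k) * Polynomial.X : F[X]))
          (q := (Polynomial.C (b k) + Polynomial.X) *
            (1 - Polynomial.C (a k) * Polynomial.X) - Polynomial.C (χ k t)⁻¹ * Polynomial.X)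
        have h2 := deg1 (a k)
        have h3 : ∑ i ∈ (Finset.univ.erase k).filter (fun i => i ∈ K ∨ i ∈ S₀), (P i).natDegree ≤ 4 := by
          refine le_trans ?_ (hD k)
          refine le_trans (Finset.sum_le_sum (g := fun i => D k i) fun i hi => ?_)
            (Finset.sum_le_sum_of_subset (Finset.filter_subset _ _))
          rw [hset] at hi
          exact (hP i hi.1).1
        omega)
    rw [Polynomial.eval_mul] at hs
    have hs1 : 1 - s * a k ≠ 0 := by
      have := left_ne_zero_of_mul hs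
      simp only [Polynomial.eval_sub, Polynomial.eval_one, Polynomial.eval_mul, Polynomial.eval_C,
        Polynomial.eval_X] at this
      rwa [mul_comm s]
    have hs2 : b k + s - (χ k t)⁻¹ * (s / (1 - s * a k)) ≠ 0 := by
      have h1 := right_ne_zero_of_mul hs
      simp only [Polynomial.eval_sub, Polynomial.eval_one, Polynomial.eval_mul, Polynomial.eval_C,
        Polynomial.eval_X, Polynomial.eval_add] at h1
      intro h2
      apply h1
      have h3 : (b k + s) * (1 - s * a k) = (χ k t)⁻¹ * s := by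
        have h4 : b k + s = (χ k t)⁻¹ * (s / (1 - s * a k)) := by linear_combination h2
        rw [h4]
        field_simp
      linear_combination h3
    obtain ⟨a', b', hS', hak', hai', hbk'⟩ := hmove s hs1
    have hb' : b' k ≠ 0 := by rw [hbk']; exact hs2
    -- the torus part
    have ht1 : hh k (1 - s * a k) * t ∈ TS hh (insert k (J ∪ (K.erase k : Finset I))) := by
      refine mul_mem (hh_mem_TS (Set.mem_insert k _) hs1) (TS_mono ?_ ht)
      rintro i (hi | hi)
      · exact Or.inr (Or.inl hi)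
      · by_cases hik : i = k
        · exact Or.inl hik
        · exact Or.inr (Or.inr (Finset.mem_coe.2 (Finset.mem_erase.2 ⟨hik, hi⟩)))
    obtain ⟨c, hc, t', ht', e⟩ := mem_TS_insert E ht1
    have hr : 1 + b' k * ((c⁻¹ - 1) / b' k) = c⁻¹ := by
      field_simp
      ring
    have hr0 : 1 + b' k * ((c⁻¹ - 1) / b' k) ≠ 0 := by rw [hr]; exact inv_ne_zero hc
    obtain ⟨a'', b'', hS'', -, h2⟩ := ymove R E hS' k hr0
    rw [hr, e, ← mul_assoc, ← E.hmul k _ _ (inv_ne_zero hc) hc, inv_mul_cancel₀ hc, hh_one E, one_mul] at hS''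
    refine ih (K.erase k) J (by rw [Finset.card_erase_of_mem hk, hK]; rfl)
      (fun i hi => hKS i (Finset.mem_of_mem_erase hi)) hS'' ht' ?_ ?_
    · intro i hi
      have hik : i ≠ k := Finset.ne_of_mem_erase hi
      rw [h2 i hik, hai' i hik]
      exact hsP i ((hset i).2 ⟨hik, Or.inl (Finset.mem_of_mem_erase hi)⟩)
    · intro i hi
      have hik : i ≠ k := by
        rintro rfl
        exact hKS i hk hi
      rw [h2 i hik, hai' i hik]
      exact hsP i ((hset i).2 ⟨hik, Or.inr hi⟩)

end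

end Cfsg.Agent.H155.TG
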