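import Cfsg.Agent.H155.TG.Basic

/-!
# Field coordinates of the simple root groups and the two moves (helper155)

* `FD` : parametrisations `x i`, `y i` of `X (sr i)`, `X (-sr i)`, coroot elements `hh i c`, characters `χ i`,
  the rank one relation, and the polynomial dependence `poly`;
* `St g t a b` : `g` is conjugate to `v t u`, `v ∈ U⁻`, `u ∈ U`, with simple coefficients `a`, `b`;
* `xmove`, `ymove` : conjugation by `x k s`, `y k r`.
-/

set_option autoImplicit false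
set_option linter.unusedSectionVars false

namespace Cfsg.Agent.H155.TG

open CoxeterSystem Cfsg.Agent.ChevalleyStructure.CoxeterGeom Cfsg.Agent.Tits.Roots Cfsg.Agent.Tits.Core
  Cfsg.Agent.Tits.Exchange Cfsg.Agent.Nodes.Reps Cfsg.Agent.Nodes.BNOf Cfsg.Agent.Nodes.StabComb
  Cfsg.Agent.Nodes.Bruhat Cfsg.Agent.Nodes.OppDec Cfsg.Agent.Nodes.LeviDec Cfsg.Agent.Nodes.NormalForm
  Cfsg.Agent.KFacts.RgdOpp
open scoped commutatorElement

variable {I W Y : Type*} [Fintype I] [DecidableEq I] [Group W] [Group Y] {M : CoxeterMatrix I}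
  {cs : CoxeterSystem M W} {A : I → I → ℤ} {h : IsCartan M A} {p : ℕ} {T : Subgroup Y} {n : I → Y}
  {X : (I → ℤ) → Subgroup Y} {F : Type*} [Field F] {x y hh : I → F → Y} {χ : I → Y → F} {D : I → I → ℕ}

/-- Field coordinates of the simple root groups. -/
structure FD (cs : CoxeterSystem M W) (h : IsCartan M A) (T : Subgroup Y) (X : (I → ℤ) → Subgroup Y)
    (x y hh : I → F → Y) (χ : I → Y → F) (D : I → I → ℕ) : Prop where
  px : Par X x
  py : Par (fun r => X (-r)) y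
  rank1 : ∀ i a b, 1 + b * a ≠ 0 →
    x i b * y i a = y i (a / (1 + b * a)) * hh i (1 + b * a) * x i (b / (1 + b * a))
  hmem : ∀ i c, c ≠ 0 → hh i c ∈ T
  hmul : ∀ i c d, c ≠ 0 → d ≠ 0 → hh i (c * d) = hh i c * hh i d
  chi0 : ∀ i, ∀ t ∈ T, χ i t ≠ 0
  tx : ∀ i, ∀ t ∈ T, ∀ s, t * x i s * t⁻¹ = x i (χ i t * s)
  ty : ∀ i, ∀ t ∈ T, ∀ s, t * y i s * t⁻¹ = y i ((χ i t)⁻¹ * s)
  chd : ∀ i c, c ≠ 0 → χ i (hh i c) = c ^ 2
  chn : ∀ i j, i ≠ j → M i j ≠ 2 → ∃ m : ℕ, 1 ≤ m ∧ m ≤ 3 ∧ ∀ c, c ≠ 0 → χ j (hh i c) = (c ^ m)⁻¹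
  poly : ∀ k j, j ≠ k → ∀ r ∈ RGD.PosNe cs h k, ∀ v ∈ X (-r), ∃ P : Polynomial F, P.natDegree ≤ D k j ∧
    ∀ s, Cf cs h (fun r => X (-r)) y j (x k (-s) * v * x k s) (P.eval s)

theorem chd_of (hχ : ∀ i j c, c ≠ 0 → χ j (hh i c) = c ^ A i j) (h : IsCartan M A) (i : I) (c : F) (hc : c ≠ 0) :
    χ i (hh i c) = c ^ 2 := by
  rw [hχ i i c hc, h.diag]
  norm_cast

theorem chn_of (hχ : ∀ i j c, c ≠ 0 → χ j (hh i c) = c ^ A i j) (h : IsCartan M A) (i j : I) (hij : i ≠ j)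
    (hM : M i j ≠ 2) : ∃ m : ℕ, 1 ≤ m ∧ m ≤ 3 ∧ ∀ c, c ≠ 0 → χ j (hh i c) = (c ^ m)⁻¹ := by
  obtain ⟨m, hm1, hm3, hmA⟩ : ∃ m : ℕ, 1 ≤ m ∧ m ≤ 3 ∧ A i j = -(m : ℤ) := by
    rcases h.rel i j hij with ⟨h1, -, -⟩ | ⟨-, h1, -⟩ | ⟨-, ⟨h1, -⟩ | ⟨h1, -⟩⟩ | ⟨-, ⟨h1, -⟩ | ⟨h1, -⟩⟩
    · exact absurd h1 hM
    · exact ⟨1, le_rfl, by norm_num, by rw [h1]; rfl⟩
    · exact ⟨1, le_rfl, by norm_num, by rw [h1]; rfl⟩
    · exact ⟨2, by norm_num, by norm_num, by rw [h1]; rfl⟩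
    · exact ⟨1, le_rfl, by norm_num, by rw [h1]; rfl⟩
    · exact ⟨3, by norm_num, by norm_num, by rw [h1]; rfl⟩
  refine ⟨m, hm1, hm3, fun c hc => ?_⟩
  rw [hχ i j c hc, hmA, zpow_neg, zpow_natCast]

/-- the torus generated by the coroot elements of the nodes of `S` -/
def TS (hh : I → F → Y) (S : Set I) : Subgroup Y := Subgroup.closure {t | ∃ i ∈ S, ∃ c, c ≠ 0 ∧ hh i c = t}

theorem hh_mem_TS {S : Set I} {i : I} (hi : i ∈ S) {c : F} (hc : c ≠ 0) : hh i c ∈ TS hh S :=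
  Subgroup.subset_closure ⟨i, hi, c, hc, rfl⟩

theorem TS_mono {S S' : Set I} (hS : S ⊆ S') : TS hh S ≤ TS hh S' :=
  Subgroup.closure_mono (by rintro _ ⟨i, hi, c, hc, rfl⟩; exact ⟨i, hS hi, c, hc, rfl⟩)

section Torus

variable (E : FD cs h T X x y hh χ D)

include E

theorem hh_one (i : I) : hh i 1 = 1 := by
  have := E.hmul i 1 1 one_ne_zero one_ne_zero
  rwa [mul_one, left_eq_mul] at this

theorem TS_le (S : Set I) : TS hh S ≤ T := by
  unfold TS
  rw [Subgroup.closure_le]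
  rintro _ ⟨i, -, c, hc, rfl⟩
  exact E.hmem i c hc

theorem hh_comm {t : Y} (ht : t ∈ T) (i : I) {c : F} (hc : c ≠ 0) : t * hh i c = hh i c * t := by
  have e0 : 1 + (c - 1) * 1 = c := by ring
  have hc' : 1 + (c - 1) * 1 ≠ 0 := by rwa [e0]
  have h1 := E.rank1 i 1 (c - 1) hc'
  have hχ := E.chi0 i t ht
  have e1 : 1 + (χ i t * (c - 1)) * ((χ i t)⁻¹ * 1) = c := by
    field_simp
    ring
  have h2 := E.rank1 i ((χ i t)⁻¹ * 1) (χ i t * (c - 1)) (by rwa [e1])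
  rw [e0] at h1
  rw [e1, ← E.tx i t ht, ← E.ty i t ht, mul_div_assoc, mul_div_assoc, ← E.tx i t ht, ← E.ty i t ht] at h2
  have h3 : t * (x i (c - 1) * y i 1) * t⁻¹ =
      t * y i (1 / c) * t⁻¹ * hh i c * (t * x i ((c - 1) / c) * t⁻¹) := by rw [← h2]; group
  rw [h1] at h3
  have h4 : t * hh i c * t⁻¹ = hh i c := by
    have h5 : (t * y i (1 / c) * t⁻¹) * (t * hh i c * t⁻¹) * (t * x i ((c - 1) / c) * t⁻¹) =
      (t * y i (1 / c) * t⁻¹) * hh i c * (t * x i ((c - 1) / c) * t⁻¹) := by rw [← h3]; group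
    exact mul_left_cancel (mul_right_cancel h5)
  exact mul_inv_eq_iff_eq_mul.1 h4

theorem TS_comm {t s : Y} (ht : t ∈ T) {S : Set I} (hs : s ∈ TS hh S) : t * s = s * t := by
  unfold TS at hs
  induction hs using Subgroup.closure_induction with
  | mem s hs =>
    obtain ⟨i, -, c, hc, rfl⟩ := hs
    exact hh_comm E ht i hc
  | one => rw [mul_one, one_mul]
  | mul a b _ _ h1 h2 => rw [← mul_assoc, h1, mul_assoc, h2, mul_assoc]
  | inv a _ h1 =>
    rw [eq_inv_mul_iff_mul_eq, ← mul_assoc, ← h1, mul_inv_cancel_right]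

/-- an element of `T_{S ∪ {k}}` -/
theorem mem_TS_insert {S : Set I} {k : I} {t : Y} (ht : t ∈ TS hh (insert k S)) :
    ∃ c, c ≠ 0 ∧ ∃ t' ∈ TS hh S, t = hh k c * t' := by
  unfold TS at ht
  induction ht using Subgroup.closure_induction with
  | mem s hs =>
    obtain ⟨i, hi, c, hc, rfl⟩ := hs
    rcases hi with rfl | hi
    · exact ⟨c, hc, 1, one_mem _, by rw [mul_one]⟩
    · exact ⟨1, one_ne_zero, hh i c, hh_mem_TS hi hc, by rw [hh_one E, one_mul]⟩
  | one => exact ⟨1, one_ne_zero, 1, one_mem _, by rw [hh_one E, one_mul]⟩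
  | mul a b _ _ h1 h2 =>
    obtain ⟨c, hc, t', ht', rfl⟩ := h1
    obtain ⟨d, hd, s', hs', rfl⟩ := h2
    refine ⟨c * d, mul_ne_zero hc hd, t' * s', mul_mem ht' hs', ?_⟩
    have h3 := hh_comm E (TS_le E S ht') k hd
    rw [E.hmul k c d hc hd]
    calc hh k c * t' * (hh k d * s') = hh k c * (t' * hh k d) * s' := by group
      _ = _ := by rw [h3]; group
  | inv a _ h1 =>
    obtain ⟨c, hc, t', ht', rfl⟩ := h1
    have h3 := hh_comm E (TS_le E S ht') k hc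
    refine ⟨c⁻¹, inv_ne_zero hc, t'⁻¹, inv_mem ht', ?_⟩
    have h4 : hh k c⁻¹ = (hh k c)⁻¹ := by
      rw [eq_inv_iff_mul_eq_one, ← E.hmul k _ _ (inv_ne_zero hc) hc, inv_mul_cancel₀ hc, hh_one E]
    rw [h4, ← h3, mul_inv_rev]

theorem hh_inv (k : I) {c : F} (hc : c ≠ 0) : hh k c⁻¹ = (hh k c)⁻¹ := by
  rw [eq_inv_iff_mul_eq_one, ← E.hmul k _ _ (inv_ne_zero hc) hc, inv_mul_cancel₀ hc, hh_one E]

theorem chi_mul {i : I} {s t : Y} (hs : s ∈ T) (ht : t ∈ T) : χ i (s * t) = χ i s * χ i t := by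
  have h1 := E.tx i _ (mul_mem hs ht) 1
  have h2 : s * t * x i 1 * (s * t)⁻¹ = s * (t * x i 1 * t⁻¹) * s⁻¹ := by group
  rw [h2, E.tx i t ht, E.tx i s hs] at h1
  have h3 := E.px.inj' h1
  rw [mul_one, mul_one] at h3
  exact h3.symm

theorem tx' {i : I} {t : Y} (ht : t ∈ T) (s : F) : t⁻¹ * x i s * t = x i ((χ i t)⁻¹ * s) := by
  have h1 := E.tx i t ht ((χ i t)⁻¹ * s)
  rw [mul_inv_cancel_left₀ (E.chi0 i t ht)] at h1
  rw [← h1]; group

theorem ty' {i : I} {t : Y} (ht : t ∈ T) (s : F) : t⁻¹ * y i s * t = y i (χ i t * s) := by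
  have h1 := E.ty i t ht (χ i t * s)
  rw [inv_mul_cancel_left₀ (E.chi0 i t ht)] at h1
  rw [← h1]; group

end Torus

/-- `g` is conjugate to `v t u` with simple coefficients `a`, `b`. -/
def St (cs : CoxeterSystem M W) (h : IsCartan M A) (T : Subgroup Y) (X : (I → ℤ) → Subgroup Y)
    (x y : I → F → Y) (g t : Y) (a b : I → F) : Prop :=
  t ∈ T ∧ ∃ v ∈ UU cs h (fun r => X (-r)), ∃ u ∈ UU cs h X, IsConj g (v * t * u) ∧
    (∀ j, Cf cs h (fun r => X (-r)) y j v (a j)) ∧ ∀ j, Cf cs h X x j u (b j)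

section

variable [Finite W] (R : RGD cs h p T n X) (E : FD cs h T X x y hh χ D)

include R E

/-- the conjugates of `Q_k⁻` by `x k s` depend polynomially on `s` -/
theorem polyQ {k j : I} (hjk : j ≠ k) {q : Y} (hq : q ∈ QQ cs h (fun r => X (-r)) k) :
    ∃ P : Polynomial F, P.natDegree ≤ D k j ∧
      ∀ s, Cf cs h (fun r => X (-r)) y j (x k (-s) * q * x k s) (P.eval s) := by
  have hx : ∀ s, x k (-s) = (x k s)⁻¹ := fun s => E.px.neg k s
  refine Subgroup.iSup_induction (fun z : RGD.PosNe cs h k => X (-z.1))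
    (C := fun q => ∃ P : Polynomial F, P.natDegree ≤ D k j ∧
      ∀ s, Cf cs h (fun r => X (-r)) y j (x k (-s) * q * x k s) (P.eval s)) hq ?_ ?_ ?_
  · intro r v hv
    exact E.poly k j hjk r.1 r.2 v hv
  · refine ⟨0, by simp, fun s => ?_⟩
    rw [mul_one, hx, inv_mul_cancel, Polynomial.eval_zero]
    exact cf_one E.py j
  · rintro a b ⟨P, hP, h1⟩ ⟨P', hP', h2⟩
    refine ⟨P + P', (Polynomial.natDegree_add_le _ _).trans (max_le hP hP'), fun s => ?_⟩
    have e : x k (-s) * (a * b) * x k s = (x k (-s) * a * x k s) * (x k (-s) * b * x k s) := by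
      rw [hx]; group
    rw [e, Polynomial.eval_add]
    exact cf_mul (opp R) E.py (h1 s) (h2 s)

/-- **Conjugation by `x k s`.** -/
theorem xmove {g t : Y} {a b : I → F} (hS : St cs h T X x y g t a b) (k : I) :
    ∃ P : I → Polynomial F, (∀ j, j ≠ k → (P j).natDegree ≤ D k j ∧ (P j).eval 0 = a j) ∧
      ∀ s, 1 - s * a k ≠ 0 → ∃ a' b', St cs h T X x y g (hh k (1 - s * a k) * t) a' b' ∧
        a' k = a k / (1 - s * a k) ∧ (∀ j, j ≠ k → a' j = (P j).eval s) ∧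
        b' k = b k + s - (χ k t)⁻¹ * (s / (1 - s * a k)) := by
  obtain ⟨ht, v, hv, u, hu, hg, ha, hb⟩ := hS
  obtain ⟨q, hq, rfl⟩ := ha k
  have hop := opp R
  have hP : ∀ j, j ≠ k → ∃ P : Polynomial F, P.natDegree ≤ D k j ∧
      ∀ s, Cf cs h (fun r => X (-r)) y j (x k (-s) * q * x k s) (P.eval s) := fun j hj => polyQ R E hj hq
  choose! P hPd hPe using hP
  refine ⟨P, fun j hj => ⟨hPd j hj, ?_⟩, fun s hs => ?_⟩
  · have h1 := hPe j hj 0
    rw [neg_zero, E.px.zero, one_mul, mul_one] at h1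
    have h2 := cf_mul hop E.py h1 (cf_ne E.py (Ne.symm hj) (a k))
    rw [add_zero] at h2
    exact cf_unique hop E.py h2 (ha j)
  · have hx : x k (-s) = (x k s)⁻¹ := E.px.neg k s
    have e1 : 1 + -s * a k = 1 - s * a k := by ring
    have h1 := E.rank1 k (a k) (-s) (by rwa [e1])
    rw [e1] at h1
    have hxm : x k (-s) ∈ UU cs h X := X_le_UU k (E.px.x_mem k _)
    -- the new factors
    have hq' : x k (-s) * q * x k s ∈ QQ cs h (fun r => X (-r)) k := by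
      have h2 : x k (-s) ∈ X (-(-sr k)) := by rw [neg_neg]; exact E.px.x_mem k _
      have h3 := conj_Q' hop (i := k) (a := x k (-s)) (q := q) h2 hq
      rwa [hx, inv_inv, ← hx] at h3
    have hc := hh_comm E ht k hs
    obtain ⟨v', hv'⟩ : ∃ v', v' = (x k (-s) * q * x k s) * y k (a k / (1 - s * a k)) := ⟨_, rfl⟩
    obtain ⟨u', hu'⟩ : ∃ u', u' = x k ((χ k t)⁻¹ * (-s / (1 - s * a k))) * u * x k s := ⟨_, rfl⟩
    have hv'U : v' ∈ UU cs h (fun r => X (-r)) := by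
      rw [hv']; exact mul_mem (QQ_le k hq') (X_le_UU k (E.py.x_mem k _))
    have hu'U : u' ∈ UU cs h X := by
      rw [hu']; exact mul_mem (mul_mem (X_le_UU k (E.px.x_mem k _)) hu) (X_le_UU k (E.px.x_mem k _))
    have hex : ∀ j, ∃ c, Cf cs h (fun r => X (-r)) y j v' c ∧ (j = k → c = a k / (1 - s * a k)) ∧
        (j ≠ k → c = (P j).eval s) := by
      intro j
      by_cases hj : j = k
      · subst hj
        exact ⟨_, ⟨_, hq', hv'⟩, fun _ => rfl, fun h => absurd rfl h⟩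
      · refine ⟨(P j).eval s, ?_, fun h => absurd h hj, fun _ => rfl⟩
        rw [hv']
        have h2 := cf_mul hop E.py (hPe j hj s) (cf_ne E.py (Ne.symm hj) (a k / (1 - s * a k)))
        rwa [add_zero] at h2
    choose a' ha' hak haj using hex
    have hex2 : ∀ j, ∃ c, Cf cs h X x j u' c := fun j => cf_exists R E.px j hu'U
    choose b' hb' using hex2
    refine ⟨a', b', ⟨mul_mem (E.hmem k _ hs) ht, v', hv'U, u', hu'U, ?_, ha', hb'⟩, hak k rfl, fun j hj => haj j hj,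
      ?_⟩
    · refine hg.trans ?_
      rw [isConj_iff]
      refine ⟨x k (-s), ?_⟩
      rw [hv', hu']
      have e2 : x k (-s) * (q * y k (a k) * t * u) * (x k (-s))⁻¹ =
          (x k (-s) * q * x k s) * (x k (-s) * y k (a k)) * t * u * x k s := by rw [hx]; group
      rw [e2, h1, ← tx' E ht]
      calc x k (-s) * q * x k s * (y k (a k / (1 - s * a k)) * hh k (1 - s * a k) *
            x k (-s / (1 - s * a k))) * t * u * x k s =
          x k (-s) * q * x k s * y k (a k / (1 - s * a k)) * (hh k (1 - s * a k) * t) *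
            (t⁻¹ * x k (-s / (1 - s * a k)) * t * u * x k s) := by group
        _ = _ := rfl
    · apply cf_unique R E.px (hb' k)
      rw [hu']
      have h3 := cf_mul R E.px (cf_mul R E.px (cf_self E.px k ((χ k t)⁻¹ * (-s / (1 - s * a k)))) (hb k))
        (cf_self E.px k s)
      have e3 : b k + s - (χ k t)⁻¹ * (s / (1 - s * a k)) = (χ k t)⁻¹ * (-s / (1 - s * a k)) + b k + s := by
        rw [neg_div]; ring
      rwa [e3]

/-- **Conjugation by `y k r`.** -/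
theorem ymove {g t : Y} {a b : I → F} (hS : St cs h T X x y g t a b) (k : I) {r : F} (hr : 1 + b k * r ≠ 0) :
    ∃ a' b', St cs h T X x y g (hh k (1 + b k * r) * t) a' b' ∧
      a' k = a k - r + (χ k t)⁻¹ * (r / (1 + b k * r)) ∧ ∀ j, j ≠ k → a' j = a j := by
  obtain ⟨ht, v, hv, u, hu, hg, ha, hb⟩ := hS
  obtain ⟨q, hq, rfl⟩ := cf_left R E.px (hb k)
  have hop := opp R
  have hy : y k (-r) = (y k r)⁻¹ := E.py.neg k r
  have h1 := E.rank1 k r (b k) hr
  have hc := hh_comm E ht k hr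
  -- the new factors
  have hq' : y k (-r) * q * y k r ∈ QQ cs h X k := by
    have h2 : y k (-r) ∈ X (-sr k) := E.py.x_mem k _
    have h3 := conj_Q' R (i := k) (a := y k (-r)) (q := q) h2 hq
    rwa [hy, inv_inv, ← hy] at h3
  obtain ⟨v', hv'⟩ : ∃ v', v' = y k (-r) * v * y k ((χ k t)⁻¹ * (r / (1 + b k * r))) := ⟨_, rfl⟩
  obtain ⟨u', hu'⟩ : ∃ u', u' = x k (b k / (1 + b k * r)) * (y k (-r) * q * y k r) := ⟨_, rfl⟩
  have hv'U : v' ∈ UU cs h (fun r => X (-r)) := by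
    rw [hv']; exact mul_mem (mul_mem (X_le_UU k (E.py.x_mem k _)) hv) (X_le_UU k (E.py.x_mem k _))
  have hu'U : u' ∈ UU cs h X := by
    rw [hu']; exact mul_mem (X_le_UU k (E.px.x_mem k _)) (QQ_le k hq')
  have hex : ∀ j, ∃ c, Cf cs h (fun r => X (-r)) y j v' c ∧
      (j = k → c = a k - r + (χ k t)⁻¹ * (r / (1 + b k * r))) ∧ (j ≠ k → c = a j) := by
    intro j
    by_cases hj : j = k
    · subst hj
      refine ⟨_, ?_, fun _ => rfl, fun h => absurd rfl h⟩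
      rw [hv']
      have h3 := cf_mul hop E.py (cf_mul hop E.py (cf_self E.py j (-r)) (ha j))
        (cf_self E.py j ((χ j t)⁻¹ * (r / (1 + b j * r))))
      have e3 : a j - r + (χ j t)⁻¹ * (r / (1 + b j * r)) = -r + a j + (χ j t)⁻¹ * (r / (1 + b j * r)) := by ring
      rwa [e3]
    · refine ⟨a j, ?_, fun h => absurd h hj, fun _ => rfl⟩
      rw [hv']
      have h3 := cf_mul hop E.py (cf_mul hop E.py (cf_ne E.py (Ne.symm hj) (-r)) (ha j))
        (cf_ne E.py (Ne.symm hj) ((χ k t)⁻¹ * (r / (1 + b k * r))))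
      rwa [zero_add, add_zero] at h3
  choose a' ha' hak haj using hex
  have hex2 : ∀ j, ∃ c, Cf cs h X x j u' c := fun j => cf_exists R E.px j hu'U
  choose b' hb' using hex2
  refine ⟨a', b', ⟨mul_mem (E.hmem k _ hr) ht, v', hv'U, u', hu'U, ?_, ha', hb'⟩, hak k rfl, fun j hj => haj j hj⟩
  refine hg.trans ?_
  rw [isConj_iff]
  refine ⟨y k (-r), ?_⟩
  rw [hv', hu']
  have e2 : y k (-r) * (v * t * (x k (b k) * q)) * (y k (-r))⁻¹ =
      y k (-r) * v * t * (x k (b k) * y k r) * (y k (-r) * q * y k r) := by rw [hy]; group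
  rw [e2, h1, ← E.ty k t ht, ← hc]
  group

end

end Cfsg.Agent.H155.TG
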