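import Cfsg.Agent.H155.TG.PSLi

/-!
# Levi data of `SL_{n+1}`; the theorem for `PSL` (helper155)
-/

set_option autoImplicit false
set_option linter.unusedSectionVars false
set_option linter.unusedSimpArgs false

namespace Cfsg.Agent.H155.TG.PSLi

open Matrix CoxeterSystem Cfsg.Agent.ChevalleyStructure.CoxeterGeom Cfsg.Agent.Tits.Roots
open Cfsg.Agent.Nodes.Reps Cfsg.Agent.Nodes.BNOf Cfsg.Agent.Nodes.RGDLib Cfsg.Agent.Nodes.RootsA
  Cfsg.Agent.Nodes.StabComb Cfsg.Agent.Nodes.Bruhat Cfsg.Agent.KFacts.RgdOpp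
open Cfsg.Agent.LieRecognition.BNCox (cA)
open Cfsg.Agent.LieClassical.SLGen
open Cfsg.Agent.TitsThree.KSideA (tv tv_of_ne tv_add tv_zero tv_neg tv_comm tv_commute diag2n_eq)
open Cfsg.Agent.Nodes.RGDTypeA
open scoped commutatorElement

section Emb

variable {κ ι F : Type*} [Field F] [DecidableEq ι] [Fintype ι] [DecidableEq κ] [Fintype κ] {m : ℕ}

/-- the block embedding -/
def slEmb (F : Type*) [Field F] (e : Fin m ⊕ κ ≃ ι) : SpecialLinearGroup (Fin m) F →* SpecialLinearGroup ι F where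
  toFun A := ⟨Matrix.reindex e e (fromBlocks A.1 0 0 1), by
    rw [det_reindex_self, det_fromBlocks_zero₂₁, A.2, det_one, one_mul]⟩
  map_one' := by
    apply Subtype.ext
    show Matrix.reindex e e (fromBlocks (1 : Matrix (Fin m) (Fin m) F) 0 0 1) = 1
    rw [fromBlocks_one, reindex_apply, submatrix_one_equiv]
  map_mul' A B := by
    apply Subtype.ext
    show Matrix.reindex e e (fromBlocks (A.1 * B.1) 0 0 1) =
      Matrix.reindex e e (fromBlocks A.1 0 0 1) * Matrix.reindex e e (fromBlocks B.1 0 0 1)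
    rw [reindex_apply, reindex_apply, reindex_apply, submatrix_mul_equiv, fromBlocks_multiply]
    simp

theorem slEmb_transvection (e : Fin m ⊕ κ ≃ ι) {i j : Fin m} (hij : i ≠ j) (t : F) :
    slEmb F e (SpecialLinearGroup.transvection hij t) = tv (e (Sum.inl i)) (e (Sum.inl j)) t := by
  have hne : e (Sum.inl i) ≠ e (Sum.inl j) := fun h => hij (Sum.inl_injective (e.injective h))
  apply Subtype.ext
  rw [tv_val hne]
  show Matrix.reindex e e (fromBlocks (1 + single i j t) 0 0 1) = _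
  ext a b
  obtain ⟨a, rfl⟩ := e.surjective a
  obtain ⟨b, rfl⟩ := e.surjective b
  rw [reindex_apply, submatrix_apply, Equiv.symm_apply_apply, Equiv.symm_apply_apply, Matrix.add_apply,
    Matrix.one_apply, single_apply]
  rcases a with a | a <;> rcases b with b | b
  · simp [Matrix.one_apply, single_apply]
  · simp
  · simp
  · simp [Matrix.one_apply]

end Emb

variable {n : ℕ} {F : Type*} [Field F]
variable {W : Type*} [Group W] (cs : CoxeterSystem (cA n) W)

/-- the equivalence `Fin m ⊕ Fin (n + 1 - m) ≃ Fin (n + 1)` -/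
def eqv {m n : ℕ} (h : m ≤ n + 1) : Fin m ⊕ Fin (n + 1 - m) ≃ Fin (n + 1) :=
  finSumFinEquiv.trans (finCongr (by omega))

theorem eqv_val {m n : ℕ} (h : m ≤ n + 1) (i : Fin m) : (eqv h (Sum.inl i)).val = i.val := rfl

/-- the embedding of `SL_m` -/
def ph (F : Type*) [Field F] {m n : ℕ} (h : m ≤ n + 1) :
    SpecialLinearGroup (Fin m) F →* SpecialLinearGroup (Fin (n + 1)) F := slEmb F (eqv h)

theorem ph_tv {m : ℕ} (h : m ≤ n + 1) {i j : Fin m} (hij : i ≠ j) (t : F) :
    ph F h (SpecialLinearGroup.transvection hij t) = tv (⟨i, by omega⟩ : Fin (n + 1)) ⟨j, by omega⟩ t :=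
  slEmb_transvection _ hij t

/-- a diagonal element -/
def dgn (l : Fin (n + 1) → F) (hl : ∏ a, l a = 1) : SpecialLinearGroup (Fin (n + 1)) F :=
  ⟨diagonal l, by rw [det_diagonal, hl]⟩

theorem dgn_mem (l : Fin (n + 1) → F) (hl : ∏ a, l a = 1) : dgn l hl ∈ T (Fin (n + 1)) F := by
  intro a b h
  by_contra hab
  exact h (diagonal_apply_ne _ hab)

theorem dgn_apply (l : Fin (n + 1) → F) (hl : ∏ a, l a = 1) (a : Fin (n + 1)) : (dgn l hl).1 a a = l a :=
  diagonal_apply_eq _ _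

theorem nonneg_mem {m : ℕ} {a b : Fin (n + 1)} (hab : a ≠ b) (h0 : 0 ≤ rtA a b)
    (hJ : ∀ k : Fin n, k ∉ {j : Fin n | j.val + 1 < m} → rtA a b k = 0) : a < b ∧ b.val < m := by
  have h1 : a < b := lt_of_le_of_ne (rtA_nonneg_iff.1 h0) hab
  refine ⟨h1, ?_⟩
  by_contra h2
  have h3 := hJ ⟨b.val - 1, by have := b.2; omega⟩ (by
    show ¬ (b.val - 1 + 1 < m)
    omega)
  rw [rtA_apply] at h3
  have h4 : a.val < b.val := h1
  simp only at h3
  rw [if_pos (by omega), if_neg (by omega)] at h3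
  norm_num at h3

theorem zero_of_lt {m : ℕ} {a b : Fin (n + 1)} (ha : a.val < m) (hb : b.val < m) (k : Fin n)
    (hk : k ∉ {j : Fin n | j.val + 1 < m}) : rtA a b k = 0 := by
  have h1 : ¬ k.val + 1 < m := hk
  rw [rtA_apply, if_pos (by omega), if_pos (by omega), sub_self]

/-- **Levi data of `SL_{n+1}`.** -/
theorem ldA [Finite F] (p : ℕ) [Fact p.Prime] [CharP F p] (hn : 1 ≤ n) {m : ℕ} (hm1 : 1 ≤ m) (hmn : m ≤ n)
    (hm2 : 2 ≤ m → m + 1 ≤ n) (l l' : Fin (n + 1) → F) (hl : ∏ a, l a = 1) (hl' : ∏ a, l' a = 1)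
    (hll : ∀ a, l a * l' a = 1) (h1 : ∀ a b : Fin (n + 1), a.val < m → b.val < m → l a = l b)
    (h2 : ∀ a b : Fin (n + 1), a ≠ b → l a = l b → a.val < m ∧ b.val < m)
    (h3 : ∀ b : Fin (n + 1), l' (Equiv.swap (⟨n - 1, by omega⟩ : Fin n).castSucc (⟨n - 1, by omega⟩ : Fin n).succ b) = l b) :
    LD cs (isCartan n) (T (Fin (n + 1)) F) (X F) (fun i c => dh (Fin.castSucc_lt_succ (i := i)).ne c)
      {j : Fin n | j.val + 1 < m} m (ph F (by omega)) (dgn l hl) := by
  have hmn' : m ≤ n + 1 := by omega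
  have hl0 : ∀ a, l a ≠ 0 := fun a => left_ne_zero_of_mul_eq_one (hll a)
  have hfix : ∀ a b : Fin (n + 1), a ≠ b → ¬ (a.val < m ∧ b.val < m) → ∀ u ∈ XX F a b,
      dgn l hl * u * (dgn l hl)⁻¹ = u → u = 1 := by
    rintro a b hab hm _ ⟨t, rfl⟩ h4
    rw [conj_T (dgn_mem l hl) hab, dgn_apply, dgn_apply] at h4
    have h5 := tv_inj hab h4
    by_cases ht : t = 0
    · rw [ht, tv_zero]
    · exfalso
      apply hm
      apply h2 a b hab
      have h6 := (mul_eq_right₀ ht).1 h5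
      exact mul_inv_eq_one₀ (hl0 b) |>.1 h6
  have hnotJ : ∀ (a b : Fin (n + 1)), a ≠ b → rtA a b ∈ NotJ cs (isCartan n) {j : Fin n | j.val + 1 < m} →
      ¬ (a.val < m ∧ b.val < m) := by
    rintro a b hab ⟨-, -, k, hk, hk0⟩ ⟨ha, hb⟩
    rw [zero_of_lt ha hb k hk] at hk0
    exact lt_irrefl _ hk0
  refine ⟨hm1, ?_, ?_, ?_, ?_, ?_, ?_, dgn_mem l hl, ?_, ?_, ?_, ?_, ?_⟩
  · rintro ⟨j, hj⟩
    have : j.val + 1 < m := hj
    omega
  · intro hJ
    by_contra hm
    apply hJ
    exact ⟨⟨0, by omega⟩, show 0 + 1 < m by omega⟩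
  · -- up
    rintro r ⟨hr1, hr2, hr3⟩ u hu
    obtain ⟨a, b, hab, rfl⟩ := Nodes.RootsA.exists_of_isRoot cs (isCartan n) hr1
    obtain ⟨h4, h5⟩ := nonneg_mem hab hr2 hr3
    rw [X_rtA hab] at hu
    obtain ⟨t, rfl⟩ := hu
    have h4' : a.val < b.val := h4
    have hne : (⟨a, by omega⟩ : Fin m) ≠ ⟨b, h5⟩ := by
      intro h; exact hab (Fin.ext (Fin.mk.inj_iff.1 h))
    refine ⟨SpecialLinearGroup.transvection hne t, fun i j hij => ?_, fun i => ?_, ph_tv hmn' hne t⟩
    · show (1 + single _ _ t : Matrix _ _ F) i j = 0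
      rw [Matrix.add_apply, one_apply_ne (ne_of_gt hij), single_apply_of_ne, add_zero]
      rintro ⟨rfl, rfl⟩
      exact absurd h4' (not_lt.2 (Fin.le_def.1 hij.le))
    · show (1 + single _ _ t : Matrix _ _ F) i i = 1
      rw [Matrix.add_apply, one_apply_eq, single_apply_of_ne, add_zero]
      rintro ⟨rfl, h⟩
      exact hne h.symm
  · -- lo
    rintro r ⟨hr1, hr2, hr3⟩ u hu
    obtain ⟨a, b, hab, rfl⟩ := Nodes.RootsA.exists_of_isRoot cs (isCartan n) hr1
    obtain ⟨h4, h5⟩ := nonneg_mem hab hr2 hr3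
    rw [rtA_neg, X_rtA hab.symm] at hu
    obtain ⟨t, rfl⟩ := hu
    have h4' : a.val < b.val := h4
    have hne : (⟨b, h5⟩ : Fin m) ≠ ⟨a, by omega⟩ := by
      intro h; exact hab (Fin.ext (Fin.mk.inj_iff.1 h.symm))
    refine ⟨SpecialLinearGroup.transvection hne t, fun i j hij => ?_, fun i => ?_, ph_tv hmn' hne t⟩
    · show (1 + single _ _ t : Matrix _ _ F) i j = 0
      rw [Matrix.add_apply, one_apply_ne (ne_of_lt hij), single_apply_of_ne, add_zero]
      rintro ⟨rfl, rfl⟩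
      exact absurd h4' (not_lt.2 (Fin.le_def.1 hij.le))
    · show (1 + single _ _ t : Matrix _ _ F) i i = 1
      rw [Matrix.add_apply, one_apply_eq, single_apply_of_ne, add_zero]
      rintro ⟨rfl, h⟩
      exact hne h.symm
  · -- di
    intro j hj c hc
    have hj' : j.val + 1 < m := hj
    have hne : (⟨j, by omega⟩ : Fin m) ≠ ⟨j.val + 1, hj'⟩ := by
      intro h; have := Fin.mk.inj_iff.1 h; omega
    refine ⟨SpecialLinearGroup.diag2n hne c hc, fun a b hab => ?_, ?_⟩
    · show (diagonal _ : Matrix _ _ F) a b = 0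
      rw [diagonal_apply_ne _ hab]
    · rw [dh_eq _ hc, diag2n_decompose, diag2n_decompose]
      simp only [map_mul, ph_tv]
      have e1 : ((⟨j.val, by omega⟩ : Fin (n + 1))) = j.castSucc := rfl
      have e2 : ((⟨j.val + 1, by omega⟩ : Fin (n + 1))) = j.succ := rfl
      rw [e1, e2]
      simp only [tv_of_ne (Fin.castSucc_lt_succ (i := j)).ne, tv_of_ne (Fin.castSucc_lt_succ (i := j)).ne']
  · -- ran
    refine SL_le _ _ fun i j hij a => ?_
    rw [ph_tv]
    have hne : (⟨i, by omega⟩ : Fin (n + 1)) ≠ ⟨j, by omega⟩ := by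
      intro h; exact hij (Fin.ext (Fin.mk.inj_iff.1 h))
    refine X_le_LJ (x := rtA (⟨i, by omega⟩ : Fin (n + 1)) ⟨j, by omega⟩) ⟨isRoot_rtA cs _ hne, fun k hk =>
      zero_of_lt i.2 j.2 k hk⟩ ?_
    rw [X_rtA hne]
    exact tv_mem_XX _ _ _
  · -- ecomm
    intro B
    have h4 : ph F hmn' B ∈ Subgroup.centralizer {dgn l hl} := by
      refine SL_le _ _ (fun i j hij a => ?_) B
      have hne : (⟨i, by omega⟩ : Fin (n + 1)) ≠ ⟨j, by omega⟩ := by
        intro h; exact hij (Fin.ext (Fin.mk.inj_iff.1 h))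
      rw [Subgroup.mem_centralizer_singleton_iff, ph_tv]
      have h5 := conj_T (dgn_mem l hl) hne a
      rw [dgn_apply, dgn_apply, h1 (⟨i, by omega⟩ : Fin (n + 1)) ⟨j, by omega⟩ i.2 j.2, mul_inv_cancel₀ (hl0 _), one_mul,
        mul_inv_eq_iff_eq_mul] at h5
      exact h5.symm
    exact (Subgroup.mem_centralizer_singleton_iff.1 h4).symm
  · -- efix
    intro r hr u hu
    obtain ⟨a, b, hab, rfl⟩ := Nodes.RootsA.exists_of_isRoot cs (isCartan n) hr.1
    rw [X_rtA hab] at hu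
    exact hfix a b hab (hnotJ a b hab hr) u hu
  · -- efix'
    intro r hr u hu
    obtain ⟨a, b, hab, rfl⟩ := Nodes.RootsA.exists_of_isRoot cs (isCartan n) hr.1
    rw [rtA_neg, X_rtA hab.symm] at hu
    exact hfix b a hab.symm (fun h => hnotJ a b hab hr ⟨h.2, h.1⟩) u hu
  · -- tor
    intro δ
    have hne : (⟨0, by omega⟩ : Fin (n + 1)) ≠ ⟨n, by omega⟩ := by
      intro h; have := Fin.mk.inj_iff.1 h; omega
    have hT : dh hne (δ : F) ∈ T (Fin (n + 1)) F := by
      rw [dh_eq hne δ.ne_zero]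
      exact diag_mem_T hne δ.ne_zero
    refine ⟨dh hne (δ : F), hT, conj_dgl _ δ _ fun i j hij a => ?_⟩
    have hne' : (⟨i, by omega⟩ : Fin (n + 1)) ≠ ⟨j, by omega⟩ := by
      intro h; exact hij (Fin.ext (Fin.mk.inj_iff.1 h))
    have key : ∀ i : Fin m, (dh hne (δ : F)).1 (⟨i, by omega⟩ : Fin (n + 1)) ⟨i, by omega⟩ = (dl δ i : F) := by
      intro i
      rw [dh_apply hne δ.ne_zero]
      unfold dl
      by_cases hi : i.val = 0
      · rw [if_pos (Fin.ext hi), if_pos hi]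
      · rw [if_neg (fun h => hi (Fin.mk.inj_iff.1 h)), if_neg (fun h => by have := Fin.mk.inj_iff.1 h; omega), if_neg hi]
        rfl
    rw [ph_tv, ph_tv, conj_T hT hne', key, key]
    congr 1
    rw [Units.val_inv_eq_inv_val]
    ring
  · -- real
    have hn' : n - 1 < n := by omega
    obtain ⟨i₀, hi₀⟩ : ∃ i₀ : Fin n, i₀ = ⟨n - 1, hn'⟩ := ⟨_, rfl⟩
    rw [← hi₀] at h3
    have hmono := mono_ns (F := F) i₀
    refine ⟨ns n F i₀, ?_, ?_⟩
    · have e1 : (dgn l hl)⁻¹ = dgn l' hl' := by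
        rw [inv_eq_iff_mul_eq_one]
        apply Subtype.ext
        show diagonal l * diagonal l' = 1
        rw [diagonal_mul_diagonal, ← diagonal_one]
        congr 1
        funext a
        exact hll a
      rw [e1, mul_inv_eq_iff_eq_mul]
      apply Subtype.ext
      show (ns n F i₀).1 * diagonal l = diagonal l' * (ns n F i₀).1
      ext a b
      rw [mul_diagonal, diagonal_mul]
      by_cases h0 : (ns n F i₀).1 a b = 0
      · rw [h0, zero_mul, mul_zero]
      · rw [hmono a b h0, h3 b, mul_comm]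
    · obtain ⟨k, rfl⟩ : ∃ k, m = k + 1 := ⟨m - 1, by omega⟩
      have hcen : ∀ B, ph F hmn' B ∈ Subgroup.centralizer {ns n F i₀} := by
        refine SL_le _ _ fun i j hij a => ?_
        have hne : (⟨i, by omega⟩ : Fin (n + 1)) ≠ ⟨j, by omega⟩ := by
          intro h; exact hij (Fin.ext (Fin.mk.inj_iff.1 h))
        have hij' : i.val ≠ j.val := fun h => hij (Fin.ext h)
        have hi := i.2
        have hj := j.2
        have hk : k + 2 ≤ n := by
          have := hm2 (by omega)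
          omega
        have key : ∀ i : Fin (k + 1), Equiv.swap i₀.castSucc i₀.succ (⟨i, by omega⟩ : Fin (n + 1)) = ⟨i, by omega⟩ ∧
            (ns n F i₀).1 (⟨i, by omega⟩ : Fin (n + 1)) ⟨i, by omega⟩ = 1 := by
          intro i
          have hi := i.2
          have h4 : (⟨i, by omega⟩ : Fin (n + 1)) ≠ i₀.castSucc := by
            rw [Ne, Fin.ext_iff, hi₀]; simp; omega
          have h5 : (⟨i, by omega⟩ : Fin (n + 1)) ≠ i₀.succ := by
            rw [Ne, Fin.ext_iff, hi₀]; simp; omega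
          refine ⟨Equiv.swap_apply_of_ne_of_ne h4 h5, ?_⟩
          rw [apply_eq_smul]
          unfold ns
          rw [nn_smul (Fin.castSucc_lt_succ).ne one_ne_zero, if_neg h4, if_neg h5, Pi.single_eq_same]
        rw [Subgroup.mem_centralizer_singleton_iff, ph_tv]
        have h5 := hmono.conj_tv hne a
        rw [(key i).1, (key j).1, (key i).2, (key j).2, one_mul, inv_one, mul_one, mul_inv_eq_iff_eq_mul] at h5
        exact h5.symm
      refine ⟨((List.finRange k).map fun i => up1 i (1 : F)).prod,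
        prod_upper_mem_RU (c := fun _ => 1) (fun _ => one_ne_zero), _,
        prod_upper_mem_RU (c := fun _ => 1) (fun _ => one_ne_zero), ?_⟩
      rw [mul_inv_eq_iff_eq_mul]
      exact (Subgroup.mem_centralizer_singleton_iff.1 (hcen _)).symm

end Cfsg.Agent.H155.TG.PSLi
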