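import Cfsg.Agent.H155.TG.PSLd
import Cfsg.Agent.TwoFusion.SLTwoFacts

/-!
# The theorem for `PSL` (helper155)
-/

set_option autoImplicit false
set_option linter.unusedSectionVars false
set_option linter.unusedSimpArgs false

namespace Cfsg.Agent.H155.TG

open Matrix CoxeterSystem Cfsg.Agent.ChevalleyStructure.CoxeterGeom Cfsg.Agent.Tits.Roots
open Cfsg.Agent.Nodes.Reps Cfsg.Agent.Nodes.BNOf Cfsg.Agent.Nodes.RGDLib 
  Cfsg.Agent.Nodes.StabComb Cfsg.Agent.Nodes.Bruhat Cfsg.Agent.KFacts.RgdOpp

section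

variable {I W Y : Type*} [Fintype I] [DecidableEq I] [Group W] [Group Y] {M : CoxeterMatrix I}
  {cs : CoxeterSystem M W} {A : I → I → ℤ} {h : IsCartan M A} {p : ℕ} {T : Subgroup Y} {n : I → Y}
  {X : (I → ℤ) → Subgroup Y}

theorem core_of_simple [Finite W] (R : RGD cs h p T n X) [IsSimpleGroup Y] (i : I) :
    (RGD.B cs h T X).normalCore = ⊥ := by
  rcases (inferInstance : (RGD.B cs h T X).normalCore.Normal).eq_bot_or_eq_top with h1 | h1
  · exact h1
  · exfalso
    have h2 : (⊤ : Subgroup Y) ≤ RGD.B cs h T X := by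
      rw [← h1]
      exact Subgroup.normalCore_le _
    exact R.not_neg_le_B i (le_top.trans h2)

end

/-- an element of large order -/
theorem exists_gen {K : Type*} [Field K] [Finite K] (hF : 9 ≤ Nat.card K) : ∃ c : K, c ≠ 0 ∧
    ∀ z : ℤ, 0 < z → z < 8 → c ^ z ≠ 1 := by
  classical
  have := Fintype.ofFinite K
  obtain ⟨g, hg⟩ := IsCyclic.exists_generator (α := Kˣ)
  have hord : 8 ≤ orderOf g := by
    rw [orderOf_eq_card_of_forall_mem_zpowers hg, Nat.card_units]
    omega
  refine ⟨(g : K), g.ne_zero, ?_⟩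
  intro z hz hz' h1
  obtain ⟨n, rfl⟩ := Int.eq_ofNat_of_zero_le hz.le
  rw [zpow_natCast, ← Units.val_pow_eq_pow_val, Units.val_eq_one] at h1
  have h2 := orderOf_dvd_of_pow_eq_one h1
  have h3 := Nat.le_of_dvd (by omega) h2
  omega

namespace PSLi

open Cfsg.Agent.Nodes.RootsA Cfsg.Agent.Nodes.RGDTypeA
open Cfsg.Agent.LieRecognition.BNCox (cA cA_apply)
open Cfsg.Agent.TitsThree.KSideA (tv)

variable {n : ℕ} {F : Type*} [Field F]

theorem hDA (k : Fin n) : ∑ j ∈ Finset.univ.erase k, DA k j ≤ 4 := by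
  classical
  have h1 : ∑ j ∈ Finset.univ.erase k, DA k j =
      (Finset.univ.erase k).sum fun j => if k.val + 1 = j.val ∨ j.val + 1 = k.val then 1 else 0 := rfl
  rw [h1, ← Finset.card_filter]
  have h2 : ((Finset.univ.erase k).filter fun j : Fin n => k.val + 1 = j.val ∨ j.val + 1 = k.val).card ≤
      ({k.val + 1, k.val - 1} : Finset ℕ).card := by
    apply Finset.card_le_card_of_injOn (fun j : Fin n => j.val)
    · intro j hj
      have hj' := (Finset.mem_filter.1 (Finset.mem_coe.1 hj)).2
      simp only [Finset.coe_insert, Finset.coe_singleton, Set.mem_insert_iff, Set.mem_singleton_iff]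
      omega
    · intro a _ b _ hab
      exact Fin.ext hab
  exact (h2.trans Finset.card_le_two).trans (by norm_num)

theorem connA (S : Set (Fin n)) (hS : S.Nonempty) (hS' : S ≠ Set.univ) :
    ∃ a ∈ S, ∃ b, b ∉ S ∧ cA n a b ≠ 2 := by
  obtain ⟨a₀, ha₀⟩ := hS
  by_contra hc
  push Not at hc
  have key : ∀ i j : Fin n, i.val + 1 = j.val → (i ∈ S ↔ j ∈ S) := by
    intro i j hij
    have h2 : cA n i j = 3 := by
      rw [cA_apply]; unfold Cfsg.Agent.LieRecognition.CoxClass.mA
      rw [if_neg (by omega), if_pos (Or.inl hij)]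
    have h3 : cA n j i = 3 := by
      rw [(cA n).symmetric]; exact h2
    constructor
    · intro h4
      by_contra h5
      have := hc i h4 j h5
      omega
    · intro h4
      by_contra h5
      have := hc j h4 i h5
      omega
  have key2 : ∀ (m : ℕ) (i : Fin n), i.val = m → (i ∈ S ↔ (⟨0, by have := i.2; omega⟩ : Fin n) ∈ S) := by
    intro m
    induction m with
    | zero =>
      intro i hi
      have : i = ⟨0, by have := i.2; omega⟩ := Fin.ext hi
      rw [← this]
    | succ m ih =>
      intro i hi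
      have hm : m < n := by have := i.2; omega
      rw [← key ⟨m, hm⟩ i hi.symm, ih ⟨m, hm⟩ rfl]
  apply hS'
  rw [Set.eq_univ_iff_forall]
  intro b
  rw [key2 b.val b rfl, ← key2 a₀.val a₀ rfl]
  exact ha₀

/-- the diagonal entries -/
def ll (n : ℕ) {F : Type*} [Field F] (t : F) (a : Fin (n + 1)) : F :=
  if a.val + 1 < n then 1 else if a.val + 1 = n then t else t⁻¹

theorem prod_ll (hn : 1 ≤ n) {t : F} (ht : t ≠ 0) : ∏ a, ll n t a = 1 := by
  rw [Finset.prod_eq_mul (⟨n - 1, by omega⟩ : Fin (n + 1)) ⟨n, by omega⟩]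
  · unfold ll
    simp only
    rw [if_neg (by omega), if_pos (by omega), if_neg (by omega), if_neg (by omega), mul_inv_cancel₀ ht]
  · intro h; have := Fin.mk.inj_iff.1 h; omega
  · rintro c - ⟨h1, h2⟩
    rw [Ne, Fin.ext_iff] at h1 h2
    have := c.2
    simp only at h1 h2
    unfold ll
    rw [if_pos (by omega)]
  · intro h; exact absurd (Finset.mem_univ _) h
  · intro h; exact absurd (Finset.mem_univ _) h

theorem isSimple (hn : 1 ≤ n) [Finite F] (hF : 9 ≤ Nat.card F) :
    IsSimpleGroup (ProjectiveSpecialLinearGroup (Fin (n + 1)) F) := by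
  have := Fintype.ofFinite F
  rw [Nat.card_eq_fintype_card] at hF
  by_cases h1 : n = 1
  · subst h1
    exact Cfsg.Agent.TwoFusion.SLTwoFacts.isSimpleGroup_psl (by omega)
  · exact Cfsg.Agent.LieClassical.SLGen.psl_isSimpleGroup (by rw [Fintype.card_fin]; omega)

/-- **The square of a conjugacy class is `PSL`.** -/
theorem main_psl (hn : 1 ≤ n) [Finite F] (hF : 9 ≤ Nat.card F) :
    ∃ c : ProjectiveSpecialLinearGroup (Fin (n + 1)) F, ∀ g, ∃ x y, g = (x * c * x⁻¹) * (y * c * y⁻¹) := by
  classical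
  obtain ⟨p, hpc⟩ := CharP.exists F
  have hpp : p.Prime := (CharP.char_is_prime_or_zero F p).resolve_right (CharP.char_ne_zero_of_finite F p)
  have : Fact p.Prime := ⟨hpp⟩
  let cs : CoxeterSystem (cA n) (cA n).Group := (cA n).toCoxeterSystem
  have hfinW : Finite (cA n).Group := Nodes.RootsA.finite_W cs (isCartan n)
  have hfinS : Finite (SpecialLinearGroup (Fin (n + 1)) F) := inferInstance
  have hfinP : Finite (ProjectiveSpecialLinearGroup (Fin (n + 1)) F) := by
    unfold ProjectiveSpecialLinearGroup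
    infer_instance
  obtain ⟨t, ht, hpow⟩ := exists_gen hF
  have ht1 : t ≠ 1 := by
    have := hpow 1 (by norm_num) (by norm_num)
    rwa [zpow_one] at this
  have ht2 : t ≠ t⁻¹ := by
    intro h
    apply hpow 2 (by norm_num) (by norm_num)
    rw [_root_.zpow_ofNat, pow_two]
    nth_rw 2 [h]
    exact mul_inv_cancel₀ ht
  have ht3 : t⁻¹ ≠ 1 := fun h => ht1 (inv_eq_one.1 h)
  obtain ⟨m, hm⟩ : ∃ m, m = max 1 (n - 1) := ⟨_, rfl⟩
  have L := ldA (F := F) cs p hn (m := m) (by omega) (by omega) (by omega) (ll n t) (ll n t⁻¹) (prod_ll hn ht)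
    (prod_ll hn (inv_ne_zero ht)) (by
      intro a
      unfold ll
      split_ifs
      · rw [mul_one]
      · rw [mul_inv_cancel₀ ht]
      · rw [inv_inv, inv_mul_cancel₀ ht])
    (by
      intro a b ha hb
      unfold ll
      split_ifs <;> first | rfl | omega)
    (by
      intro a b hab h
      have hab' : a.val ≠ b.val := fun e => hab (Fin.ext e)
      have ha := a.2
      have hb := b.2
      unfold ll at h
      split_ifs at h with h1 h2 h2 h3 h3 h4 h4 h5
      · omega
      · exact absurd h.symm ht1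
      · exact absurd h.symm ht3
      · exact absurd h ht1
      · omega
      · exact absurd h ht2
      · exact absurd h ht3
      · exact absurd h.symm ht2
      · omega)
    (by
      intro b
      have hb := b.2
      unfold ll
      rw [swap_val]
      simp only
      split_ifs <;> first | rfl | omega | simp)
  have R := rgd (F := F) cs (isCartan n) (p := p)
  have hker : (pr n F).ker ≤ Subgroup.center _ := ker_pr.le
  have L' := L.map (pr n F) R hker
  have E' := (fdA (F := F) cs p).map (pr n F) R hker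
  have R' := rgd_psl (F := F) cs (isCartan n) (p := p)
  have := isSimple (F := F) hn hF
  refine main (F := F) R' E' hF hDA connA ?_ (G1_psl_eq_top cs (isCartan n))
    (core_of_simple R' ⟨0, by omega⟩) L'
  intro i
  show pr n F (ns n F i) ∈ (X F (sr i)).map (pr n F) ⊔ (X F (-sr i)).map (pr n F)
  rw [← Subgroup.map_sup]
  refine Subgroup.mem_map_of_mem _ ?_
  have h1 : ∀ s : F, tv i.castSucc i.succ s ∈ X F (sr i) ⊔ X F (-sr i) := fun s =>
    Subgroup.mem_sup_left (parX.x_mem i s)
  have h2 : ∀ s : F, tv i.succ i.castSucc s ∈ X F (sr i) ⊔ X F (-sr i) := fun s =>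
    Subgroup.mem_sup_right (parY.x_mem i s)
  exact mul_mem (mul_mem (h1 _) (h2 _)) (h1 _)

end PSLi

end Cfsg.Agent.H155.TG
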