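import Cfsg.Agent.H155.TG.Trans
import Cfsg.Agent.H155.TG.ChevLD
import Cfsg.Agent.Nodes.RGDTypeA

/-!
# Field coordinates and Levi data of `SL_{n+1}` (helper155)
-/

set_option autoImplicit false
set_option linter.unusedSectionVars false
set_option linter.unusedSimpArgs false

namespace Cfsg.Agent.H155.TG.PSLi

open Matrix CoxeterSystem Cfsg.Agent.ChevalleyStructure.CoxeterGeom Cfsg.Agent.Tits.Roots
open Cfsg.Agent.Nodes.Reps Cfsg.Agent.Nodes.BNOf Cfsg.Agent.Nodes.RGDLib Cfsg.Agent.Nodes.RootsA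
  Cfsg.Agent.Nodes.StabComb Cfsg.Agent.Nodes.Bruhat Cfsg.Agent.KFacts.RgdOpp
open Cfsg.Agent.LieRecognition.BNCox (cA)
open Cfsg.Agent.LieClassical.SLGen
open Cfsg.Agent.TitsThree.KSideA (tv tv_of_ne tv_add tv_zero tv_neg tv_comm tv_commute diag2n_eq)
open Cfsg.Agent.Nodes.RGDTypeA
open scoped commutatorElement

section Mat

variable {ι F : Type*} [Field F] [DecidableEq ι] [Fintype ι]

open Classical in
/-- the coroot elements -/
noncomputable def dh {a b : ι} (hab : a ≠ b) (c : F) : SpecialLinearGroup ι F := 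
  if hc : c ≠ 0 then SpecialLinearGroup.diag2n hab c hc else 1

theorem dh_eq {a b : ι} (hab : a ≠ b) {c : F} (hc : c ≠ 0) : dh hab c = SpecialLinearGroup.diag2n hab c hc := dif_pos hc

theorem rank1 {a b : ι} (hab : a ≠ b) {α β : F} (h : 1 + β * α ≠ 0) :
    tv a b β * tv b a α = tv b a (α / (1 + β * α)) * dh hab (1 + β * α) * tv a b (β / (1 + β * α)) := by
  have h' : 1 + α * β ≠ 0 := by rwa [mul_comm α β]
  rw [dh_eq hab h]
  simp only [tv_of_ne hab, tv_of_ne hab.symm]
  apply smul_ext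
  intro v
  simp only [mul_smul, transvection_smul, diag2n_smul]
  ext k
  by_cases hk : k = a
  · subst hk
    simp [hab, hab.symm]
    field_simp
    ring
  · by_cases hk' : k = b
    · subst hk'
      simp [hk, hab, hab.symm]
      field_simp
      ring
    · simp [hk, hk', hab, hab.symm]

theorem dh_mul {a b : ι} (hab : a ≠ b) {c d : F} (hc : c ≠ 0) (hd : d ≠ 0) :
    dh hab (c * d) = dh hab c * dh hab d := by
  rw [dh_eq hab hc, dh_eq hab hd, dh_eq hab (mul_ne_zero hc hd)]
  apply smul_ext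
  intro v
  simp only [mul_smul, diag2n_smul]
  ext k
  by_cases hk : k = a
  · subst hk
    simp [hab, hab.symm]
    ring
  · by_cases hk' : k = b
    · subst hk'
      simp [hk, hab, hab.symm]
      ring
    · simp [hk, hk', hab, hab.symm]

theorem dh_apply {a b : ι} (hab : a ≠ b) {c : F} (hc : c ≠ 0) (k : ι) :
    (dh hab c).1 k k = if k = a then c else if k = b then c⁻¹ else 1 := by
  rw [dh_eq hab hc, apply_eq_smul, diag2n_smul]
  by_cases hk : k = a
  · subst hk
    simp [hab, hab.symm]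
  · by_cases hk' : k = b
    · subst hk'
      simp [hk, hab, hab.symm]
    · simp [hk, hk', hab, hab.symm]

/-- Conjugation by a diagonal element. -/
theorem conj_T {t : SpecialLinearGroup ι F} (ht : t ∈ T ι F) {a b : ι} (hab : a ≠ b) (s : F) :
    t * tv a b s * t⁻¹ = tv a b (t.1 a a * (t.1 b b)⁻¹ * s) := by
  have h1 := (mem_T.1 ht).conj_tv hab s
  rw [h1]
  show tv a b (t.1 a a * s * (t.1 b b)⁻¹) = _
  congr 1
  ring

theorem T_ne {t : SpecialLinearGroup ι F} (ht : t ∈ T ι F) (a : ι) : t.1 a a ≠ 0 := (mem_T.1 ht).apply_ne_zero a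

end Mat

variable {n : ℕ} {F : Type*} [Field F]
variable {W : Type*} [Group W] (cs : CoxeterSystem (cA n) W)

/-- lower unitriangular -/
def Low (g : SpecialLinearGroup (Fin (n + 1)) F) : Prop := (∀ i j, i < j → g.1 i j = 0) ∧ ∀ i, g.1 i i = 1

/-- the subdiagonal entry -/
def en (g : SpecialLinearGroup (Fin (n + 1)) F) (j : Fin n) : F := g.1 j.succ j.castSucc

theorem Low.one : Low (1 : SpecialLinearGroup (Fin (n + 1)) F) :=
  ⟨fun _ _ hij => Matrix.one_apply_ne (ne_of_lt hij), fun i => Matrix.one_apply_eq i⟩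

theorem en_one (j : Fin n) : en (1 : SpecialLinearGroup (Fin (n + 1)) F) j = 0 :=
  Matrix.one_apply_ne (Fin.castSucc_lt_succ).ne'

theorem Low.mul {g k : SpecialLinearGroup (Fin (n + 1)) F} (hg : Low g) (hk : Low k) : Low (g * k) := by
  constructor
  · intro i j hij
    change (g.1 * k.1) i j = 0
    rw [Matrix.mul_apply]
    refine Finset.sum_eq_zero fun l _ => ?_
    rcases lt_or_ge i l with h1 | h1
    · rw [hg.1 i l h1, zero_mul]
    · rw [hk.1 l j (lt_of_le_of_lt h1 hij), mul_zero]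
  · intro i
    change (g.1 * k.1) i i = 1
    rw [Matrix.mul_apply, Finset.sum_eq_single i, hg.2, hk.2, mul_one]
    · intro l _ hl
      rcases lt_or_gt_of_ne hl with h1 | h1
      · rw [hk.1 l i h1, mul_zero]
      · rw [hg.1 i l h1, zero_mul]
    · intro h; exact absurd (Finset.mem_univ _) h

theorem en_mul {g k : SpecialLinearGroup (Fin (n + 1)) F} (hg : Low g) (hk : Low k) (j : Fin n) :
    en (g * k) j = en g j + en k j := by
  change (g.1 * k.1) j.succ j.castSucc = _
  have hne : j.castSucc ≠ j.succ := (Fin.castSucc_lt_succ).ne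
  rw [Matrix.mul_apply, Finset.sum_eq_add_of_mem j.castSucc j.succ (Finset.mem_univ _) (Finset.mem_univ _) hne]
  · rw [hk.2, mul_one, hg.2, one_mul]
    rfl
  · intro l _ hl
    rcases lt_or_ge l j.castSucc with h1 | h1
    · rw [hk.1 l _ h1, mul_zero]
    · have h2 : j.succ < l := by
        have h3 : j.castSucc ≠ l := Ne.symm hl.1
        have h4 : j.succ ≠ l := Ne.symm hl.2
        rw [Fin.lt_def]
        rw [Ne, Fin.ext_iff] at h3 h4
        rw [Fin.le_def] at h1
        simp at h1 h3 h4 ⊢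
        omega
      rw [hg.1 _ l h2, zero_mul]

theorem low_tv {a b : Fin (n + 1)} (hab : b < a) (t : F) : Low (tv a b t) := by
  constructor
  · intro i j hij
    rw [tv_val hab.ne']
    show (1 : Matrix _ _ F) i j + single a b t i j = 0
    rw [Matrix.one_apply_ne (ne_of_lt hij), single_apply_of_ne, add_zero]
    rintro ⟨rfl, rfl⟩
    exact absurd hab (not_lt.2 hij.le)
  · intro i
    rw [tv_val hab.ne']
    show (1 : Matrix _ _ F) i i + single a b t i i = 1
    rw [Matrix.one_apply_eq, single_apply_of_ne, add_zero]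
    rintro ⟨rfl, h⟩
    exact hab.ne h

theorem en_tv {a b : Fin (n + 1)} (hab : b < a) (t : F) (j : Fin n) (h : ¬ (a = j.succ ∧ b = j.castSucc)) :
    en (tv a b t) j = 0 := by
  unfold en
  rw [tv_val hab.ne']
  show (1 : Matrix _ _ F) _ _ + single a b t _ _ = 0
  rw [Matrix.one_apply_ne (Fin.castSucc_lt_succ).ne', single_apply_of_ne, add_zero]
  rintro ⟨rfl, rfl⟩
  exact h ⟨rfl, rfl⟩

theorem en_tv_self (t : F) (j : Fin n) : en (tv j.succ j.castSucc t) j = t := by
  unfold en
  rw [tv_val (Fin.castSucc_lt_succ).ne']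
  show (1 : Matrix _ _ F) _ _ + single _ _ t _ _ = t
  rw [Matrix.one_apply_ne (Fin.castSucc_lt_succ).ne', single_apply_same, zero_add]

/-- adjacency -/
def DA (k j : Fin n) : ℕ := if k.val + 1 = j.val ∨ j.val + 1 = k.val then 1 else 0

section FDs

variable {p : ℕ}

/-- the parametrisation of the negative simple root groups -/
theorem parY : Par (fun r : Fin n → ℤ => X F (-r)) (fun i (s : F) => tv i.succ i.castSucc s) := by
  refine ⟨fun i u => ?_, fun i s t => tv_add _ _ _ _, fun i s h1 => ?_⟩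
  · show u ∈ X F (-sr i) ↔ _
    rw [X_neg_sr, mem_XX]
  · exact tv_inj (Fin.castSucc_lt_succ (i := i)).ne' (h1.trans (tv_zero _ _).symm)

theorem parX : Par (fun r : Fin n → ℤ => X F r) (fun i (s : F) => tv i.castSucc i.succ s) := by
  refine ⟨fun i u => ?_, fun i s t => tv_add _ _ _ _, fun i s h1 => ?_⟩
  · show u ∈ X F (sr i) ↔ _
    rw [X_sr, mem_XX]
  · exact tv_inj (Fin.castSucc_lt_succ (i := i)).ne (h1.trans (tv_zero _ _).symm)

/-- the negative root groups are lower unitriangular -/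
theorem low_of_mem {S : Set (Fin n → ℤ)} (hS : ∀ r ∈ S, IsRoot cs (isCartan n) r ∧ 0 ≤ r) (j : Fin n)
    (hj : sr j ∉ S) {u : SpecialLinearGroup (Fin (n + 1)) F} (hu : u ∈ RGD.Sup (fun r => X F (-r)) S) :
    Low u ∧ en u j = 0 := by
  refine Subgroup.iSup_induction (fun z : S => X F (-z.1)) (C := fun u => Low u ∧ en u j = 0) hu ?_ ?_ ?_
  · rintro ⟨r, hr⟩ u hu
    obtain ⟨h1, h2⟩ := hS r hr
    obtain ⟨a, b, hab, rfl⟩ := Nodes.RootsA.exists_of_isRoot cs (isCartan n) h1
    have h3 : a < b := lt_of_le_of_ne (rtA_nonneg_iff.1 h2) hab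
    change u ∈ X F (-rtA a b) at hu
    rw [rtA_neg, X_rtA hab.symm] at hu
    obtain ⟨t, rfl⟩ := hu
    refine ⟨low_tv h3 t, en_tv h3 t j ?_⟩
    rintro ⟨rfl, rfl⟩
    rw [rtA_sr] at hr
    exact hj hr
  · exact ⟨Low.one, en_one j⟩
  · rintro u v ⟨h1, h2⟩ ⟨h3, h4⟩
    exact ⟨h1.mul h3, by rw [en_mul h1 h3, h2, h4, add_zero]⟩

theorem low_of_mem_U {u : SpecialLinearGroup (Fin (n + 1)) F}
    (hu : u ∈ UU cs (isCartan n) (fun r => X F (-r))) : Low u := by
  refine Subgroup.iSup_induction (fun z : RGD.Pos cs (isCartan n) => X F (-z.1)) (C := fun u => Low u) hu ?_ ?_ ?_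
  · rintro ⟨r, h1, h2⟩ u hu
    obtain ⟨a, b, hab, rfl⟩ := Nodes.RootsA.exists_of_isRoot cs (isCartan n) h1
    have h3 : a < b := lt_of_le_of_ne (rtA_nonneg_iff.1 h2) hab
    change u ∈ X F (-rtA a b) at hu
    rw [rtA_neg, X_rtA hab.symm] at hu
    obtain ⟨t, rfl⟩ := hu
    exact low_tv h3 t
  · exact Low.one
  · rintro u v h1 h3
    exact h1.mul h3

variable [Finite F] [Fact p.Prime] [CharP F p]

/-- the coefficient is a matrix entry -/
theorem cf_en (p : ℕ) [Fact p.Prime] [CharP F p] {u : SpecialLinearGroup (Fin (n + 1)) F}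
    (hu : u ∈ UU cs (isCartan n) (fun r => X F (-r))) (j : Fin n) :
    Cf cs (isCartan n) (fun r => X F (-r)) (fun i (s : F) => tv i.succ i.castSucc s) j u (en u j) := by
  have : Finite W := Nodes.RootsA.finite_W cs (isCartan n)
  have R := opp (rgd (F := F) cs (isCartan n) (p := p))
  obtain ⟨s, hs⟩ := cf_exists R parY j hu
  obtain ⟨q, hq, e⟩ := hs
  obtain ⟨h1, h2⟩ := low_of_mem cs (S := RGD.PosNe cs (isCartan n) j) (fun r hr => ⟨hr.1, hr.2.1⟩) j
    (fun h => h.2.2 rfl) hq
  have h3 : en u j = s := by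
    rw [e, en_mul h1 (low_tv (Fin.castSucc_lt_succ) s), h2, zero_add, en_tv_self]
  rw [h3]
  exact ⟨q, hq, e⟩

/-- the entry of a conjugate -/
theorem en_conj (v : SpecialLinearGroup (Fin (n + 1)) F) (k j : Fin n) (hjk : j ≠ k) (s : F) :
    en (tv k.castSucc k.succ (-s) * v * tv k.castSucc k.succ s) j =
      en v j + s * ((if j.val = k.val + 1 then v.1 j.succ k.castSucc else 0) -
        (if k.val = j.val + 1 then v.1 k.succ j.castSucc else 0)) := by
  have hne : k.castSucc ≠ k.succ := (Fin.castSucc_lt_succ).ne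
  have hjk' : j.val ≠ k.val := fun e => hjk (Fin.ext e)
  change ((tv k.castSucc k.succ (-s)).1 * v.1 * (tv k.castSucc k.succ s).1) j.succ j.castSucc = _
  rw [tv_val hne, tv_val hne, add_mul, one_mul, mul_add, mul_one, add_mul]
  have e1 : ∀ (B : Matrix (Fin (n + 1)) (Fin (n + 1)) F) (t : F) (c d : Fin (n + 1)),
      (single k.castSucc k.succ t * B) c d = if c = k.castSucc then t * B k.succ d else 0 := by
    intro B t c d
    split_ifs with h
    · subst h; rw [single_mul_apply_same]
    · rw [single_mul_apply_of_ne _ _ _ _ _ h]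
  have e2 : ∀ (B : Matrix (Fin (n + 1)) (Fin (n + 1)) F) (t : F) (c d : Fin (n + 1)),
      (B * single k.castSucc k.succ t) c d = if d = k.succ then B c k.castSucc * t else 0 := by
    intro B t c d
    split_ifs with h
    · subst h; rw [mul_single_apply_same]
    · rw [mul_single_apply_of_ne _ _ _ _ _ h]
  have i1 : (j.succ = k.castSucc) ↔ k.val = j.val + 1 := by
    rw [Fin.ext_iff]; simp; exact eq_comm
  have i2 : (j.castSucc = k.succ) ↔ j.val = k.val + 1 := by
    rw [Fin.ext_iff]; simp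
  simp only [Matrix.add_apply, e1, e2, i1, i2]
  unfold en
  split_ifs with h1 h2
  · omega
  · ring
  · ring
  · ring

/-- **Field coordinates of `SL_{n+1}`.** -/
theorem fdA (p : ℕ) [Fact p.Prime] [CharP F p] :
    FD cs (isCartan n) (T (Fin (n + 1)) F) (X F) (fun i (s : F) => tv i.castSucc i.succ s)
      (fun i (s : F) => tv i.succ i.castSucc s) (fun i c => dh (Fin.castSucc_lt_succ (i := i)).ne c)
      (fun i t => t.1 i.castSucc i.castSucc * (t.1 i.succ i.succ)⁻¹) DA := by
  have : Finite W := Nodes.RootsA.finite_W cs (isCartan n)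
  have R := rgd (F := F) cs (isCartan n) (p := p)
  have hchi : ∀ (i j : Fin n) (c : F), c ≠ 0 → (dh (Fin.castSucc_lt_succ (i := i)).ne c).1 j.castSucc j.castSucc *
      ((dh (Fin.castSucc_lt_succ (i := i)).ne c).1 j.succ j.succ)⁻¹ = c ^ AA n i j := by
    intro i j c hc
    show (dh (Fin.castSucc_lt_succ (i := i)).ne c).1 j.castSucc j.castSucc *
      ((dh (Fin.castSucc_lt_succ (i := i)).ne c).1 j.succ j.succ)⁻¹ = _
    rw [dh_apply _ hc, dh_apply _ hc]
    unfold AA
    have i1 : (j.castSucc = i.castSucc) ↔ j.val = i.val := by rw [Fin.ext_iff]; simp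
    have i2 : (j.castSucc = i.succ) ↔ j.val = i.val + 1 := by rw [Fin.ext_iff]; simp
    have i3 : (j.succ = i.castSucc) ↔ j.val + 1 = i.val := by rw [Fin.ext_iff]; simp
    have i4 : (j.succ = i.succ) ↔ j.val = i.val := by rw [Fin.ext_iff]; simp
    have i5 : (i = j) ↔ j.val = i.val := by rw [Fin.ext_iff]; exact eq_comm
    simp only [i1, i2, i3, i4, i5]
    by_cases h1 : j.val = i.val
    · rw [if_pos h1, if_neg (by omega), if_pos h1, if_pos h1, inv_inv]
      exact (zpow_ofNat c 2).trans (pow_two c) |>.symm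
    · rw [if_neg h1, if_neg h1, if_neg h1]
      by_cases h2 : j.val = i.val + 1
      · rw [if_pos h2, if_neg (by omega), if_pos (Or.inl h2.symm), inv_one, mul_one, _root_.zpow_neg_one]
      · by_cases h3 : j.val + 1 = i.val
        · rw [if_neg h2, if_pos h3, if_pos (Or.inr h3), one_mul, _root_.zpow_neg_one]
        · rw [if_neg h2, if_neg h3, if_neg (by omega), inv_one, mul_one, zpow_zero]
  refine ⟨parX, parY, fun i a b hab => rank1 _ hab, ?_, fun i c d hc hd => dh_mul _ hc hd, ?_, ?_, ?_,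
    chd_of (χ := fun j (t : SpecialLinearGroup (Fin (n + 1)) F) => t.1 j.castSucc j.castSucc * (t.1 j.succ j.succ)⁻¹)
      hchi (isCartan n),
    chn_of (χ := fun j (t : SpecialLinearGroup (Fin (n + 1)) F) => t.1 j.castSucc j.castSucc * (t.1 j.succ j.succ)⁻¹)
      hchi (isCartan n), ?_⟩
  · intro i c hc
    rw [dh_eq _ hc]
    exact diag_mem_T _ hc
  · intro i t ht
    exact mul_ne_zero (T_ne ht _) (inv_ne_zero (T_ne ht _))
  · intro i t ht s
    exact conj_T ht (Fin.castSucc_lt_succ (i := i)).ne s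
  · intro i t ht s
    rw [conj_T ht (Fin.castSucc_lt_succ (i := i)).ne' s]
    congr 1
    rw [mul_inv, inv_inv]
    ring
  · intro k j hjk r hr v hv
    refine ⟨Polynomial.C (en v j) + Polynomial.X * Polynomial.C ((if j.val = k.val + 1 then v.1 j.succ k.castSucc else 0) -
        (if k.val = j.val + 1 then v.1 k.succ j.castSucc else 0)), ?_, fun s => ?_⟩
    · unfold DA
      by_cases h1 : k.val + 1 = j.val ∨ j.val + 1 = k.val
      · rw [if_pos h1]
        refine (Polynomial.natDegree_add_le _ _).trans (max_le (by simp) ?_)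
        exact (Polynomial.natDegree_mul_le).trans (by simp)
      · rw [if_neg h1, if_neg (by omega), if_neg (by omega)]
        simp
    · have h1 : v ∈ QQ cs (isCartan n) (fun r => X F (-r)) k := RGD.le_Sup (X := fun r => X F (-r)) hr hv
      have h2 : tv k.castSucc k.succ (-s) ∈ (fun r => X F (-r)) (-sr k) := by
        show _ ∈ X F (- -sr k)
        rw [neg_neg]
        exact parX.x_mem k (-s)
      have h3 := conj_Q' (opp R) h2 h1
      have e : (tv k.castSucc k.succ (-s))⁻¹ = tv k.castSucc k.succ s := by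
        rw [← tv_neg, neg_neg]
      rw [e] at h3
      have h4 := cf_en cs p (QQ_le k h3) j
      rw [en_conj v k j hjk s] at h4
      convert h4 using 1
      simp

end FDs

end Cfsg.Agent.H155.TG.PSLi
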