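import Cfsg.Agent.H155.TG.Cell
import Cfsg.Agent.H945.Torus

/-!
# The torus is generated by the coroot elements (helper155)

* `ll_form` : normal forms in `⟨X (sr i), X (-sr i)⟩`;
* `T_inf_LL` : `T ∩ ⟨X (sr i), X (-sr i)⟩` consists of the `hh i c`;
* `T_le_TS` : `T ≤ TS hh univ`.
-/

set_option autoImplicit false
set_option linter.unusedSectionVars false

namespace Cfsg.Agent.H155.TG

open CoxeterSystem Cfsg.Agent.ChevalleyStructure.CoxeterGeom Cfsg.Agent.Tits.Roots Cfsg.Agent.Tits.Core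
  Cfsg.Agent.Tits.Exchange Cfsg.Agent.Nodes.Reps Cfsg.Agent.Nodes.BNOf Cfsg.Agent.Nodes.StabComb
  Cfsg.Agent.Nodes.Bruhat Cfsg.Agent.Nodes.OppDec Cfsg.Agent.Nodes.LeviDec Cfsg.Agent.Nodes.NormalForm
  Cfsg.Agent.KFacts.RgdOpp Cfsg.Agent.Nodes.FreeTorus
open scoped commutatorElement

variable {I W Y : Type*} [Fintype I] [DecidableEq I] [Group W] [Group Y] {M : CoxeterMatrix I}
  {cs : CoxeterSystem M W} {A : I → I → ℤ} {h : IsCartan M A} {p : ℕ} {T : Subgroup Y} {n : I → Y}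
  {X : (I → ℤ) → Subgroup Y} {F : Type*} [Field F] {x y hh : I → F → Y} {χ : I → Y → F} {D : I → I → ℕ}

section

variable (E : FD cs h T X x y hh χ D)

include E

theorem hx_comm (i : I) {c : F} (hc : c ≠ 0) (s : F) : hh i c * x i s = x i (c ^ 2 * s) * hh i c := by
  have h1 := E.tx i _ (E.hmem i c hc) s
  rwa [E.chd i c hc, mul_inv_eq_iff_eq_mul] at h1

theorem hy_comm (i : I) {c : F} (hc : c ≠ 0) (s : F) : hh i c * y i s = y i ((c ^ 2)⁻¹ * s) * hh i c := by
  have h1 := E.ty i _ (E.hmem i c hc) s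
  rwa [E.chd i c hc, mul_inv_eq_iff_eq_mul] at h1

/-- `N(s) = h(s) N(1)` -/
theorem N_eq (i : I) {s : F} (hs : s ≠ 0) :
    x i s * y i (-s⁻¹) * x i s = hh i s * (x i 1 * y i (-1) * x i 1) := by
  have e0 : 1 + (s - 1) * 1 = s := by ring
  have h1 := E.rank1 i 1 (s - 1) (by rwa [e0])
  rw [e0] at h1
  have h2 : x i (s - 1) = x i s * (x i 1)⁻¹ := by rw [sub_eq_add_neg, E.px.add, E.px.neg]
  have h3 : y i (-s⁻¹) * y i (1 / s) = 1 := by rw [← E.py.add, one_div, neg_add_cancel, E.py.zero]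
  have h4 : x i ((s - 1) / s) * (x i 1)⁻¹ = x i (-s⁻¹) := by
    rw [← E.px.neg, ← E.px.add]
    congr 1
    field_simp
    ring
  have h5 := hx_comm E i hs (-s⁻¹)
  have h6 : s ^ 2 * -s⁻¹ = -s := by field_simp
  rw [h6] at h5
  have h7 : y i (1 : F) = (y i (-1))⁻¹ := by rw [E.py.neg, inv_inv]
  calc x i s * y i (-s⁻¹) * x i s =
      x i s * y i (-s⁻¹) * (x i (s - 1) * y i 1) * (x i 1)⁻¹ * (x i 1 * y i (-1) * x i 1) := by
        rw [h2, h7]; group
    _ = x i s * (y i (-s⁻¹) * y i (1 / s)) * (hh i s * (x i ((s - 1) / s) * (x i 1)⁻¹)) *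
        (x i 1 * y i (-1) * x i 1) := by rw [h1]; group
    _ = _ := by rw [h3, h4, h5, E.px.neg]; group

variable [Finite F] (hF : 9 ≤ Nat.card F)

include hF

/-- `y(s) N(1) = N(1) x(-s)` -/
theorem yN (i : I) (s : F) : y i s * (x i 1 * y i (-1) * x i 1) = (x i 1 * y i (-1) * x i 1) * x i (-s) := by
  have key : ∀ s : F, s ≠ -1 →
      y i s * (x i 1 * y i (-1) * x i 1) = (x i 1 * y i (-1) * x i 1) * x i (-s) := by
    intro s hs
    have hs1 : 1 + s ≠ 0 := by
      intro h1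
      apply hs
      linear_combination h1
    have e0 : 1 + -1 * -s = 1 + s := by ring
    have h1 := E.rank1 i (-s) (-1) (by rwa [e0])
    rw [e0] at h1
    -- the inverse relation
    have h2 : y i s * x i 1 = x i (1 / (1 + s)) * (hh i (1 + s))⁻¹ * y i (s / (1 + s)) := by
      have h3 : y i s * x i 1 = (x i (-1) * y i (-s))⁻¹ := by
        rw [E.px.neg, E.py.neg]; group
      rw [h3, h1, mul_inv_rev, mul_inv_rev, ← E.px.neg, ← E.py.neg]
      have e1 : -(-1 / (1 + s)) = 1 / (1 + s) := by rw [neg_div, neg_neg]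
      have e2 : -(-s / (1 + s)) = s / (1 + s) := by rw [neg_div, neg_neg]
      rw [e1, e2]; group
    have h4 : y i (s / (1 + s)) * y i (-1) = y i (-(1 + s)⁻¹) := by
      rw [← E.py.add]
      congr 1
      field_simp
      ring
    have h5 : (hh i (1 + s))⁻¹ * x i (1 + s) = x i (1 / (1 + s)) * (hh i (1 + s))⁻¹ := by
      have h6 := hx_comm E i hs1 (1 / (1 + s))
      have e3 : (1 + s) ^ 2 * (1 / (1 + s)) = 1 + s := by field_simp
      rw [e3] at h6
      have h7 : x i (1 / (1 + s)) = (hh i (1 + s))⁻¹ * (hh i (1 + s) * x i (1 / (1 + s))) := by group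
      rw [h7, h6]; group
    have h6 := N_eq E i hs1
    have h7 : x i (-(1 + s)) * x i 1 = x i (-s) := by
      rw [← E.px.add]
      congr 1
      ring
    calc y i s * (x i 1 * y i (-1) * x i 1) = (y i s * x i 1) * y i (-1) * x i 1 := by group
      _ = x i (1 / (1 + s)) * (hh i (1 + s))⁻¹ * (y i (s / (1 + s)) * y i (-1)) * x i 1 := by rw [h2]; group
      _ = (hh i (1 + s))⁻¹ * (x i (1 + s) * y i (-(1 + s)⁻¹) * x i (1 + s)) * (x i (-(1 + s)) * x i 1) := by
        rw [h4, ← h5, E.px.neg i (1 + s)]; group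
      _ = _ := by rw [h6, h7]; group
  by_cases hs : s = -1
  · obtain ⟨r, h1, h2, -⟩ := exists_notMem3 hF (-1 : F) (s + 1) 0
    have h3 := key r h1
    have h4 := key (s - r) (by intro h4; apply h2; linear_combination -h4)
    have h5 : y i s = y i (s - r) * y i r := by rw [← E.py.add, sub_add_cancel]
    have h6 : x i (-s) = x i (-(s - r)) * x i (-r) := by rw [← E.px.add]; congr 1; ring
    rw [h5, mul_assoc, h3, ← mul_assoc, h4, h6, mul_assoc]
  · exact key s hs

/-- **Normal forms in the rank one group.** -/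
theorem ll_form (i : I) {g : Y} (hg : g ∈ LL X (sr i)) :
    (∃ a b c, c ≠ 0 ∧ g = y i a * hh i c * x i b) ∨
      ∃ b c d, c ≠ 0 ∧ d ≠ 0 ∧ g = hh i c * (x i 1 * y i (-1) * x i 1) * hh i d * x i b := by
  have hcl : LL X (sr i) ≤ Subgroup.closure {z | (∃ s, x i s = z) ∨ ∃ s, y i s = z} := by
    refine sup_le (fun z hz => ?_) (fun z hz => ?_)
    · exact Subgroup.subset_closure (Or.inl ((E.px.mem i z).1 hz))
    · exact Subgroup.subset_closure (Or.inr ((E.py.mem i z).1 hz))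
  have hy : ∀ s : F, ∀ z, ((∃ a b c, c ≠ 0 ∧ z = y i a * hh i c * x i b) ∨
      ∃ b c d, c ≠ 0 ∧ d ≠ 0 ∧ z = hh i c * (x i 1 * y i (-1) * x i 1) * hh i d * x i b) →
      ((∃ a b c, c ≠ 0 ∧ y i s * z = y i a * hh i c * x i b) ∨
      ∃ b c d, c ≠ 0 ∧ d ≠ 0 ∧ y i s * z = hh i c * (x i 1 * y i (-1) * x i 1) * hh i d * x i b) := by
    rintro s z (⟨a, b, c, hc, rfl⟩ | ⟨b, c, d, hc, hd, rfl⟩)
    · left
      exact ⟨s + a, b, c, hc, by rw [E.py.add]; group⟩
    · right
      have h1 := hy_comm E i hc (c ^ 2 * s)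
      rw [← mul_assoc, inv_mul_cancel₀ (pow_ne_zero 2 hc), one_mul] at h1
      have h2 := yN E hF i (c ^ 2 * s)
      have h3 := hx_comm E i hd ((d ^ 2)⁻¹ * -(c ^ 2 * s))
      rw [← mul_assoc, mul_inv_cancel₀ (pow_ne_zero 2 hd), one_mul] at h3
      refine ⟨(d ^ 2)⁻¹ * -(c ^ 2 * s) + b, c, d, hc, hd, ?_⟩
      rw [E.px.add]
      calc y i s * (hh i c * (x i 1 * y i (-1) * x i 1) * hh i d * x i b) =
          (y i s * hh i c) * (x i 1 * y i (-1) * x i 1) * hh i d * x i b := by group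
        _ = hh i c * (y i (c ^ 2 * s) * (x i 1 * y i (-1) * x i 1)) * hh i d * x i b := by rw [← h1]; group
        _ = hh i c * (x i 1 * y i (-1) * x i 1) * (x i (-(c ^ 2 * s)) * hh i d) * x i b := by rw [h2]; group
        _ = _ := by rw [← h3]; group
  have hx : ∀ s : F, ∀ z, ((∃ a b c, c ≠ 0 ∧ z = y i a * hh i c * x i b) ∨
      ∃ b c d, c ≠ 0 ∧ d ≠ 0 ∧ z = hh i c * (x i 1 * y i (-1) * x i 1) * hh i d * x i b) →
      ((∃ a b c, c ≠ 0 ∧ x i s * z = y i a * hh i c * x i b) ∨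
      ∃ b c d, c ≠ 0 ∧ d ≠ 0 ∧ x i s * z = hh i c * (x i 1 * y i (-1) * x i 1) * hh i d * x i b) := by
    rintro s z (⟨a, b, c, hc, rfl⟩ | ⟨b, c, d, hc, hd, rfl⟩)
    · by_cases hsa : 1 + s * a = 0
      · have hs0 : s ≠ 0 := by rintro rfl; simp at hsa
        have ha : a = -s⁻¹ := by
          field_simp
          linear_combination hsa
        right
        have h1 := N_eq E i hs0
        have h2 := hx_comm E i hc ((c ^ 2)⁻¹ * -s)
        rw [← mul_assoc, mul_inv_cancel₀ (pow_ne_zero 2 hc), one_mul] at h2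
        refine ⟨(c ^ 2)⁻¹ * -s + b, s, c, hs0, hc, ?_⟩
        rw [E.px.add]
        calc x i s * (y i a * hh i c * x i b) = (x i s * y i (-s⁻¹) * x i s) * (x i (-s) * hh i c) * x i b := by
              rw [ha, E.px.neg]; group
          _ = _ := by rw [h1, ← h2]; group
      · left
        have h1 := E.rank1 i a s hsa
        have h2 := hx_comm E i hc ((c ^ 2)⁻¹ * (s / (1 + s * a)))
        rw [← mul_assoc, mul_inv_cancel₀ (pow_ne_zero 2 hc), one_mul] at h2
        refine ⟨a / (1 + s * a), (c ^ 2)⁻¹ * (s / (1 + s * a)) + b, (1 + s * a) * c, mul_ne_zero hsa hc, ?_⟩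
        rw [E.px.add, E.hmul i _ _ hsa hc]
        calc x i s * (y i a * hh i c * x i b) = (x i s * y i a) * hh i c * x i b := by group
          _ = y i (a / (1 + s * a)) * hh i (1 + s * a) * (x i (s / (1 + s * a)) * hh i c) * x i b := by
            rw [h1]; group
          _ = _ := by rw [← h2]; group
    · -- move `x i s` past `hh i c`
      have h1 := hx_comm E i hc ((c ^ 2)⁻¹ * s)
      rw [← mul_assoc, mul_inv_cancel₀ (pow_ne_zero 2 hc), one_mul] at h1
      obtain ⟨s', hs'⟩ : ∃ s', s' = (c ^ 2)⁻¹ * s := ⟨_, rfl⟩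
      rw [← hs'] at h1
      by_cases hs0 : s' = 0
      · right
        have : s = 0 := by
          rw [hs0, eq_comm, mul_eq_zero] at hs'
          exact hs'.resolve_left (inv_ne_zero (pow_ne_zero 2 hc))
        subst this
        exact ⟨b, c, d, hc, hd, by rw [E.px.zero, one_mul]⟩
      · left
        have e0 : 1 + (s' + 1) * -1 = -s' := by ring
        have h2 := E.rank1 i (-1) (s' + 1) (by rw [e0]; exact neg_ne_zero.2 hs0)
        rw [e0] at h2
        have h3 := hy_comm E i hc (-1 / -s')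
        have h4 := hx_comm E i hd ((d ^ 2)⁻¹ * ((s' + 1) / -s' + 1))
        rw [← mul_assoc, mul_inv_cancel₀ (pow_ne_zero 2 hd), one_mul] at h4
        refine ⟨(c ^ 2)⁻¹ * (-1 / -s'), (d ^ 2)⁻¹ * ((s' + 1) / -s' + 1) + b, c * -s' * d,
          mul_ne_zero (mul_ne_zero hc (neg_ne_zero.2 hs0)) hd, ?_⟩
        rw [E.px.add, E.hmul i _ _ (mul_ne_zero hc (neg_ne_zero.2 hs0)) hd,
          E.hmul i _ _ hc (neg_ne_zero.2 hs0)]
        calc x i s * (hh i c * (x i 1 * y i (-1) * x i 1) * hh i d * x i b) =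
            (x i s * hh i c) * x i 1 * y i (-1) * x i 1 * hh i d * x i b := by group
          _ = hh i c * ((x i s' * x i 1) * y i (-1)) * x i 1 * hh i d * x i b := by rw [← h1]; group
          _ = (hh i c * y i (-1 / -s')) * hh i (-s') * ((x i ((s' + 1) / -s') * x i 1) * hh i d) * x i b := by
            rw [← E.px.add i s' 1, h2]; group
          _ = _ := by rw [h3, ← E.px.add i _ 1, ← h4]; group
  have hg' := hcl hg
  induction hg' using Subgroup.closure_induction_left with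
  | one => exact Or.inl ⟨0, 0, 1, one_ne_zero, by rw [E.py.zero, E.px.zero, hh_one E]; group⟩
  | mul_left a ha b hb ih =>
    have hb' : b ∈ LL X (sr i) := by
      have hcl' : Subgroup.closure {z | (∃ s, x i s = z) ∨ ∃ s, y i s = z} ≤ LL X (sr i) := by
        rw [Subgroup.closure_le]
        rintro _ (⟨s, rfl⟩ | ⟨s, rfl⟩)
        · exact Subgroup.mem_sup_left (E.px.x_mem i s)
        · exact Subgroup.mem_sup_right (E.py.x_mem i s)
      exact hcl' hb
    rcases ha with ⟨s, rfl⟩ | ⟨s, rfl⟩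
    · exact hx s b (ih hb')
    · exact hy s b (ih hb')
  | inv_mul_cancel a ha b hb ih =>
    have hb' : b ∈ LL X (sr i) := by
      have hcl' : Subgroup.closure {z | (∃ s, x i s = z) ∨ ∃ s, y i s = z} ≤ LL X (sr i) := by
        rw [Subgroup.closure_le]
        rintro _ (⟨s, rfl⟩ | ⟨s, rfl⟩)
        · exact Subgroup.mem_sup_left (E.px.x_mem i s)
        · exact Subgroup.mem_sup_right (E.py.x_mem i s)
      exact hcl' hb
    rcases ha with ⟨s, rfl⟩ | ⟨s, rfl⟩
    · rw [← E.px.neg]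
      exact hx _ b (ih hb')
    · rw [← E.py.neg]
      exact hy _ b (ih hb')

/-- **The rank one tori.** -/
theorem T_inf_LL [Finite W] (R : RGD cs h p T n X) (i : I) {t : Y} (ht : t ∈ T) (hl : t ∈ LL X (sr i)) :
    ∃ c, c ≠ 0 ∧ hh i c = t := by
  have hxB : ∀ s, x i s ∈ RGD.B cs h T X := fun s => RGD.X_le_B (isRoot_sr cs h i) (sr_nonneg i) (E.px.x_mem i s)
  have hhB : ∀ c, c ≠ 0 → hh i c ∈ RGD.B cs h T X := fun c hc => RGD.T_le_B (E.hmem i c hc)
  have hyN : ∀ s, y i s ∈ RGD.B cs h T X → s = 0 := by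
    intro s hs
    apply E.py.inj i
    refine eq_one_of_mem_UN_of_mem_B R ?_ hs
    exact X_le_UN (isRoot_sr cs h i).neg (neg_nonpos.2 (sr_nonneg i)) (E.py.x_mem i s)
  rcases ll_form E hF i hl with ⟨a, b, c, hc, e⟩ | ⟨b, c, d, hc, hd, e⟩
  · have ha : a = 0 := by
      apply hyN
      have e1 : y i a = t * ((x i b)⁻¹ * (hh i c)⁻¹) := by rw [e]; group
      rw [e1]
      have h1 : (x i b)⁻¹ * (hh i c)⁻¹ ∈ RGD.B cs h T X := mul_mem (inv_mem (hxB b)) (inv_mem (hhB c hc))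
      have h2 : t ∈ RGD.B cs h T X := RGD.T_le_B ht
      exact mul_mem h2 h1
    subst ha
    rw [E.py.zero, one_mul] at e
    have hb : x i b = 1 := by
      have h1 := X_inf_T R (isRoot_sr cs h i)
      rw [Subgroup.eq_bot_iff_forall] at h1
      have e1 : x i b = (hh i c)⁻¹ * t := by rw [e]; group
      have h2 : x i b ∈ T := by
        rw [e1]
        exact mul_mem (inv_mem (E.hmem i c hc)) ht
      exact h1 _ ⟨E.px.x_mem i b, h2⟩
    rw [hb, mul_one] at e
    exact ⟨c, hc, e.symm⟩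
  · exfalso
    have h1 : (-1 : F) = 0 := by
      apply hyN
      have e1 : y i (-1) = (x i 1)⁻¹ * (hh i c)⁻¹ * t * (x i b)⁻¹ * (hh i d)⁻¹ * (x i 1)⁻¹ := by rw [e]; group
      rw [e1]
      exact mul_mem (mul_mem (mul_mem (mul_mem (mul_mem (inv_mem (hxB 1)) (inv_mem (hhB c hc)))
        (RGD.T_le_B ht)) (inv_mem (hxB b))) (inv_mem (hhB d hd))) (inv_mem (hxB 1))
    exact one_ne_zero (neg_eq_zero.1 h1)

/-- **The torus is generated by the coroot elements.** -/
theorem T_le_TS [Finite Y] [Finite W] (R : RGD cs h p T n X) (hn : ∀ i, n i ∈ LL X (sr i))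
    (hG : RGD.Sup X {r | IsRoot cs h r} = ⊤) : T ≤ TS hh Set.univ := by
  have h1 := Cfsg.Agent.H945.T_inf_Sup R hn
  rw [hG, inf_top_eq] at h1
  refine h1.trans (iSup_le fun i => ?_)
  rintro t ⟨ht, hl⟩
  obtain ⟨c, hc, rfl⟩ := T_inf_LL E hF R i ht hl
  exact hh_mem_TS (Set.mem_univ i) hc

end

end Cfsg.Agent.H155.TG
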