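import Cfsg.Agent.H155.TG.Asm
import Cfsg.Agent.Nodes.CardSup
import Cfsg.Agent.Nodes.RGDLib

/-!
# Images and restrictions of the field coordinates and of the Levi data (helper155)
-/

set_option autoImplicit false
set_option linter.unusedSectionVars false

namespace Cfsg.Agent.H155.TG

open CoxeterSystem Cfsg.Agent.ChevalleyStructure.CoxeterGeom Cfsg.Agent.Tits.Roots Cfsg.Agent.Tits.Core
  Cfsg.Agent.Tits.Exchange Cfsg.Agent.Nodes.Reps Cfsg.Agent.Nodes.BNOf Cfsg.Agent.Nodes.StabComb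
  Cfsg.Agent.Nodes.Bruhat Cfsg.Agent.Nodes.OppDec Cfsg.Agent.Nodes.LeviDec Cfsg.Agent.Nodes.NormalForm
  Cfsg.Agent.KFacts.RgdOpp Cfsg.Agent.Nodes.RGDLib
open scoped commutatorElement

variable {I W Y Y' : Type*} [Fintype I] [DecidableEq I] [Group W] [Group Y] [Group Y'] {M : CoxeterMatrix I}
  {cs : CoxeterSystem M W} {A : I → I → ℤ} {h : IsCartan M A} {p : ℕ} {T : Subgroup Y} {n : I → Y}
  {X : (I → ℤ) → Subgroup Y} {F : Type*} [Field F] {x y hh : I → F → Y} {χ : I → Y → F} {D : I → I → ℕ}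

/-! ### images -/

section Map

variable (f : Y →* Y')

theorem Sup_map (S : Set (I → ℤ)) : RGD.Sup (fun r => (X r).map f) S = (RGD.Sup X S).map f := by
  unfold RGD.Sup
  rw [Subgroup.map_iSup]

theorem cf_map {i : I} {u : Y} {s : F} (hu : Cf cs h X x i u s) :
    Cf cs h (fun r => (X r).map f) (fun i s => f (x i s)) i (f u) s := by
  obtain ⟨q, hq, rfl⟩ := hu
  refine ⟨f q, ?_, map_mul _ _ _⟩
  rw [QQ, Sup_map]
  exact Subgroup.mem_map_of_mem _ hq

theorem eq_one_of_map [Finite W] [Fact p.Prime] (R : RGD cs h p T n X) (hf : f.ker ≤ Subgroup.center Y) {r : I → ℤ}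
    (hr : IsRoot cs h r) {u : Y} (hu : u ∈ X r) (h1 : f u = 1) : u = 1 := by
  have h2 : u ∈ X r ⊓ Subgroup.center Y := ⟨hu, hf h1⟩
  rw [Cfsg.Agent.Nodes.CardSup.X_inf_center R hr] at h2
  exact Subgroup.mem_bot.1 h2

open Classical in
/-- the characters of the image -/
noncomputable def chm (f : Y →* Y') (T : Subgroup Y) (χ : I → Y → F) (i : I) (k : Y') : F :=
  if h : ∃ t ∈ T, f t = k then χ i h.choose else 1

theorem chm_spec (χ : I → Y → F) (i : I) {k : Y'} (hk : k ∈ T.map f) : ∃ t ∈ T, f t = k ∧ chm f T χ i k = χ i t := by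
  have h : ∃ t ∈ T, f t = k := hk
  refine ⟨h.choose, h.choose_spec.1, h.choose_spec.2, ?_⟩
  unfold chm
  rw [dif_pos h]

variable [Finite W] [Fact p.Prime] (R : RGD cs h p T n X) (hf : f.ker ≤ Subgroup.center Y)

include R hf

/-- The image of field coordinates. -/
theorem FD.map (E : FD cs h T X x y hh χ D) : FD cs h (T.map f) (fun r => (X r).map f) (fun i s => f (x i s))
    (fun i s => f (y i s)) (fun i c => f (hh i c)) (chm f T χ) D := by
  have px : Par (fun r => (X r).map f) (fun i s => f (x i s)) := by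
    refine ⟨fun i u => ?_, fun i s t => by rw [E.px.add, map_mul], fun i s h1 => ?_⟩
    · constructor
      · rintro ⟨u, hu, rfl⟩
        obtain ⟨s, rfl⟩ := (E.px.mem i u).1 hu
        exact ⟨s, rfl⟩
      · rintro ⟨s, rfl⟩
        exact Subgroup.mem_map_of_mem _ (E.px.x_mem i s)
    · exact E.px.inj i s (eq_one_of_map f R hf (isRoot_sr cs h i) (E.px.x_mem i s) h1)
  have py : Par (fun r => (fun r => (X r).map f) (-r)) (fun i s => f (y i s)) := by
    refine ⟨fun i u => ?_, fun i s t => by rw [E.py.add, map_mul], fun i s h1 => ?_⟩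
    · constructor
      · rintro ⟨u, hu, rfl⟩
        obtain ⟨s, rfl⟩ := (E.py.mem i u).1 hu
        exact ⟨s, rfl⟩
      · rintro ⟨s, rfl⟩
        exact Subgroup.mem_map_of_mem _ (E.py.x_mem i s)
    · exact E.py.inj i s (eq_one_of_map f R hf (isRoot_sr cs h i).neg (E.py.x_mem i s) h1)
  have key : ∀ i j c, c ≠ 0 → chm f T χ j (f (hh i c)) = χ j (hh i c) := by
    intro i j c hc
    obtain ⟨t', ht', e', e⟩ := chm_spec f χ j (Subgroup.mem_map_of_mem f (E.hmem i c hc))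
    rw [e]
    have h1 : (hh i c)⁻¹ * t' ∈ Subgroup.center Y := by
      apply hf
      rw [MonoidHom.mem_ker, map_mul, map_inv, e', inv_mul_cancel]
    have h2 := E.tx j t' ht' 1
    have h3 := E.tx j _ (E.hmem i c hc) 1
    have h4 : t' * x j 1 * t'⁻¹ = hh i c * x j 1 * (hh i c)⁻¹ := by
      have h5 := Subgroup.mem_center_iff.1 h1 (x j 1)
      calc t' * x j 1 * t'⁻¹ = hh i c * (((hh i c)⁻¹ * t') * x j 1) * ((hh i c)⁻¹ * t')⁻¹ * (hh i c)⁻¹ := by group
        _ = _ := by rw [← h5]; group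
    rw [h2, h3, mul_one, mul_one] at h4
    exact E.px.inj' h4
  refine ⟨px, py, ?_, ?_, ?_, ?_, ?_, ?_, ?_, ?_, ?_⟩
  · intro i a b hab
    rw [← map_mul, E.rank1 i a b hab, map_mul, map_mul]
  · intro i c hc
    exact Subgroup.mem_map_of_mem _ (E.hmem i c hc)
  · intro i c d hc hd
    rw [E.hmul i c d hc hd, map_mul]
  · intro i t ht
    obtain ⟨t', ht', rfl, e⟩ := chm_spec f χ i ht
    rw [e]
    exact E.chi0 i t' ht'
  · intro i t ht s
    obtain ⟨t', ht', rfl, e⟩ := chm_spec f χ i ht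
    rw [e, ← E.tx i t' ht', map_mul, map_mul, map_inv]
  · intro i t ht s
    obtain ⟨t', ht', rfl, e⟩ := chm_spec f χ i ht
    rw [e, ← E.ty i t' ht', map_mul, map_mul, map_inv]
  · intro i c hc
    rw [key i i c hc, E.chd i c hc]
  · intro i j hij hM
    obtain ⟨m, h1, h2, h3⟩ := E.chn i j hij hM
    exact ⟨m, h1, h2, fun c hc => by rw [key i j c hc, h3 c hc]⟩
  · intro k j hjk r hr v hv
    obtain ⟨v, hv, rfl⟩ := hv
    obtain ⟨P, hP, h1⟩ := E.poly k j hjk r hr v hv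
    refine ⟨P, hP, fun s => ?_⟩
    have := cf_map (cs := cs) (h := h) (X := fun r => X (-r)) (x := y) f (h1 s)
    rw [map_mul, map_mul] at this
    exact this

/-- The image of Levi data. -/
theorem LD.map {J : Set I} {m : ℕ} {φ : Matrix.SpecialLinearGroup (Fin m) F →* Y} {e : Y}
    (L : LD cs h T X hh J m φ e) : LD cs h (T.map f) (fun r => (X r).map f) (fun i c => f (hh i c)) J m
      (f.comp φ) (f e) := by
  have key : ∀ r, IsRoot cs h r → (∀ u ∈ X r, e * u * e⁻¹ = u → u = 1) → ∀ u ∈ X r, f e * f u * (f e)⁻¹ = f u →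
      f u = 1 := by
    intro r hr hL u hu h1
    have h2 : e * u * e⁻¹ ∈ X r := by
      have h3 := R.tor r hr e L.eT
      have h4 : e * u * e⁻¹ ∈ cj e (X r) := by
        rw [mem_cj]
        have : e⁻¹ * (e * u * e⁻¹) * e = u := by group
        rwa [this]
      rwa [h3] at h4
    have h3 : e * u * e⁻¹ * u⁻¹ = 1 := by
      refine eq_one_of_map f R hf hr (mul_mem h2 (inv_mem hu)) ?_
      rw [map_mul, map_mul, map_mul, map_inv, map_inv, h1, mul_inv_cancel]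
    rw [hL u hu (mul_inv_eq_one.1 h3), map_one]
  refine ⟨L.hm, L.hJ, L.hJ', ?_, ?_, ?_, ?_, Subgroup.mem_map_of_mem _ L.eT, ?_, ?_, ?_, ?_, ?_⟩
  · rintro r hr _ ⟨u, hu, rfl⟩
    obtain ⟨B, h1, h2, rfl⟩ := L.up r hr u hu
    exact ⟨B, h1, h2, rfl⟩
  · rintro r hr _ ⟨u, hu, rfl⟩
    obtain ⟨B, h1, h2, rfl⟩ := L.lo r hr u hu
    exact ⟨B, h1, h2, rfl⟩
  · intro j hj c hc
    obtain ⟨B, h1, h2⟩ := L.di j hj c hc
    exact ⟨B, h1, congrArg f h2⟩
  · intro B
    have h1 := Subgroup.mem_map_of_mem f (L.ran B)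
    unfold LJ at h1 ⊢
    rw [Subgroup.map_sup, ← Sup_map] at h1
    exact h1
  · intro B
    show f e * f (φ B) = f (φ B) * f e
    rw [← map_mul, L.ecomm, map_mul]
  · rintro r hr _ ⟨u, hu, rfl⟩ h1
    exact key r hr.1 (L.efix r hr) u hu h1
  · rintro r hr _ ⟨u, hu, rfl⟩ h1
    exact key (-r) hr.1.neg (L.efix' r hr) u hu h1
  · intro δ
    obtain ⟨τ, hτ, h1⟩ := L.tor δ
    refine ⟨f τ, Subgroup.mem_map_of_mem _ hτ, fun B C hC => ?_⟩
    show f τ * f (φ B) * (f τ)⁻¹ = f (φ C)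
    rw [← h1 B C hC, map_mul, map_mul, map_inv]
  · obtain ⟨n₀, h1, B, hB, C, hC, h2⟩ := L.real
    refine ⟨f n₀, ?_, B, hB, C, hC, ?_⟩
    · rw [← map_inv, ← map_mul, ← map_mul, h1, map_inv]
    · show f n₀ * f (φ B) * (f n₀)⁻¹ = f (φ C)
      rw [← h2, map_mul, map_mul, map_inv]

end Map

/-! ### restriction to a subgroup -/

section Restrict

variable (K : Subgroup Y)

theorem Sup_restrict {S : Set (I → ℤ)} (hX : ∀ r ∈ S, X r ≤ K) :
    RGD.Sup (fun r => (X r).subgroupOf K) S = (RGD.Sup X S).subgroupOf K := by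
  unfold RGD.Sup
  rw [iSup_subgroupOf (K := K) (fun z : S => X z.1) (fun z => hX z.1 z.2)]

theorem cf_restrict {i : I} {u : K} {s : F} (hX : ∀ r, IsRoot cs h r → X r ≤ K) {x' : I → F → K}
    (hx : ∀ i s, ((x' i s : K) : Y) = x i s) (hu : Cf cs h X x i (u : Y) s) :
    Cf cs h (fun r => (X r).subgroupOf K) x' i u s := by
  obtain ⟨q, hq, e⟩ := hu
  have hqK : q ∈ K := by
    have : q = (u : Y) * (x' i s : Y)⁻¹ := by rw [e, hx]; group
    rw [this]
    exact mul_mem u.2 (inv_mem (x' i s).2)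
  refine ⟨⟨q, hqK⟩, ?_, Subtype.ext ?_⟩
  · rw [QQ, Sup_restrict K (fun r hr => hX r hr.1)]
    exact Subgroup.mem_subgroupOf.2 hq
  · rw [e, Subgroup.coe_mul, hx]

/-- The restriction of field coordinates. -/
theorem FD.restrict (E : FD cs h T X x y hh χ D) (hX : ∀ r, IsRoot cs h r → X r ≤ K) {x' y' hh' : I → F → K}
    (hx : ∀ i s, ((x' i s : K) : Y) = x i s) (hy : ∀ i s, ((y' i s : K) : Y) = y i s)
    (hh0 : ∀ i s, ((hh' i s : K) : Y) = hh i s) :
    FD cs h (T.subgroupOf K) (fun r => (X r).subgroupOf K) x' y' hh' (fun i t => χ i (t : Y)) D := by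
  refine ⟨?_, ?_, ?_, ?_, ?_, ?_, ?_, ?_, ?_, ?_, ?_⟩
  · refine ⟨fun i u => ?_, fun i s t => Subtype.ext ?_, fun i s h1 => ?_⟩
    · rw [Subgroup.mem_subgroupOf, E.px.mem]
      constructor
      · rintro ⟨s, hs⟩
        exact ⟨s, Subtype.ext ((hx i s).trans hs)⟩
      · rintro ⟨s, rfl⟩
        exact ⟨s, (hx i s).symm⟩
    · rw [Subgroup.coe_mul, hx, hx, hx, E.px.add]
    · exact E.px.inj i s (by rw [← hx, h1]; rfl)
  · refine ⟨fun i u => ?_, fun i s t => Subtype.ext ?_, fun i s h1 => ?_⟩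
    · rw [Subgroup.mem_subgroupOf]
      rw [E.py.mem i (u : Y)]
      constructor
      · rintro ⟨s, hs⟩
        exact ⟨s, Subtype.ext ((hy i s).trans hs)⟩
      · rintro ⟨s, rfl⟩
        exact ⟨s, (hy i s).symm⟩
    · rw [Subgroup.coe_mul, hy, hy, hy, E.py.add]
    · exact E.py.inj i s (by rw [← hy, h1]; rfl)
  · intro i a b hab
    apply Subtype.ext
    simp only [Subgroup.coe_mul, hx, hy, hh0]
    exact E.rank1 i a b hab
  · intro i c hc
    rw [Subgroup.mem_subgroupOf, hh0]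
    exact E.hmem i c hc
  · intro i c d hc hd
    apply Subtype.ext
    rw [Subgroup.coe_mul, hh0, hh0, hh0, E.hmul i c d hc hd]
  · intro i t ht
    exact E.chi0 i _ (Subgroup.mem_subgroupOf.1 ht)
  · intro i t ht s
    apply Subtype.ext
    rw [Subgroup.coe_mul, Subgroup.coe_mul, Subgroup.coe_inv, hx, hx]
    exact E.tx i _ (Subgroup.mem_subgroupOf.1 ht) s
  · intro i t ht s
    apply Subtype.ext
    rw [Subgroup.coe_mul, Subgroup.coe_mul, Subgroup.coe_inv, hy, hy]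
    exact E.ty i _ (Subgroup.mem_subgroupOf.1 ht) s
  · intro i c hc
    show χ i (hh' i c : Y) = _
    rw [hh0]
    exact E.chd i c hc
  · intro i j hij hM
    obtain ⟨m, h1, h2, h3⟩ := E.chn i j hij hM
    refine ⟨m, h1, h2, fun c hc => ?_⟩
    show χ j (hh' i c : Y) = _
    rw [hh0]
    exact h3 c hc
  · intro k j hjk r hr v hv
    obtain ⟨P, hP, h1⟩ := E.poly k j hjk r hr (v : Y) (Subgroup.mem_subgroupOf.1 hv)
    refine ⟨P, hP, fun s => ?_⟩
    refine cf_restrict (cs := cs) (h := h) (X := fun r => X (-r)) (x := y) K (fun r hr => hX _ hr.neg) hy ?_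
    rw [Subgroup.coe_mul, Subgroup.coe_mul, hx, hx]
    exact h1 s

/-- The restriction of Levi data. -/
theorem LD.restrict {J : Set I} {m : ℕ} {φ : Matrix.SpecialLinearGroup (Fin m) F →* Y} {e : Y}
    (L : LD cs h T X hh J m φ e) (hX : ∀ r, IsRoot cs h r → X r ≤ K) (hT : T ≤ K) {hh' : I → F → K}
    (hh0 : ∀ i s, ((hh' i s : K) : Y) = hh i s)
    {φ' : Matrix.SpecialLinearGroup (Fin m) F →* K} (hφ : ∀ B, ((φ' B : K) : Y) = φ B)
    (hreal : ∃ n₀ ∈ K, n₀ * e * n₀⁻¹ = e⁻¹ ∧ ∃ B ∈ RU F m, ∃ C ∈ RU F m, n₀ * φ B * n₀⁻¹ = φ C) :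
    LD cs h (T.subgroupOf K) (fun r => (X r).subgroupOf K) hh' J m φ' ⟨e, hT L.eT⟩ := by
  refine ⟨L.hm, L.hJ, L.hJ', ?_, ?_, ?_, ?_, Subgroup.mem_subgroupOf.2 L.eT, ?_, ?_, ?_, ?_, ?_⟩
  · intro r hr u hu
    obtain ⟨B, h1, h2, h3⟩ := L.up r hr (u : Y) (Subgroup.mem_subgroupOf.1 hu)
    exact ⟨B, h1, h2, Subtype.ext ((hφ B).trans h3)⟩
  · intro r hr u hu
    obtain ⟨B, h1, h2, h3⟩ := L.lo r hr (u : Y) (Subgroup.mem_subgroupOf.1 hu)
    exact ⟨B, h1, h2, Subtype.ext ((hφ B).trans h3)⟩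
  · intro j hj c hc
    obtain ⟨B, h1, h2⟩ := L.di j hj c hc
    exact ⟨B, h1, Subtype.ext ((hφ B).trans (h2.trans (hh0 j c).symm))⟩
  · intro B
    have h1 := L.ran B
    have h2 : LJ cs h (T.subgroupOf K) (fun r => (X r).subgroupOf K) J = (LJ cs h T X J).subgroupOf K := by
      unfold LJ
      have h3 : RGD.Sup X (RootsJ cs h J) ≤ K := RGD.Sup_le fun r hr => hX r hr.1
      rw [Sup_restrict K (fun r hr => hX r hr.1), Subgroup.subgroupOf_sup hT h3]
    rw [h2, Subgroup.mem_subgroupOf, hφ]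
    exact h1
  · intro B
    apply Subtype.ext
    show e * (φ' B : Y) = (φ' B : Y) * e
    rw [hφ, L.ecomm]
  · intro r hr u hu h1
    exact Subtype.ext (L.efix r hr (u : Y) (Subgroup.mem_subgroupOf.1 hu) (congrArg Subtype.val h1))
  · intro r hr u hu h1
    exact Subtype.ext (L.efix' r hr (u : Y) (Subgroup.mem_subgroupOf.1 hu) (congrArg Subtype.val h1))
  · intro δ
    obtain ⟨τ, hτ, h1⟩ := L.tor δ
    refine ⟨⟨τ, hT hτ⟩, Subgroup.mem_subgroupOf.2 hτ, fun B C hC => Subtype.ext ?_⟩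
    show τ * (φ' B : Y) * τ⁻¹ = (φ' C : Y)
    rw [hφ, hφ, h1 B C hC]
  · obtain ⟨n₀, hn, h1, B, hB, C, hC, h2⟩ := hreal
    refine ⟨⟨n₀, hn⟩, Subtype.ext h1, B, hB, C, hC, Subtype.ext ?_⟩
    show n₀ * (φ' B : Y) * n₀⁻¹ = (φ' C : Y)
    rw [hφ, hφ, h2]

end Restrict

end Cfsg.Agent.H155.TG
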