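import Cfsg.Agent.H155.TG.WLdD
import Cfsg.Agent.H155.TG.PSLf

/-!
# Assembly for subquotients (helper155)
-/

set_option autoImplicit false
set_option linter.unusedSectionVars false

namespace Cfsg.Agent.H155.TG

open CoxeterSystem Cfsg.Agent.ChevalleyStructure.CoxeterGeom Cfsg.Agent.Tits.Roots
  Cfsg.Agent.Nodes.BNOf Cfsg.Agent.Nodes.StabComb Cfsg.Agent.Nodes.RGDLib Cfsg.Agent.Nodes.FreeTorus
  Cfsg.Agent.Nodes.Bruhat Cfsg.Agent.KFacts.RgdOpp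

variable {I W Y Y' : Type*} [Fintype I] [DecidableEq I] [Group W] [Group Y] [Group Y'] {M : CoxeterMatrix I}
  {cs : CoxeterSystem M W} {A : I → I → ℤ} {h : IsCartan M A} {p : ℕ} {T : Subgroup Y} {n : I → Y}
  {X : (I → ℤ) → Subgroup Y} {F : Type*} [Field F] {x y hh : I → F → Y} {χ : I → Y → F} {D : I → I → ℕ}

theorem asmW [Finite F] [Finite Y] [Finite W] [Fact p.Prime] [CharP F p] (R : RGD cs h p T n X) (K : Subgroup Y)
    (hX : ∀ r, IsRoot cs h r → X r ≤ K) (hT : T ≤ K) (hn : ∀ i, n i ∈ K) (hnn : ∀ i, n i ∈ X (sr i) ⊔ X (-sr i))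
    (E : FD cs h T X x y hh χ D) (hhK : ∀ i c, hh i c ∈ K) {J : Set I} {m : ℕ}
    {φ : Matrix.SpecialLinearGroup (Fin m) F →* Y} (hφ : ∀ B, φ B ∈ K) {e : Y}
    (L : LD cs h T X hh J m φ e)
    (hreal : ∃ n₀ ∈ K, n₀ * e * n₀⁻¹ = e⁻¹ ∧ ∃ B ∈ RU F m, ∃ C ∈ RU F m, n₀ * φ B * n₀⁻¹ = φ C)
    (f : ↥K →* Y') (hf : f.ker ≤ Subgroup.center ↥K) (hF : 9 ≤ Nat.card F)
    (hD : ∀ k, ∑ j ∈ Finset.univ.erase k, D k j ≤ 4)
    (hconn : ∀ S : Set I, S.Nonempty → S ≠ Set.univ → ∃ a ∈ S, ∃ b, b ∉ S ∧ M a b ≠ 2)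
    (hG : RGD.Sup (fun r => ((X r).subgroupOf K).map f) {r | IsRoot cs h r} = ⊤) [IsSimpleGroup Y'] (i₀ : I) :
    ∃ c : Y', ∀ g, ∃ x y, g = (x * c * x⁻¹) * (y * c * y⁻¹) := by
  have hsurj : Function.Surjective f := by
    rw [← MonoidHom.range_eq_top, eq_top_iff, ← hG]
    exact RGD.Sup_le fun r _ => Subgroup.map_le_range f _
  have : Finite Y' := Finite.of_surjective f hsurj
  have R1 := rgd_restrict R K hX hn
  have R2 := rgd_map_of_ker_le_center R1 f hf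
  have E1 := E.restrict K hX (x' := fun i s => ⟨x i s, hX _ (isRoot_sr cs h i) (E.px.x_mem i s)⟩)
    (y' := fun i s => ⟨y i s, hX _ (isRoot_sr cs h i).neg (E.py.x_mem i s)⟩) (hh' := fun i s => ⟨hh i s, hhK i s⟩)
    (fun _ _ => rfl) (fun _ _ => rfl) (fun _ _ => rfl)
  have E2 := E1.map f R1 hf
  have L1 := L.restrict K hX hT (hh' := fun i s => ⟨hh i s, hhK i s⟩) (fun _ _ => rfl)
    (φ' := φ.codRestrict K hφ) (fun _ => rfl) hreal
  have L2 := L1.map f R1 hf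
  refine main R2 E2 hF hD hconn (fun i => ?_) hG (core_of_simple R2 i₀) L2
  show f ⟨n i, hn i⟩ ∈ ((X (sr i)).subgroupOf K).map f ⊔ ((X (-sr i)).subgroupOf K).map f
  rw [← Subgroup.map_sup, ← Subgroup.subgroupOf_sup (hX _ (isRoot_sr cs h i)) (hX _ (isRoot_sr cs h i).neg)]
  exact Subgroup.mem_map_of_mem _ (Subgroup.mem_subgroupOf.2 (hnn i))

namespace Wf

open Cfsg.Agent.TitsThree Cfsg.Agent.TitsThree.Siegel Cfsg.Agent.TitsThree.WittFrame Cfsg.Agent.TitsThree.WittWeyl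
open Cfsg.Agent.Nodes Cfsg.Agent.Nodes.WittRoot Cfsg.Agent.TitsThree.FrameCN
open Cfsg.Agent.Nodes.WittRGD (Tor)

variable {V : Type*} [AddCommGroup V] [Module F V] {H : HForm F V}

theorem phW_mem {N m : ℕ} (Fr : Frame H (Fin N)) {G0 : Subgroup (V ≃ₗ[F] V)}
    (hV0 : ∀ v, (∀ x, H.h v (Fr.b x) = 0) → v ∈ Fr.V0) (hσ : ∀ x, H.σ x = x) (hX : ∀ a b t, Fr.X a b t ∈ G0)
    (h : m ≤ N) (B : Matrix.SpecialLinearGroup (Fin m) F) : phW Fr h B ∈ G0 := by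
  refine SL_le _ _ (fun i j hij a => ?_) B
  rw [phW_tv Fr hV0 hσ h hij]
  exact hX _ _ _

/-- linear maps agreeing on the frame and on `V0` -/
theorem ext_frame2 {N : ℕ} (Fr : Frame H (Fin N)) {V' : Type*} [AddCommGroup V'] [Module F V']
    (hV0 : ∀ v, (∀ x, H.h v (Fr.b x) = 0) → v ∈ Fr.V0) {g k : V →ₗ[F] V'}
    (hb : ∀ x, g (Fr.b x) = k (Fr.b x)) (h0 : ∀ w ∈ Fr.V0, g w = k w) (v : V) : g v = k v := by
  set u : V := ∑ x, (H.h v (Fr.b (neg x)) * (Fr.η (neg x))⁻¹) • Fr.b x with hu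
  have h1 : v - u ∈ Fr.V0 := by
    apply hV0
    intro y
    rw [H.sub_left, sub_eq_zero]
    have h2 : H.h u (Fr.b y) = ∑ x, (H.h v (Fr.b (neg x)) * (Fr.η (neg x))⁻¹) * H.h (Fr.b x) (Fr.b y) := by
      rw [hu, h_sum_left]
      exact Finset.sum_congr rfl fun x _ => H.smul_left _ _ _
    rw [h2, Finset.sum_eq_single (neg y)]
    · rw [WittFrame.neg_neg, Fr.hb_neg_self]
      have := Fr.η_ne y
      field_simp
    · intro x _ hx
      rw [Fr.hb_ne, mul_zero]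
      rintro rfl
      exact hx (WittFrame.neg_neg x).symm
    · intro h; exact absurd (Finset.mem_univ _) h
  have h2 : g u = k u := by
    rw [hu, map_sum, map_sum]
    exact Finset.sum_congr rfl fun x _ => by rw [map_smul, map_smul, hb]
  have h3 : v = (v - u) + u := by abel
  rw [h3, map_add, map_add, h0 _ h1, h2]

/-- `h(g v, w')` as a linear function of `v` -/
def hlin (H : HForm F V) (g : V ≃ₗ[F] V) (w' : V) : V →ₗ[F] F where
  toFun v := H.h (g v) w'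
  map_add' v w := by rw [map_add, H.add_left]
  map_smul' c v := by rw [map_smul, H.smul_left]; rfl

/-- the torus elements are isometries -/
theorem iso_td {N : ℕ} (Fr : Frame H (Fin N)) (hV0 : ∀ v, (∀ x, H.h v (Fr.b x) = 0) → v ∈ Fr.V0)
    (hσ : ∀ x, H.σ x = x) (l : Fin N → Fˣ) : H.IsIso (td Fr l) := by
  -- first argument in the frame
  have key : ∀ (z : V) (_ : (∃ x, z = Fr.b x) ∨ z ∈ Fr.V0) (w : V), H.h (td Fr l w) (td Fr l z) = H.h w z := by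
    intro z hz w
    refine ext_frame2 Fr hV0 (g := hlin H (td Fr l) (td Fr l z)) (k := hlin H 1 z) ?_ ?_ w
    · intro y
      show H.h (td Fr l (Fr.b y)) (td Fr l z) = H.h (Fr.b y) z
      rcases hz with ⟨x, rfl⟩ | hz
      · rw [td_b, td_b, H.smul_left, H.smul_right, hσ]
        by_cases hxy : x = neg y
        · subst hxy
          rw [ev_neg, ← mul_assoc, ← Units.val_mul, mul_inv_cancel, Units.val_one, one_mul]
        · rw [Fr.hb_ne hxy, mul_zero, mul_zero]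
      · rw [td_b, td_V0 Fr l hz, H.smul_left, Fr.h0 y z hz, mul_zero]
    · intro w hw
      show H.h (td Fr l w) (td Fr l z) = H.h w z
      rw [td_V0 Fr l hw]
      rcases hz with ⟨x, rfl⟩ | hz
      · rw [td_b, H.smul_right, Fr.h0' x hw, mul_zero]
      · rw [td_V0 Fr l hz]
  intro v w
  rw [H.swap (td Fr l w) (td Fr l v), H.swap w v]
  congr 1
  rw [hσ, hσ]
  refine ext_frame2 Fr hV0 (g := hlin H (td Fr l) (td Fr l v)) (k := hlin H 1 v) ?_ ?_ w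
  · intro x
    show H.h (td Fr l (Fr.b x)) (td Fr l v) = H.h (Fr.b x) v
    rw [H.swap (td Fr l v) (td Fr l (Fr.b x)), H.swap v (Fr.b x), key (Fr.b x) (Or.inl ⟨x, rfl⟩) v]
  · intro z hz
    show H.h (td Fr l z) (td Fr l v) = H.h z v
    rw [H.swap (td Fr l v) (td Fr l z), H.swap v z, key z (Or.inr hz) v]

theorem hhC_mem {n k : ℕ} (Fr : Frame H (Fin n)) {G0 : Subgroup (V ≃ₗ[F] V)} {P P' : F → Fr.Adm} {k' : ℕ} {w : V} {κ : F}
    (L : Lst Fr G0 P P' k k' w κ) (hV0 : ∀ v, (∀ x, H.h v (Fr.b x) = 0) → v ∈ Fr.V0) (hσ : ∀ x, H.σ x = x)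
    (hX : ∀ a b t, Fr.X a b t ∈ G0) (i : Fin n) (c : F) : hhC Fr k i c ∈ G0 := by
  by_cases hc : c = 0
  · unfold hhC
    rw [dif_neg (by rw [hc]; simp)]
    exact one_mem _
  · rw [hhC_eq Fr k i hc]
    exact (td_crC_mem Fr L hV0 hσ hX i _).1

/-- **Type `C_n`.** -/
theorem mainC [Finite F] [Finite V] {n m : ℕ} (hn : 1 ≤ n) {Fr : Frame H (Fin n)} {K : Type*} [Group K] [IsSimpleGroup K]
    (M : Model Fr K) (hA : Amb Fr M.I) {p : ℕ} [Fact p.Prime] [CharP F p] (hF : 9 ≤ Nat.card F)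
    {P P' : F → Fr.Adm} {k k' : ℕ} {w : V} {κ : F} (L : Lst Fr M.I P P' k k' w κ) (hσ : ∀ x, H.σ x = x)
    (hm : 1 ≤ m) (hmn : m ≤ n) (l : Fin n → Fˣ) (hl : td Fr l ∈ M.I)
    (const : ∀ i j : Fin m, l (ci hmn i) = l (ci hmn j))
    (tor : ∀ δ : Fˣ, ∃ l' : Fin n → Fˣ, td Fr l' ∈ M.I ∧ ∀ i : Fin m, l' (ci hmn i) = dl δ i)
    (e1 : ∀ a b : Fin n × Bool, a.1 ≠ b.1 → (ev l a : F) * ev l b = 1 → a.2 ≠ b.2 ∧ a.1.val < m ∧ b.1.val < m)
    (e2 : ∀ (x : Fin n × Bool) (p : Fr.Adm), Frame.Adm.smul (ev l x : F) p = p → p = 1)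
    {p0 : Fr.Adm} (hp0 : p0.c ≠ 0) :
    ∃ c : K, ∀ g, ∃ x y, g = (x * c * x⁻¹) * (y * c * y⁻¹) := by
  have hfinY : Finite (V ≃ₗ[F] V) :=
    Finite.of_injective (fun g : V ≃ₗ[F] V => (g : V → V)) DFunLike.coe_injective
  let cs := (CoxeterMatrix.B n).toCoxeterSystem
  have hfinW : Finite (CoxeterMatrix.B n).Group := TypeC.finite_W cs
  have hA' := WittAll.AmbT.of_amb hA p
  have R := WittAll.rgdC hA' hp0 cs
  have hX := hA.X_mem
  have E := fdC Fr cs L hA.V0 hσ hX hA.Z_mem hA.iso R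
  obtain ⟨LDl, hreal⟩ := ldC (k := k) Fr cs hA.V0 hσ hA.iso hm hmn l hl const tor e1 e2 hp0
    (fun i => WittRGD.nZ_mem hA _ _)
  exact asmW R M.I (fun r _ => hA.rg_le r) (fun t ht => ht.1) (fun i => WittRGD.nn_mem hA p0 i)
    (fun i => WittRGD.nn_mem_sup p0 i) E (hhC_mem Fr L hA.V0 hσ hX) (phW_mem Fr hA.V0 hσ hX hmn) LDl hreal M.φ
    (WittAll.ker_le_center M) hF hDC connC (WittModel.G1_eq_top M (by omega) cs) ⟨0, by omega⟩

end Wf

end Cfsg.Agent.H155.TG
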