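import Cfsg.Agent.H155.TG.WTheta

/-!
# Coefficients of unipotent elements of the classical groups as matrix entries (helper155)
-/

set_option autoImplicit false
set_option linter.unusedSectionVars false
set_option linter.unusedSimpArgs false

namespace Cfsg.Agent.H155.TG

open CoxeterSystem Cfsg.Agent.ChevalleyStructure.CoxeterGeom Cfsg.Agent.Tits.Roots
open Cfsg.Agent.Nodes.BNOf

section Abstract

variable {I W Y : Type*} [Fintype I] [DecidableEq I] [Group W] [Group Y] {M : CoxeterMatrix I}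
  {cs : CoxeterSystem M W} {A : I → I → ℤ} {h : IsCartan M A} {p : ℕ} {T : Subgroup Y} {n : I → Y}
  {X : (I → ℤ) → Subgroup Y} {F : Type*} [Field F] {x : I → F → Y}

/-- An additive function on `U` vanishing on the other root groups is the coefficient. -/
theorem cf_fun (R : RGD cs h p T n X) (P : Par X x) (c : Y → F) (j : I)
    (hc : ∀ u ∈ UU cs h X, ∀ v ∈ UU cs h X, c (u * v) = c u + c v)
    (h0 : ∀ r ∈ RGD.PosNe cs h j, ∀ u ∈ X r, c u = 0) (h1 : ∀ s, c (x j s) = s) {u : Y} (hu : u ∈ UU cs h X) :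
    Cf cs h X x j u (c u) := by
  obtain ⟨s, q, hq, rfl⟩ := cf_exists R P j hu
  have hc1 : c 1 = 0 := by
    have := hc 1 (one_mem _) 1 (one_mem _)
    rwa [mul_one, left_eq_add] at this
  have h2 : q ∈ UU cs h X ∧ c q = 0 := by
    refine Subgroup.iSup_induction (fun z : RGD.PosNe cs h j => X z.1)
      (C := fun q => q ∈ UU cs h X ∧ c q = 0) hq ?_ ?_ ?_
    · rintro ⟨r, hr⟩ u hu
      exact ⟨RGD.le_Sup (S := RGD.Pos cs h) ⟨hr.1, hr.2.1⟩ hu, h0 r hr u hu⟩
    · exact ⟨one_mem _, hc1⟩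
    · rintro a b ⟨ha, ha'⟩ ⟨hb, hb'⟩
      exact ⟨mul_mem ha hb, by rw [hc a ha b hb, ha', hb', add_zero]⟩
  have h3 : c (q * x j s) = s := by
    rw [hc q h2.1 _ (X_le_UU j (P.x_mem j s)), h2.2, h1, zero_add]
  rw [h3]
  exact ⟨q, hq, rfl⟩

open Classical in
/-- the characters, defined by their action -/
noncomputable def chx (x y : I → F → Y) (i : I) (t : Y) : F :=
  if h : ∃ c : F, c ≠ 0 ∧ (∀ s, t * x i s * t⁻¹ = x i (c * s)) ∧ ∀ s, t * y i s * t⁻¹ = y i (c⁻¹ * s) then h.choose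
  else 1

/-- Field coordinates from an existence statement for the characters. -/
theorem FD.mk' {y hh : I → F → Y} {D : I → I → ℕ} (px : Par X x) (py : Par (fun r => X (-r)) y)
    (rank1 : ∀ i a b, 1 + b * a ≠ 0 →
      x i b * y i a = y i (a / (1 + b * a)) * hh i (1 + b * a) * x i (b / (1 + b * a)))
    (hmem : ∀ i c, c ≠ 0 → hh i c ∈ T) (hmul : ∀ i c d, c ≠ 0 → d ≠ 0 → hh i (c * d) = hh i c * hh i d)
    (hex : ∀ i, ∀ t ∈ T, ∃ c : F, c ≠ 0 ∧ (∀ s, t * x i s * t⁻¹ = x i (c * s)) ∧ ∀ s, t * y i s * t⁻¹ = y i (c⁻¹ * s))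
    (hcd : ∀ i c, c ≠ 0 → hh i c * x i 1 * (hh i c)⁻¹ = x i (c ^ 2))
    (hcn : ∀ i j, i ≠ j → M i j ≠ 2 → ∃ m : ℕ, 1 ≤ m ∧ m ≤ 3 ∧ ∀ c, c ≠ 0 → hh i c * x j 1 * (hh i c)⁻¹ = x j (c ^ m)⁻¹)
    (poly : ∀ k j, j ≠ k → ∀ r ∈ RGD.PosNe cs h k, ∀ v ∈ X (-r), ∃ P : Polynomial F, P.natDegree ≤ D k j ∧
      ∀ s, Cf cs h (fun r => X (-r)) y j (x k (-s) * v * x k s) (P.eval s)) :
    FD cs h T X x y hh (chx x y) D := by
  have hspec : ∀ i, ∀ t ∈ T, chx x y i t ≠ 0 ∧ (∀ s, t * x i s * t⁻¹ = x i (chx x y i t * s)) ∧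
      ∀ s, t * y i s * t⁻¹ = y i ((chx x y i t)⁻¹ * s) := by
    intro i t ht
    have h1 := hex i t ht
    unfold chx
    rw [dif_pos h1]
    exact h1.choose_spec
  refine ⟨px, py, rank1, hmem, hmul, fun i t ht => (hspec i t ht).1, fun i t ht => (hspec i t ht).2.1,
    fun i t ht => (hspec i t ht).2.2, fun i c hc => ?_, fun i j hij hM => ?_, poly⟩
  · have h1 := (hspec i _ (hmem i c hc)).2.1 1
    rw [hcd i c hc, mul_one] at h1
    exact (px.inj' h1).symm
  · obtain ⟨m, hm1, hm3, hm⟩ := hcn i j hij hM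
    refine ⟨m, hm1, hm3, fun c hc => ?_⟩
    have h1 := (hspec j _ (hmem i c hc)).2.1 1
    rw [hm c hc, mul_one] at h1
    exact (px.inj' h1).symm

end Abstract

namespace Wf

open Cfsg.Agent.TitsThree Cfsg.Agent.TitsThree.Siegel Cfsg.Agent.TitsThree.WittFrame Cfsg.Agent.TitsThree.WittWeyl
open Cfsg.Agent.Nodes.WittRoot

variable {F : Type*} [Field F] {V : Type*} [AddCommGroup V] [Module F V] {H : HForm F V} {n : ℕ}
  (Fr : Frame H (Fin n)) (ht : Fin n × Bool → ℤ)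

/-- the vectors of height at most `c` -/
def LE (c : ℤ) : Set V :=
  {v | (∀ x, c < ht x → H.h v (Fr.b (neg x)) = 0) ∧ (c < 0 → ∀ w ∈ Fr.V0, H.h v w = 0)}

theorem LE.add {c : ℤ} {v w : V} (hv : v ∈ LE Fr ht c) (hw : w ∈ LE Fr ht c) : v + w ∈ LE Fr ht c :=
  ⟨fun x hx => by rw [H.add_left, hv.1 x hx, hw.1 x hx, add_zero],
    fun hc z hz => by rw [H.add_left, hv.2 hc z hz, hw.2 hc z hz, add_zero]⟩

theorem LE.smul {c : ℤ} {v : V} (a : F) (hv : v ∈ LE Fr ht c) : a • v ∈ LE Fr ht c :=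
  ⟨fun x hx => by rw [H.smul_left, hv.1 x hx, mul_zero],
    fun hc z hz => by rw [H.smul_left, hv.2 hc z hz, mul_zero]⟩

theorem LE.sub {c : ℤ} {v w : V} (hv : v ∈ LE Fr ht c) (hw : w ∈ LE Fr ht c) : v - w ∈ LE Fr ht c := by
  have h1 := LE.add Fr ht hv (LE.smul Fr ht (-1 : F) hw)
  rwa [neg_one_smul, ← sub_eq_add_neg] at h1

theorem LE.zero (c : ℤ) : (0 : V) ∈ LE Fr ht c := ⟨fun _ _ => H.zero_left _, fun _ _ _ => H.zero_left _⟩

theorem LE.mono {c d : ℤ} (hcd : c ≤ d) {v : V} (hv : v ∈ LE Fr ht c) : v ∈ LE Fr ht d :=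
  ⟨fun x hx => hv.1 x (lt_of_le_of_lt hcd hx), fun hc z hz => hv.2 (lt_of_le_of_lt hcd hc) z hz⟩

theorem LE.b {c : ℤ} {x : Fin n × Bool} (hx : ht x ≤ c) : Fr.b x ∈ LE Fr ht c := by
  refine ⟨fun z hz => Fr.hb_ne ?_, fun _ w hw => Fr.h0 x w hw⟩
  intro h
  have h1 : z = x := by
    have := congrArg neg h
    rwa [WittFrame.neg_neg, WittFrame.neg_neg] at this
  subst h1
  exact absurd hx (not_le.2 hz)

theorem LE.V0 {c : ℤ} (hc : 0 ≤ c) {w : V} (hw : w ∈ Fr.V0) : w ∈ LE Fr ht c :=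
  ⟨fun _ _ => Fr.h0' _ hw, fun h => absurd hc (not_le.2 h)⟩

/-- the elements which lower the height by two -/
def NG : Set (V ≃ₗ[F] V) := {u | ∀ c, ∀ v ∈ LE Fr ht c, u v - v ∈ LE Fr ht (c - 2)}

theorem NG.one : (1 : V ≃ₗ[F] V) ∈ NG Fr ht := by
  intro c v _
  have : (1 : V ≃ₗ[F] V) v - v = 0 := sub_self v
  rw [this]
  exact LE.zero Fr ht _

theorem NG.mul {u u' : V ≃ₗ[F] V} (hu : u ∈ NG Fr ht) (hu' : u' ∈ NG Fr ht) : u * u' ∈ NG Fr ht := by
  intro c v hv
  have h1 := hu' c v hv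
  have h2 := LE.mono Fr ht (show c - 2 - 2 ≤ c - 2 by omega) (hu _ _ h1)
  have h3 := hu c v hv
  have e : (u * u') v - v = (u (u' v - v) - (u' v - v)) + (u v - v) + (u' v - v) := by
    show u (u' v) - v = _
    rw [map_sub]; abel
  rw [e]
  exact LE.add Fr ht (LE.add Fr ht h2 h3) h1

variable (hneg : ∀ x, ht (neg x) = -ht x)

include hneg

theorem NG.X {x y : Fin n × Bool} (hxy : x.1 ≠ y.1) (h : ht x + ht y ≤ -2) (t : F) : Fr.X x y t ∈ NG Fr ht := by
  intro c v hv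
  rw [X_apply Fr hxy]
  have e : v + (H.h v (Fr.b x) * Fr.sc y t) • Fr.b y - (H.ε⁻¹ * H.σ (Fr.sc y t) * H.h v (Fr.b y)) • Fr.b x - v =
      (H.h v (Fr.b x) * Fr.sc y t) • Fr.b y - (H.ε⁻¹ * H.σ (Fr.sc y t) * H.h v (Fr.b y)) • Fr.b x := by abel
  rw [e]
  refine LE.sub Fr ht ?_ ?_
  · by_cases h1 : c < ht (neg x)
    · have h2 := hv.1 (neg x) h1
      rw [WittFrame.neg_neg] at h2
      rw [h2, zero_mul, zero_smul]
      exact LE.zero Fr ht _
    · rw [hneg] at h1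
      exact LE.smul Fr ht _ (LE.b Fr ht (by omega))
  · by_cases h1 : c < ht (neg y)
    · have h2 := hv.1 (neg y) h1
      rw [WittFrame.neg_neg] at h2
      rw [h2, mul_zero, zero_smul]
      exact LE.zero Fr ht _
    · rw [hneg] at h1
      exact LE.smul Fr ht _ (LE.b Fr ht (by omega))

theorem NG.Z {x : Fin n × Bool} {p : Fr.Adm} (hp : p.w = 0 ∨ ht x ≤ -2) (h : ht x ≤ -1) : Fr.Z x p ∈ NG Fr ht := by
  intro c v hv
  rw [Z_apply]
  have e : v + H.h v (Fr.b x) • p.w - (H.ε⁻¹ * H.h v p.w) • Fr.b x + (p.c * H.h v (Fr.b x)) • Fr.b x - v =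
      H.h v (Fr.b x) • p.w - (H.ε⁻¹ * H.h v p.w) • Fr.b x + (p.c * H.h v (Fr.b x)) • Fr.b x := by abel
  rw [e]
  have hpV := Fr.ok_mem p.ok
  refine LE.add Fr ht (LE.sub Fr ht ?_ ?_) ?_
  · rcases hp with hp | hp
    · rw [hp, smul_zero]
      exact LE.zero Fr ht _
    · by_cases h1 : c < ht (neg x)
      · have h2 := hv.1 (neg x) h1
        rw [WittFrame.neg_neg] at h2
        rw [h2, zero_smul]
        exact LE.zero Fr ht _
      · rw [hneg] at h1
        exact LE.smul Fr ht _ (LE.V0 Fr ht (by omega) hpV)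
  · rcases hp with hp | hp
    · rw [hp, H.zero_right, mul_zero, zero_smul]
      exact LE.zero Fr ht _
    · by_cases h1 : c < 0
      · rw [hv.2 h1 _ hpV, mul_zero, zero_smul]
        exact LE.zero Fr ht _
      · exact LE.smul Fr ht _ (LE.b Fr ht (by omega))
  · by_cases h1 : c < ht (neg x)
    · have h2 := hv.1 (neg x) h1
      rw [WittFrame.neg_neg] at h2
      rw [h2, mul_zero, zero_smul]
      exact LE.zero Fr ht _
    · rw [hneg] at h1
      exact LE.smul Fr ht _ (LE.b Fr ht (by omega))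

omit hneg

/-- the coefficient function -/
def co (v w : V) (u : V ≃ₗ[F] V) : F := H.h (u v) w - H.h v w

theorem co_mul {c : ℤ} {v w : V} (hv : v ∈ LE Fr ht c) (hw : ∀ v' ∈ LE Fr ht (c - 4), H.h v' w = 0)
    {u u' : V ≃ₗ[F] V} (hu : u ∈ NG Fr ht) (hu' : u' ∈ NG Fr ht) :
    co (H := H) v w (u * u') = co (H := H) v w u + co (H := H) v w u' := by
  have h1 := hu _ _ (hu' c v hv)
  have h2 := hw _ (LE.mono Fr ht (by omega : c - 2 - 2 ≤ c - 4) h1)
  have e : (u * u') v = (u (u' v - v) - (u' v - v)) + (u v - v) + u' v := by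
    show u (u' v) = _
    rw [map_sub]; abel
  unfold co
  rw [e, H.add_left, H.add_left, h2, H.sub_left]
  ring

theorem LE.h_b {c : ℤ} {x : Fin n × Bool} (hx : c < -ht x) (hneg : ∀ x, ht (neg x) = -ht x) {v : V}
    (hv : v ∈ LE Fr ht c) : H.h v (Fr.b x) = 0 := by
  have h1 := hv.1 (neg x) (by rw [hneg]; exact hx)
  rwa [WittFrame.neg_neg] at h1

/-! ### polynomial dependence -/

/-- vectors depending polynomially on a parameter -/
def PV (d : ℕ) (f : F → V) : Prop := ∃ c : ℕ → V, ∀ s, f s = ∑ i ∈ Finset.range (d + 1), s ^ i • c i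

theorem PV.const (v : V) : PV 0 (fun _ : F => v) := ⟨fun _ => v, fun s => by simp⟩

theorem PV.lin (v w : V) : PV 1 (fun s : F => v + s • w) :=
  ⟨fun i => if i = 0 then v else w, fun s => by simp [Finset.sum_range_succ]⟩

theorem PV.quad (v w z : V) : PV 2 (fun s : F => v + s • w + s ^ 2 • z) :=
  ⟨fun i => if i = 0 then v else if i = 1 then w else z, fun s => by simp [Finset.sum_range_succ]⟩

theorem h_sum_left {α : Type*} (S : Finset α) (f : α → V) (w : V) :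
    H.h (∑ i ∈ S, f i) w = ∑ i ∈ S, H.h (f i) w := by
  classical
  induction S using Finset.induction_on with
  | empty => simp [H.zero_left]
  | insert a s ha ih => rw [Finset.sum_insert ha, Finset.sum_insert ha, H.add_left, ih]

theorem h_sum_right {α : Type*} (S : Finset α) (f : α → V) (w : V) :
    H.h w (∑ i ∈ S, f i) = ∑ i ∈ S, H.h w (f i) := by
  classical
  induction S using Finset.induction_on with
  | empty => simp [H.zero_right]
  | insert a s ha ih => rw [Finset.sum_insert ha, Finset.sum_insert ha, H.add_right, ih]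

theorem PV.poly (hσ : ∀ x, H.σ x = x) {d e : ℕ} {f g : F → V} (hf : PV d f) (hg : PV e g) (u : V ≃ₗ[F] V) (κ a : F) :
    ∃ P : Polynomial F, P.natDegree ≤ d + e ∧ ∀ s, P.eval s = κ * (H.h (u (f s)) (g s) - a) := by
  obtain ⟨c, hc⟩ := hf
  obtain ⟨c', hc'⟩ := hg
  refine ⟨Polynomial.C κ * ((∑ i ∈ Finset.range (d + 1), ∑ j ∈ Finset.range (e + 1),
    Polynomial.C (H.h (u (c i)) (c' j)) * Polynomial.X ^ (i + j)) - Polynomial.C a), ?_, fun s => ?_⟩
  · refine (Polynomial.natDegree_C_mul_le _ _).trans ((Polynomial.natDegree_sub_le _ _).trans (max_le ?_ (by simp)))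
    refine Polynomial.natDegree_sum_le_of_forall_le _ _ fun i hi => ?_
    refine Polynomial.natDegree_sum_le_of_forall_le _ _ fun j hj => ?_
    refine (Polynomial.natDegree_C_mul_X_pow_le _ _).trans ?_
    rw [Finset.mem_range] at hi hj
    omega
  · rw [Polynomial.eval_mul, Polynomial.eval_C, Polynomial.eval_sub, Polynomial.eval_C, Polynomial.eval_finsetSum,
      hc s, hc' s, map_sum, h_sum_left]
    congr 2
    refine Finset.sum_congr rfl fun i _ => ?_
    rw [Polynomial.eval_finsetSum, h_sum_right]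
    refine Finset.sum_congr rfl fun j _ => ?_
    rw [map_smul, H.smul_left, H.smul_right, hσ]
    simp only [Polynomial.eval_mul, Polynomial.eval_C, Polynomial.eval_pow, Polynomial.eval_X]
    ring

end Wf

end Cfsg.Agent.H155.TG
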