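import Cfsg.Agent.H155.TG.WNode

/-!
# Field coordinates of the classical groups of type `C_n` (helper155)
-/

set_option autoImplicit false
set_option linter.unusedSectionVars false
set_option linter.unusedSimpArgs false
set_option linter.unnecessarySeqFocus false

namespace Cfsg.Agent.H155.TG

open CoxeterSystem Cfsg.Agent.ChevalleyStructure.CoxeterGeom Cfsg.Agent.Tits.Roots
open Cfsg.Agent.Nodes.BNOf Cfsg.Agent.KFacts.RgdOpp

section Abstract

variable {I W Y : Type*} [Fintype I] [DecidableEq I] [Group W] [Group Y] {M : CoxeterMatrix I}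
  {cs : CoxeterSystem M W} {A : I → I → ℤ} {h : IsCartan M A} {p : ℕ} {T : Subgroup Y} {n : I → Y}
  {X : (I → ℤ) → Subgroup Y} {F : Type*} [Field F] {x y : I → F → Y}

/-- The coefficients of the conjugates in the definition of field coordinates. -/
theorem cf_conj_fun (R : RGD cs h p T n X) (hfin : Finite W) (px : Par X x) (py : Par (fun r => X (-r)) y) (c : Y → F) (j : I)
    (hc : ∀ u ∈ UU cs h (fun r => X (-r)), ∀ v ∈ UU cs h (fun r => X (-r)), c (u * v) = c u + c v)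
    (h0 : ∀ r ∈ RGD.PosNe cs h j, ∀ u ∈ X (-r), c u = 0) (h1 : ∀ s, c (y j s) = s) {k : I} {r : I → ℤ}
    (hr : r ∈ RGD.PosNe cs h k) {v : Y} (hv : v ∈ X (-r)) (s : F) :
    Cf cs h (fun r => X (-r)) y j (x k (-s) * v * x k s) (c (x k (-s) * v * x k s)) := by
  have R' := opp R
  refine cf_fun R' py c j hc h0 h1 ?_
  have h2 : v ∈ QQ cs h (fun r => X (-r)) k := RGD.le_Sup (X := fun r => X (-r)) hr hv
  have h3 : x k (-s) ∈ (fun r => X (-r)) (-sr k) := by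
    show _ ∈ X (- -sr k)
    rw [neg_neg]
    exact px.x_mem k (-s)
  have h4 := conj_Q' R' h3 h2
  have e : (x k (-s))⁻¹ = x k s := by rw [← px.neg, neg_neg]
  rw [e] at h4
  exact QQ_le k h4

end Abstract

namespace Wf

open Cfsg.Agent.TitsThree Cfsg.Agent.TitsThree.Siegel Cfsg.Agent.TitsThree.WittFrame Cfsg.Agent.TitsThree.WittWeyl
open Cfsg.Agent.Nodes Cfsg.Agent.Nodes.WittRoot Cfsg.Agent.Nodes.TypeC Cfsg.Agent.Nodes.WittAll
open Cfsg.Agent.Nodes.WittRGD (Tor mem_Tor rg_sr rg_neg_sr b_ne_zero not_prop)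

variable {F : Type*} [Field F] {V : Type*} [AddCommGroup V] [Module F V] {H : HForm F V} {n : ℕ}
  (Fr : Frame H (Fin n))

/-- the eigenvalues of a torus element -/
theorem tor_eig {G0 : Subgroup (V ≃ₗ[F] V)} (hiso : ∀ g ∈ G0, H.IsIso g) (hσ : ∀ x, H.σ x = x) {t : V ≃ₗ[F] V}
    (ht : t ∈ Tor Fr G0) : ∃ l : Fin n × Bool → F, (∀ x, l x ≠ 0) ∧ (∀ x, t (Fr.b x) = l x • Fr.b x) ∧
      ∀ x, l (neg x) = (l x)⁻¹ := by
  choose l hl0 hl using ht.2
  refine ⟨l, hl0, hl, fun x => ?_⟩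
  have h1 := hiso t ht.1 (Fr.b (neg x)) (Fr.b x)
  rw [hl, hl, H.smul_left, H.smul_right, hσ] at h1
  have h2 : H.h (Fr.b (neg x)) (Fr.b x) ≠ 0 := by rw [Fr.hb_neg_self]; exact Fr.η_ne x
  have h3 : l (neg x) * l x = 1 := by
    apply mul_right_cancel₀ h2
    rw [one_mul, mul_assoc]; exact h1
  exact eq_inv_of_mul_eq_one_left h3

/-- the heights -/
def hC (n k : ℕ) (x : Fin n × Bool) : ℤ := (if x.2 then 1 else -1) * (2 * (n - x.1.val) - 2 + k)

theorem hC_neg (k : ℕ) (x : Fin n × Bool) : hC n k (neg x) = -hC n k x := by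
  unfold hC neg
  cases x.2 <;> simp

/-- the height as a linear function -/
def hl (c : Fin n → ℤ) (u : Fin n → ℤ) : ℤ := ∑ i, c i * u i

theorem hl_wt (c : Fin n → ℤ) (x : Fin n × Bool) : hl c (TypeC.wt x) = (if x.2 then 1 else -1) * c x.1 := by
  unfold hl
  rw [Finset.sum_eq_single x.1]
  · rw [wt_apply, if_pos rfl, mul_comm]
  · intro j _ hj
    rw [wt_apply, if_neg hj, mul_zero]
  · intro h; exact absurd (Finset.mem_univ _) h

theorem hl_add (c u v : Fin n → ℤ) : hl c (u + v) = hl c u + hl c v := by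
  unfold hl
  rw [← Finset.sum_add_distrib]
  exact Finset.sum_congr rfl fun i _ => by rw [Pi.add_apply]; ring

theorem hl_sum (c x : Fin n → ℤ) (f : Fin n → Fin n → ℤ) : hl c (∑ j, x j • f j) = ∑ j, x j * hl c (f j) := by
  unfold hl
  have h1 : ∀ i, c i * (∑ j, x j • f j) i = ∑ j, x j * (c i * f j i) := by
    intro i
    rw [Finset.sum_apply, Finset.mul_sum]
    exact Finset.sum_congr rfl fun j _ => by rw [Pi.smul_apply, smul_eq_mul]; ring
  rw [Finset.sum_congr rfl fun i _ => h1 i, Finset.sum_comm]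
  exact Finset.sum_congr rfl fun j _ => by rw [Finset.mul_sum]

/-- positivity of the height -/
theorem hl_pos (c : Fin n → ℤ) (f : Fin n → Fin n → ℤ) (hf : ∀ j, 2 ≤ hl c (f j)) {x : Fin n → ℤ} (hx : 0 ≤ x)
    (hx0 : x ≠ 0) : 2 ≤ hl c (∑ j, x j • f j) := by
  rw [hl_sum]
  obtain ⟨j, hj⟩ : ∃ j, x j ≠ 0 := by
    by_contra h
    push Not at h
    exact hx0 (funext h)
  have h1 : (1 : ℤ) ≤ x j := by
    have h4 : 0 ≤ x j := hx j
    omega
  have h3 : ∀ i ∈ Finset.univ, 0 ≤ x i * hl c (f i) := fun i _ => mul_nonneg (hx i) (by linarith [hf i])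
  calc (2 : ℤ) ≤ x j * hl c (f j) := by nlinarith [hf j]
    _ ≤ _ := Finset.single_le_sum h3 (Finset.mem_univ j)

theorem nx_of_lt {i : Fin n} (hi : (i : ℕ) + 1 < n) : nx i = (⟨i + 1, hi⟩, false) := by
  unfold nx; rw [dif_pos hi]

theorem nx_of_not {i : Fin n} (hi : ¬ (i : ℕ) + 1 < n) : nx i = (i, true) := by
  unfold nx; rw [dif_neg hi]

theorem nx_ne {i : Fin n} (hi : (i : ℕ) + 1 < n) : ((i, true) : Fin n × Bool).1 ≠ (nx i).1 := by
  rw [nx_of_lt hi]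
  intro h
  have := congrArg Fin.val h
  simp at this

theorem hC_root {k : ℕ} (hk : 1 ≤ k) {r : Fin n → ℤ} (hr : 0 ≤ r) (hr0 : r ≠ 0) {a b : Fin n × Bool}
    (e : ee (-r) = TypeC.wt a + TypeC.wt b) : hC n k a + hC n k b ≤ -2 := by
  obtain ⟨c, hc⟩ : ∃ c : Fin n → ℤ, c = fun i : Fin n => 2 * ((n : ℤ) - i.val) - 2 + k := ⟨_, rfl⟩
  have h0 : ∀ x, hl c (TypeC.wt x) = hC n k x := by
    intro x
    rw [hl_wt, hc]
    rfl
  have hf : ∀ j, 2 ≤ hl c (bt j) := by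
    intro j
    show 2 ≤ hl c (TypeC.wt (j, true) + TypeC.wt (nx j))
    rw [hl_add, h0, h0]
    have hj := j.2
    by_cases h1 : (j : ℕ) + 1 < n
    · rw [nx_of_lt h1]
      unfold hC
      simp only [if_true, Bool.false_eq_true, if_false]
      push_cast
      linarith
    · rw [nx_of_not h1]
      unfold hC
      simp only [if_true]
      have h2 : (n : ℤ) = j.val + 1 := by omega
      have h3 : (1 : ℤ) ≤ k := by exact_mod_cast hk
      rw [h2]
      linarith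
  have h1 := hl_pos c bt hf hr hr0
  have h2 : hl c (ee (-r)) = -hl c (ee r) := by
    have h3 : ee (-r) + ee r = 0 := by rw [← ee_add, neg_add_cancel]; simp [ee]
    have h4 := hl_add c (ee (-r)) (ee r)
    rw [h3] at h4
    have h5 : hl c 0 = 0 := by simp [hl]
    linarith
  rw [e, hl_add, h0, h0] at h2
  have h3 : hl c (ee r) = hl c (∑ j, r j • bt j) := rfl
  linarith

/-- The data at the last node. -/
structure Lst (G0 : Subgroup (V ≃ₗ[F] V)) (P P' : F → Fr.Adm) (k k' : ℕ) (w : V) (κ : F) : Prop where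
  hk : 1 ≤ k ∧ k ≤ 2
  hk' : 1 ≤ k' ∧ k' ≤ 2 ∧ k * k' = 2
  add : ∀ s t, P (s + t) = P s * P t
  add' : ∀ s t, P' (s + t) = P' s * P' t
  surj : ∀ q, ∃ s, P s = q
  surj' : ∀ q, ∃ s, P' s = q
  inj : ∀ (i : Fin n) s, Fr.Z (i, true) (P s) = 1 → s = 0
  inj' : ∀ (i : Fin n) s, Fr.Z (i, false) (P' s) = 1 → s = 0
  rank1 : ∀ (i : Fin n) (a b : F) (c : Fˣ), (c : F) = 1 + b * a → Fr.Z (i, true) (P b) * Fr.Z (i, false) (P' a) =
    Fr.Z (i, false) (P' (a / c)) * td Fr (ch1 (i, true) (c ^ k)) * Fr.Z (i, true) (P (b / c))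
  act : ∀ i : Fin n, ∀ t ∈ Tor Fr G0, ∃ c : F, c ≠ 0 ∧ (∀ s, t * Fr.Z (i, true) (P s) * t⁻¹ = Fr.Z (i, true) (P (c * s))) ∧
    ∀ s, t * Fr.Z (i, false) (P' s) * t⁻¹ = Fr.Z (i, false) (P' (c⁻¹ * s))
  actd : ∀ (i : Fin n) (l : Fin n → Fˣ) s, td Fr l ∈ G0 → td Fr l * Fr.Z (i, true) (P s) * (td Fr l)⁻¹ =
    Fr.Z (i, true) (P ((l i : F) ^ k' * s))
  last : ∀ (i : Fin n) (c : Fˣ), td Fr (ch1 (i, true) (c ^ k)) ∈ G0
  hw : k = 2 ∨ ∀ q : Fr.Adm, q.w = 0
  coX : ∀ (i : Fin n) (x y : Fin n × Bool) (t : F), x.1 ≠ y.1 → ¬ (i : ℕ) + 1 < n → co (H := H) (Fr.b (i, true)) w (Fr.X x y t) = 0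
  coZ : ∀ (i : Fin n) (x : Fin n × Bool) (q : Fr.Adm), x ≠ (i, false) → ¬ (i : ℕ) + 1 < n →
    co (H := H) (Fr.b (i, true)) w (Fr.Z x q) = 0
  coS : ∀ (i : Fin n) s, ¬ (i : ℕ) + 1 < n → κ * co (H := H) (Fr.b (i, true)) w (Fr.Z (i, false) (P' s)) = s
  coL : ∀ (i : Fin n), ¬ (i : ℕ) + 1 < n → ∀ v' ∈ LE Fr (hC n k) (hC n k (i, true) - 4), H.h v' w = 0
  pvX : ∀ (i j : Fin n), ¬ (j : ℕ) + 1 < n → (i : ℕ) + 1 = j → PV 1 fun s => Fr.X (i, true) (nx i) s w
  pvX0 : ∀ (i j : Fin n), ¬ (j : ℕ) + 1 < n → (i : ℕ) + 1 < j → PV 0 fun s => Fr.X (i, true) (nx i) s w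
  pvZ : ∀ i : Fin n, PV 2 fun s => Fr.Z (i, true) (P s) (Fr.b (i, false))

open Classical in
/-- positive root elements -/
noncomputable def xC (P : F → Fr.Adm) (i : Fin n) (s : F) : V ≃ₗ[F] V :=
  if (i : ℕ) + 1 < n then Fr.X (i, true) (nx i) s else Fr.Z (i, true) (P s)

open Classical in
/-- negative root elements -/
noncomputable def yC (P' : F → Fr.Adm) (i : Fin n) (s : F) : V ≃ₗ[F] V :=
  if (i : ℕ) + 1 < n then Fr.X (neg (nx i)) (neg (i, true)) s else Fr.Z (i, false) (P' s)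

/-- the coroots -/
def crC (k : ℕ) (i : Fin n) (c : Fˣ) : Fin n → Fˣ :=
  if (i : ℕ) + 1 < n then cr (i, true) (nx i) c else ch1 (i, true) (c ^ k)

open Classical in
/-- coroot elements -/
noncomputable def hhC (k : ℕ) (i : Fin n) (c : F) : V ≃ₗ[F] V :=
  if hc : c ≠ 0 then td Fr (crC k i (Units.mk0 c hc)) else 1

theorem hhC_eq (k : ℕ) (i : Fin n) {c : F} (hc : c ≠ 0) : hhC Fr k i c = td Fr (crC k i (Units.mk0 c hc)) := dif_pos hc

/-- degree bounds -/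
def DC (k j : Fin n) : ℕ := if k.val + 1 = j.val ∨ j.val + 1 = k.val then 2 else 0

theorem hDC (k : Fin n) : ∑ j ∈ Finset.univ.erase k, DC k j ≤ 4 := by
  classical
  have h1 : ∑ j ∈ Finset.univ.erase k, DC k j =
      ∑ j ∈ (Finset.univ.erase k).filter fun j => k.val + 1 = j.val ∨ j.val + 1 = k.val, 2 := by
    rw [Finset.sum_filter]
    rfl
  rw [h1, Finset.sum_const, smul_eq_mul]
  have h2 : ((Finset.univ.erase k).filter fun j : Fin n => k.val + 1 = j.val ∨ j.val + 1 = k.val).card ≤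
      ({k.val + 1, k.val - 1} : Finset ℕ).card := by
    apply Finset.card_le_card_of_injOn (fun j : Fin n => j.val)
    · intro j hj
      have hj' := (Finset.mem_filter.1 (Finset.mem_coe.1 hj)).2
      simp only [Finset.coe_insert, Finset.coe_singleton, Set.mem_insert_iff, Set.mem_singleton_iff]
      omega
    · intro a _ b _ hab
      exact Fin.ext hab
  have h3 := h2.trans Finset.card_le_two
  omega

theorem ev_crC (k : ℕ) {i : Fin n} (hi : (i : ℕ) + 1 < n) (c : Fˣ) (z : Fin n × Bool) :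
    ev (crC k i c) z = (if z = (i, true) then c else if z = (i, false) then c⁻¹ else 1) *
      (if z = (⟨i + 1, hi⟩, false) then c else if z = (⟨i + 1, hi⟩, true) then c⁻¹ else 1) := by
  unfold crC
  rw [if_pos hi, ev_cr, nx_of_lt hi]
  rfl

theorem ev_crC' (k : ℕ) {i : Fin n} (hi : ¬ (i : ℕ) + 1 < n) (c : Fˣ) (z : Fin n × Bool) :
    ev (crC k i c) z = (if z = (i, true) then c ^ k else if z = (i, false) then (c ^ k)⁻¹ else 1) := by
  unfold crC
  rw [if_neg hi, ev_ch1]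
  rfl

section

variable {G0 : Subgroup (V ≃ₗ[F] V)} {P P' : F → Fr.Adm} {k k' : ℕ} {w : V} {κ : F}
  (L : Lst Fr G0 P P' k k' w κ) (hV0 : ∀ v, (∀ x, H.h v (Fr.b x) = 0) → v ∈ Fr.V0) (hσ : ∀ x, H.σ x = x)
  (hX : ∀ a b t, Fr.X a b t ∈ G0) (hiso : ∀ g ∈ G0, H.IsIso g)

include L

theorem parXC : Par (WittRoot.rg Fr) (xC Fr P) := by
  refine ⟨fun i u => ?_, fun i s t => ?_, fun i s h1 => ?_⟩
  · rw [rg_sr]
    unfold xC
    by_cases hi : (i : ℕ) + 1 < n
    · rw [PG_ne Fr (nx_ne hi), mem_XG]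
      simp only [hi, if_true, eq_comm]
    · simp only [hi, if_false]
      rw [nx_of_not hi, PG_self, mem_ZG]
      constructor
      · rintro ⟨q, rfl⟩
        obtain ⟨s, rfl⟩ := L.surj q
        exact ⟨s, rfl⟩
      · rintro ⟨s, rfl⟩
        exact ⟨_, rfl⟩
  · unfold xC
    split_ifs
    · exact Fr.X_add _ _ _ _
    · rw [L.add, Fr.Z_mul]
  · unfold xC at h1
    split_ifs at h1 with hi
    · exact X_inj Fr (nx_ne hi) (h1.trans (Fr.X_zero _ _).symm)
    · exact L.inj i s h1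

theorem parYC : Par (fun r => WittRoot.rg Fr (-r)) (yC Fr P') := by
  refine ⟨fun i u => ?_, fun i s t => ?_, fun i s h1 => ?_⟩
  · show u ∈ WittRoot.rg Fr (-sr i) ↔ _
    rw [rg_neg_sr]
    unfold yC
    by_cases hi : (i : ℕ) + 1 < n
    · rw [PG_ne Fr (a := ng (i, true)) (b := ng (nx i)) (nx_ne hi),
        XG_swap Fr (a := ng (i, true)) (b := ng (nx i)) (nx_ne hi), mem_XG]
      simp only [hi, if_true, eq_comm]
      rfl
    · simp only [hi, if_false]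
      rw [nx_of_not hi, PG_self, mem_ZG]
      constructor
      · rintro ⟨q, rfl⟩
        obtain ⟨s, rfl⟩ := L.surj' q
        exact ⟨s, rfl⟩
      · rintro ⟨s, rfl⟩
        exact ⟨_, rfl⟩
  · unfold yC
    split_ifs
    · exact Fr.X_add _ _ _ _
    · rw [L.add', Fr.Z_mul]
  · unfold yC at h1
    split_ifs at h1 with hi
    · exact X_inj Fr (x := neg (nx i)) (y := neg (i, true)) (nx_ne hi).symm (h1.trans (Fr.X_zero _ _).symm)
    · exact L.inj' i s h1

omit L in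
include hV0 hσ hX in
theorem td_cr_mem {x y : Fin n × Bool} (hxy : x.1 ≠ y.1) (c : Fˣ) : td Fr (cr x y c) ∈ G0 := by
  rw [← nX_mul_nX Fr hV0 hσ hxy c]
  exact mul_mem (mul_mem (mul_mem (hX _ _ _) (hX _ _ _)) (hX _ _ _))
    (mul_mem (mul_mem (hX _ _ _) (hX _ _ _)) (hX _ _ _))

include hV0 hσ hX in
theorem td_crC_mem (i : Fin n) (c : Fˣ) : td Fr (crC k i c) ∈ Tor Fr G0 := by
  refine ⟨?_, mono_td Fr _⟩
  unfold crC
  split_ifs with hi
  · exact td_cr_mem Fr hV0 hσ hX (nx_ne hi) c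
  · exact L.last i c

omit L in
include hiso hσ in
theorem td_conj_X {l : Fin n → Fˣ} (hl : td Fr l ∈ G0) {x y : Fin n × Bool} (hxy : x.1 ≠ y.1) (t : F) :
    td Fr l * Fr.X x y t * (td Fr l)⁻¹ = Fr.X x y ((ev l x : F) * (ev l y : F) * t) :=
  conj_X_td Fr hσ (hiso _ hl) hxy (td_b Fr l x) (td_b Fr l y) t

/-- the coefficient functions -/
noncomputable def coC (w : V) (κ : F) (j : Fin n) (u : V ≃ₗ[F] V) : F :=
  if (j : ℕ) + 1 < n then (Fr.η (nx j))⁻¹ * co (H := H) (Fr.b (j, true)) (Fr.b (nx j)) u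
  else κ * co (H := H) (Fr.b (j, true)) w u

end

end Wf

end Cfsg.Agent.H155.TG
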