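import Cfsg.Agent.H155.TG.WFdC

/-!
# Field coordinates of the classical groups of type `C_n`, continued (helper155)
-/

set_option autoImplicit false
set_option linter.unusedSectionVars false
set_option linter.unusedSimpArgs false
set_option linter.unnecessarySeqFocus false

namespace Cfsg.Agent.H155.TG.Wf

open CoxeterSystem Cfsg.Agent.ChevalleyStructure.CoxeterGeom Cfsg.Agent.Tits.Roots
open Cfsg.Agent.Nodes.BNOf Cfsg.Agent.KFacts.RgdOpp
open Cfsg.Agent.TitsThree Cfsg.Agent.TitsThree.Siegel Cfsg.Agent.TitsThree.WittFrame Cfsg.Agent.TitsThree.WittWeyl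
open Cfsg.Agent.Nodes Cfsg.Agent.Nodes.WittRoot Cfsg.Agent.Nodes.TypeC Cfsg.Agent.Nodes.WittAll
open Cfsg.Agent.Nodes.WittRGD (Tor mem_Tor rg_sr rg_neg_sr b_ne_zero not_prop)

variable {F : Type*} [Field F] {V : Type*} [AddCommGroup V] [Module F V] {H : HForm F V} {n : ℕ}
  (Fr : Frame H (Fin n))
variable {W : Type*} [Group W] (cs : CoxeterSystem (CoxeterMatrix.B n) W)

variable {G0 : Subgroup (V ≃ₗ[F] V)} {P P' : F → Fr.Adm} {k k' : ℕ} {w : V} {κ : F}
  (L : Lst Fr G0 P P' k k' w κ) (hV0 : ∀ v, (∀ x, H.h v (Fr.b x) = 0) → v ∈ Fr.V0) (hσ : ∀ x, H.σ x = x)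
  (hX : ∀ a b t, Fr.X a b t ∈ G0) (hZ : ∀ a p, Fr.Z a p ∈ G0) (hiso : ∀ g ∈ G0, H.IsIso g)

include L

theorem NG_of_mem {r : Fin n → ℤ} (hr : IsRoot cs (isCartan n) r) (h0 : 0 ≤ r) {u : V ≃ₗ[F] V}
    (hu : u ∈ WittRoot.rg Fr (-r)) : u ∈ NG Fr (hC n k) := by
  obtain ⟨a, b, hab, e⟩ := TypeC.exists_of_isRoot cs hr.neg
  have h1 := hC_root L.hk.1 h0 (by rintro rfl; exact hr.ne_zero rfl) e
  rw [rg_eq Fr hab e] at hu
  rcases hab with h | rfl
  · rw [PG_ne Fr h] at hu
    obtain ⟨t, rfl⟩ := hu
    exact NG.X Fr _ (hC_neg k) h h1 t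
  · rw [PG_self] at hu
    obtain ⟨q, rfl⟩ := hu
    refine NG.Z Fr _ (hC_neg k) ?_ (by omega)
    rcases L.hw with h2 | h2
    · right
      subst h2
      obtain ⟨i, s⟩ := a
      unfold hC at h1 ⊢
      cases s
      · simp only [Bool.false_eq_true, if_false] at h1 ⊢
        push_cast at h1 ⊢
        omega
      · simp only [if_true] at h1 ⊢
        push_cast at h1 ⊢
        omega
    · exact Or.inl (h2 q)

theorem NG_of_UU {u : V ≃ₗ[F] V} (hu : u ∈ UU cs (isCartan n) (fun r => WittRoot.rg Fr (-r))) :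
    u ∈ NG Fr (hC n k) := by
  refine Subgroup.iSup_induction (fun z : RGD.Pos cs (isCartan n) => WittRoot.rg Fr (-z.1))
    (C := fun u => u ∈ NG Fr (hC n k)) hu ?_ ?_ ?_
  · rintro ⟨r, hr, h0⟩ u hu
    exact NG_of_mem Fr cs L hr h0 hu
  · exact NG.one Fr _
  · intro u v hu hv
    exact NG.mul Fr _ hu hv

theorem coC_mul (j : Fin n) {u v : V ≃ₗ[F] V} (hu : u ∈ UU cs (isCartan n) (fun r => WittRoot.rg Fr (-r)))
    (hv : v ∈ UU cs (isCartan n) (fun r => WittRoot.rg Fr (-r))) :
    coC Fr w κ j (u * v) = coC Fr w κ j u + coC Fr w κ j v := by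
  have hu' := NG_of_UU Fr cs L hu
  have hv' := NG_of_UU Fr cs L hv
  unfold coC
  split_ifs with hj
  · rw [co_mul Fr (hC n k) (LE.b Fr (hC n k) le_rfl) ?_ hu' hv', mul_add]
    intro v' hv'
    refine LE.h_b Fr (hC n k) ?_ (hC_neg k) hv'
    rw [nx_of_lt hj]
    unfold hC
    simp only [if_true, Bool.false_eq_true, if_false]
    push_cast
    linarith
  · rw [co_mul Fr (hC n k) (LE.b Fr (hC n k) le_rfl) (L.coL j hj) hu' hv', mul_add]

omit L in
theorem neg_eq_iff {ι : Type*} {x y : ι × Bool} : x = neg y ↔ neg x = y := by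
  constructor
  · rintro rfl; exact WittFrame.neg_neg y
  · rintro rfl; exact (WittFrame.neg_neg x).symm

theorem coC_zero (j : Fin n) {r : Fin n → ℤ} (hr : r ∈ RGD.PosNe cs (isCartan n) j) {u : V ≃ₗ[F] V}
    (hu : u ∈ WittRoot.rg Fr (-r)) : coC Fr w κ j u = 0 := by
  obtain ⟨hr1, hr0, hrj⟩ := hr
  obtain ⟨a, b, hab, e⟩ := TypeC.exists_of_isRoot cs hr1.neg
  rw [rg_eq Fr hab e] at hu
  have hne : ∀ a b : Fin n × Bool, ee (-r) = TypeC.wt a + TypeC.wt b → ¬ (a = neg (j, true) ∧ b = neg (nx j)) := by
    rintro a b e ⟨rfl, rfl⟩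
    apply hrj
    have h1 : ee (-r) = ee (-sr j) := by
      rw [e, WittRGD.ee_neg_sr]
      rfl
    exact neg_injective (ee_injective h1)
  unfold coC
  split_ifs with hj
  · have hjj : ((j, true) : Fin n × Bool) ≠ nx j := ne_of_fst (nx_ne hj)
    suffices h : co (H := H) (Fr.b (j, true)) (Fr.b (nx j)) u = 0 by rw [h, mul_zero]
    unfold co
    rcases hab with h | rfl
    · rw [PG_ne Fr h] at hu
      obtain ⟨t, rfl⟩ := hu
      by_cases h1 : (j, true) = neg a
      · have h2 := X_apply_neg' Fr h t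
        rw [h1, h2, H.sub_left, sub_sub_cancel_left, H.smul_left]
        have h3 : H.h (Fr.b b) (Fr.b (nx j)) = 0 := by
          apply Fr.hb_ne
          intro h4
          exact hne a b e ⟨(neg_eq_iff.1 h1.symm.symm).symm, neg_eq_iff.2 h4.symm⟩
        rw [h3, mul_zero, neg_zero]
      · by_cases h1' : (j, true) = neg b
        · have h2 := X_apply_neg Fr h t
          rw [h1', h2, H.add_left, add_sub_cancel_left, H.smul_left]
          have h3 : H.h (Fr.b a) (Fr.b (nx j)) = 0 := by
            apply Fr.hb_ne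
            intro h4
            exact hne b a (by rw [e]; exact add_comm _ _) ⟨(neg_eq_iff.1 h1').symm, neg_eq_iff.2 h4.symm⟩
          rw [h3, mul_zero]
        · rw [X_apply_of_ne Fr h h1 h1', sub_self]
    · rw [PG_self] at hu
      obtain ⟨q, rfl⟩ := hu
      by_cases h1 : (j, true) = neg a
      · have h2 := Z_apply_neg Fr a q
        rw [h1, h2, H.add_left, H.add_left, H.smul_left, H.smul_left, Fr.h0' _ (Fr.ok_mem q.ok)]
        have h3 : H.h (Fr.b a) (Fr.b (nx j)) = 0 := by
          apply Fr.hb_ne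
          rw [← h1]
          exact hjj.symm
        rw [h3]
        ring
      · rw [Z_apply_of_ne Fr h1, sub_self]
  · rcases hab with h | rfl
    · rw [PG_ne Fr h] at hu
      obtain ⟨t, rfl⟩ := hu
      rw [L.coX j a b t h hj, mul_zero]
    · rw [PG_self] at hu
      obtain ⟨q, rfl⟩ := hu
      rw [L.coZ j a q ?_ hj, mul_zero]
      intro h1
      exact hne a a e ⟨h1, by rw [nx_of_not hj]; exact h1⟩

theorem coC_self (j : Fin n) (s : F) : coC Fr w κ j (yC Fr P' j s) = s := by
  unfold coC yC
  by_cases hj : (j : ℕ) + 1 < n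
  · rw [if_pos hj, if_pos hj]
    have h1 := X_apply_neg Fr (x := neg (nx j)) (y := neg (j, true)) (nx_ne hj).symm s
    rw [WittFrame.neg_neg] at h1
    unfold co
    rw [h1, H.add_left, add_sub_cancel_left, H.smul_left, Fr.hb_neg_self]
    have := Fr.η_ne (nx j)
    field_simp
  · rw [if_neg hj, if_neg hj]
    exact L.coS j s hj

include hX hZ hiso in
theorem coC_conj (i j : Fin n) (s : F) (v : V ≃ₗ[F] V) :
    coC Fr w κ j (xC Fr P i (-s) * v * xC Fr P i s) =
      (if (j : ℕ) + 1 < n then (Fr.η (nx j))⁻¹ else κ) *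
        (H.h (v (xC Fr P i s (Fr.b (j, true)))) (xC Fr P i s (if (j : ℕ) + 1 < n then Fr.b (nx j) else w)) -
          H.h (Fr.b (j, true)) (if (j : ℕ) + 1 < n then Fr.b (nx j) else w)) := by
  have hmem : xC Fr P i s ∈ G0 := by
    unfold xC
    split_ifs
    · exact hX _ _ _
    · exact hZ _ _
  have hneg : xC Fr P i (-s) = (xC Fr P i s)⁻¹ := (parXC Fr L).neg i s
  have key : ∀ v' w' : V, co (H := H) v' w' (xC Fr P i (-s) * v * xC Fr P i s) =
      H.h (v (xC Fr P i s v')) (xC Fr P i s w') - H.h v' w' := by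
    intro v' w'
    unfold co
    rw [hneg]
    congr 1
    rw [← hiso _ hmem]
    congr 1
    show (xC Fr P i s * (((xC Fr P i s)⁻¹) * v * xC Fr P i s)) v' = _
    rw [mul_assoc, mul_inv_cancel_left]
    rfl
  unfold coC
  split_ifs
  · rw [key]
  · rw [key]

include hσ in
/-- the degrees -/
theorem pvC (i j : Fin n) (hij : j ≠ i) : ∃ d e, d + e ≤ DC i j ∧ PV d (fun s => xC Fr P i s (Fr.b (j, true))) ∧
    PV e (fun s => xC Fr P i s (if (j : ℕ) + 1 < n then Fr.b (nx j) else w)) := by
  have hij' : (j : ℕ) ≠ i := fun h => hij (Fin.ext h)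
  have hi2 := i.2
  have hj2 := j.2
  by_cases hi : (i : ℕ) + 1 < n
  · have e1 : ∀ s, xC Fr P i s = Fr.X (i, true) (nx i) s := fun s => by unfold xC; rw [if_pos hi]
    simp only [e1]
    by_cases h1 : (i : ℕ) + 1 = j
    · refine ⟨1, 1, ?_, ?_, ?_⟩
      · unfold DC
        rw [if_pos (Or.inl h1)]
      · have e2 : Fr.b (j, true) = Fr.b (neg (nx i)) := by
          rw [nx_of_lt hi]
          congr 1
          unfold neg
          simp only [Bool.not_false, Prod.mk.injEq, and_true]
          exact Fin.ext h1.symm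
        rw [e2]
        have e3 : ∀ s, Fr.X (i, true) (nx i) s (Fr.b (neg (nx i))) = Fr.b (neg (nx i)) + s • Fr.b (i, true) :=
          fun s => X_apply_neg Fr (nx_ne hi) s
        simp only [e3]
        exact PV.lin _ _
      · by_cases hj : (j : ℕ) + 1 < n
        · rw [if_pos hj]
          have e3 : ∀ s, Fr.X (i, true) (nx i) s (Fr.b (nx j)) = Fr.b (nx j) + s • 0 := by
            intro s
            rw [smul_zero, add_zero]
            refine X_apply_of_ne Fr (nx_ne hi) ?_ ?_ s
            · rw [nx_of_lt hj]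
              unfold neg
              intro h
              have := congrArg (fun z : Fin n × Bool => (z.1 : ℕ)) h
              simp at this
              omega
            · rw [nx_of_lt hj, nx_of_lt hi]
              unfold neg
              intro h
              have := congrArg Prod.snd h
              simp at this
          simp only [e3]
          exact PV.lin _ _
        · rw [if_neg hj]
          exact L.pvX i j hj h1
    · have hf : ∀ s, Fr.X (i, true) (nx i) s (Fr.b (j, true)) = Fr.b (j, true) := by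
        intro s
        refine X_apply_of_ne Fr (nx_ne hi) ?_ ?_ s
        · unfold neg
          intro h
          have := congrArg Prod.snd h
          simp at this
        · rw [nx_of_lt hi]
          unfold neg
          intro h
          have := congrArg (fun z : Fin n × Bool => (z.1 : ℕ)) h
          simp at this
          omega
      simp only [hf]
      by_cases hj : (j : ℕ) + 1 < n
      · rw [if_pos hj]
        by_cases h2 : (j : ℕ) + 1 = i
        · refine ⟨0, 1, ?_, PV.const _, ?_⟩
          · unfold DC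
            rw [if_pos (Or.inr h2)]
            norm_num
          · have e2 : Fr.b (nx j) = Fr.b (neg (i, true)) := by
              rw [nx_of_lt hj]
              congr 1
              unfold neg
              simp only [Bool.not_true, Prod.mk.injEq, and_true]
              exact Fin.ext h2
            rw [e2]
            have e3 : ∀ s, Fr.X (i, true) (nx i) s (Fr.b (neg (i, true))) = Fr.b (neg (i, true)) +
                s • (-(H.ε⁻¹ * Fr.η (i, true) * Fr.η (nx i)) • Fr.b (nx i)) := by
              intro s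
              rw [X_apply_neg' Fr (nx_ne hi) s, hσ]
              module
            simp only [e3]
            exact PV.lin _ _
        · refine ⟨0, 0, Nat.zero_le _, PV.const _, ?_⟩
          have e3 : ∀ s, Fr.X (i, true) (nx i) s (Fr.b (nx j)) = Fr.b (nx j) := by
            intro s
            refine X_apply_of_ne Fr (nx_ne hi) ?_ ?_ s
            · rw [nx_of_lt hj]
              unfold neg
              intro h
              have := congrArg (fun z : Fin n × Bool => (z.1 : ℕ)) h
              simp at this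
              omega
            · rw [nx_of_lt hj, nx_of_lt hi]
              unfold neg
              intro h
              have := congrArg Prod.snd h
              simp at this
          simp only [e3]
          exact PV.const _
      · rw [if_neg hj]
        exact ⟨0, 0, Nat.zero_le _, PV.const _, L.pvX0 i j hj (by omega)⟩
  · have hj : (j : ℕ) + 1 < n := by omega
    have e1 : ∀ s, xC Fr P i s = Fr.Z (i, true) (P s) := fun s => by unfold xC; rw [if_neg hi]
    simp only [e1]
    rw [if_pos hj]
    have hf : ∀ s, Fr.Z (i, true) (P s) (Fr.b (j, true)) = Fr.b (j, true) := by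
      intro s
      refine Z_apply_of_ne Fr ?_ _
      unfold neg
      intro h
      have := congrArg Prod.snd h
      simp at this
    simp only [hf]
    by_cases h2 : (j : ℕ) + 1 = i
    · refine ⟨0, 2, ?_, PV.const _, ?_⟩
      · unfold DC
        rw [if_pos (Or.inr h2)]
      · have e2 : Fr.b (nx j) = Fr.b (i, false) := by
          rw [nx_of_lt hj]
          congr 1
          simp only [Prod.mk.injEq, and_true]
          exact Fin.ext h2
        rw [e2]
        exact L.pvZ i
    · refine ⟨0, 0, Nat.zero_le _, PV.const _, ?_⟩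
      have e3 : ∀ s, Fr.Z (i, true) (P s) (Fr.b (nx j)) = Fr.b (nx j) := by
        intro s
        refine Z_apply_of_ne Fr ?_ _
        rw [nx_of_lt hj]
        unfold neg
        intro h
        have := congrArg (fun z : Fin n × Bool => (z.1 : ℕ)) h
        simp at this
        omega
      simp only [e3]
      exact PV.const _

omit L in
theorem adj_of_ne_two {i j : Fin n} (hij : i ≠ j) (hM : CoxeterMatrix.B n i j ≠ 2) :
    (i : ℕ) + 1 = j ∨ (j : ℕ) + 1 = i := by
  by_contra h
  push Not at h
  obtain ⟨h1, h2⟩ := h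
  have h3 : A n i j = 0 := by
    rw [TypeC.A_apply, if_neg hij, if_neg h1, if_neg h2]
  rcases (isCartan n).rel i j hij with ⟨h4, -⟩ | ⟨-, h4, -⟩ | ⟨-, ⟨h4, -⟩ | ⟨h4, -⟩⟩ | ⟨-, ⟨h4, -⟩ | ⟨h4, -⟩⟩
  · exact hM h4
  all_goals rw [h3] at h4; norm_num at h4

omit L in
theorem connC (S : Set (Fin n)) (hS : S.Nonempty) (hS' : S ≠ Set.univ) :
    ∃ a ∈ S, ∃ b, b ∉ S ∧ CoxeterMatrix.B n a b ≠ 2 := by
  obtain ⟨a₀, ha₀⟩ := hS
  by_contra hc
  push Not at hc
  have hB : ∀ i j : Fin n, i.val + 1 = j.val → CoxeterMatrix.B n i j ≠ 2 := by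
    intro i j hij h2
    have hne : i ≠ j := by rintro rfl; omega
    have h3 : A n j i = -1 := by
      rw [TypeC.A_apply, if_neg hne.symm, if_neg (by omega), if_pos hij]
    rcases (isCartan n).rel i j hne with ⟨-, -, h4⟩ | ⟨h4, -⟩ | ⟨h4, -⟩ | ⟨h4, -⟩
    · rw [h3] at h4; norm_num at h4
    all_goals rw [h2] at h4; norm_num at h4
  have key : ∀ i j : Fin n, i.val + 1 = j.val → (i ∈ S ↔ j ∈ S) := by
    intro i j hij
    have h2 := hB i j hij
    have h3 : CoxeterMatrix.B n j i ≠ 2 := by
      rw [(CoxeterMatrix.B n).symmetric]; exact h2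
    constructor
    · intro h4
      by_contra h5
      exact h2 (hc i h4 j h5)
    · intro h4
      by_contra h5
      exact h3 (hc j h4 i h5)
  have key2 : ∀ (m : ℕ) (i : Fin n), i.val = m → (i ∈ S ↔ (⟨0, by have := i.2; omega⟩ : Fin n) ∈ S) := by
    intro m
    induction m with
    | zero =>
      intro i hi
      have : i = ⟨0, by have := i.2; omega⟩ := Fin.ext hi
      rw [← this]
    | succ m ih =>
      intro i hi
      have hm : m < n := by have := i.2; omega
      rw [← key ⟨m, hm⟩ i hi.symm, ih ⟨m, hm⟩ rfl]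
  apply hS'
  rw [Set.eq_univ_iff_forall]
  intro b
  rw [key2 b.val b rfl, ← key2 a₀.val a₀ rfl]
  exact ha₀

include hV0 hσ hX hZ hiso in
/-- **Field coordinates of type `C_n`.** -/
theorem fdC {p : ℕ} [Finite W] {nn : Fin n → V ≃ₗ[F] V}
    (R : RGD cs (isCartan n) p (Tor Fr G0) nn (WittRoot.rg Fr)) :
    FD cs (isCartan n) (Tor Fr G0) (WittRoot.rg Fr) (xC Fr P) (yC Fr P') (hhC Fr k) (chx (xC Fr P) (yC Fr P')) DC := by
  have px := parXC Fr L
  have py := parYC Fr L
  refine FD.mk' px py ?_ ?_ ?_ ?_ ?_ ?_ ?_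
  · -- rank 1
    intro i a b hab
    rw [hhC_eq Fr k i hab]
    unfold xC yC crC
    split_ifs with hi
    · exact rank1_X Fr hV0 hσ (nx_ne hi) a b (Units.mk0 _ hab) rfl
    · exact L.rank1 i a b (Units.mk0 _ hab) rfl
  · intro i c hc
    rw [hhC_eq Fr k i hc]
    exact td_crC_mem Fr L hV0 hσ hX i _
  · intro i c d hc hd
    rw [hhC_eq Fr k i hc, hhC_eq Fr k i hd, hhC_eq Fr k i (mul_ne_zero hc hd), ← td_mul]
    congr 1
    have e : Units.mk0 (c * d) (mul_ne_zero hc hd) = Units.mk0 c hc * Units.mk0 d hd := Units.ext rfl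
    unfold crC
    split_ifs
    · rw [e, cr_mul]
    · rw [e, mul_pow, ch1_mul]
  · -- the characters
    intro i t ht
    unfold xC yC
    by_cases hi : (i : ℕ) + 1 < n
    · simp only [hi, if_true]
      obtain ⟨l, hl0, hl, hln⟩ := tor_eig Fr hiso hσ ht
      refine ⟨l (i, true) * l (nx i), mul_ne_zero (hl0 _) (hl0 _), fun s => ?_, fun s => ?_⟩
      · exact conj_X_td Fr hσ (hiso t ht.1) (nx_ne hi) (hl _) (hl _) s
      · rw [conj_X_td Fr hσ (hiso t ht.1) (x := neg (nx i)) (y := neg (i, true)) (nx_ne hi).symm (hl _) (hl _) s,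
          hln, hln]
        congr 1
        rw [mul_inv]
        ring
    · simp only [hi, if_false]
      exact L.act i t ht
  · intro i c hc
    have hT := (td_crC_mem Fr L hV0 hσ hX i (Units.mk0 c hc)).1
    rw [hhC_eq Fr k i hc]
    unfold xC
    split_ifs with hi
    · rw [td_conj_X Fr hσ hiso hT (nx_ne hi), ev_crC k hi, ev_crC k hi, nx_of_lt hi]
      congr 1
      rw [if_pos rfl, if_neg (by simp), if_neg (by simp [Fin.ext_iff]), if_neg (by simp [Fin.ext_iff]),
        if_neg (by simp [Fin.ext_iff]), if_pos rfl]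
      simp only [mul_one, one_mul, Units.val_mk0]
      ring
    · rw [L.actd i _ 1 hT]
      congr 1
      have e1 := ev_crC' k hi (Units.mk0 c hc) (i, true)
      rw [if_pos rfl] at e1
      have e2 : crC k i (Units.mk0 c hc) i = (Units.mk0 c hc) ^ k := e1
      rw [e2, mul_one, Units.val_pow_eq_pow_val, Units.val_mk0, ← pow_mul, L.hk'.2.2]
  · intro i j hij hM
    have hij' : (i : ℕ) ≠ j := fun h => hij (Fin.ext h)
    rcases adj_of_ne_two hij hM with h1 | h1
    · have hi : (i : ℕ) + 1 < n := by have := j.2; omega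
      by_cases hj : (j : ℕ) + 1 < n
      · refine ⟨1, le_rfl, by norm_num, fun c hc => ?_⟩
        have hT := (td_crC_mem Fr L hV0 hσ hX i (Units.mk0 c hc)).1
        rw [hhC_eq Fr k i hc]
        unfold xC
        simp only [hj, if_true]
        rw [td_conj_X Fr hσ hiso hT (nx_ne hj), ev_crC k hi, ev_crC k hi, nx_of_lt hj]
        congr 1
        have e1 : ((j, true) : Fin n × Bool) = (⟨i + 1, hi⟩, true) := by
          simp only [Prod.mk.injEq, and_true]; exact Fin.ext h1.symm
        rw [e1, if_neg (by simp [Fin.ext_iff]), if_neg (by simp), if_neg (by simp), if_pos rfl,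
          if_neg (by simp), if_neg (by simp [Fin.ext_iff]; omega), if_neg (by simp [Fin.ext_iff]; omega), if_neg (by simp)]
        simp
      · refine ⟨k', L.hk'.1, by have := L.hk'.2.1; omega, fun c hc => ?_⟩
        have hT := (td_crC_mem Fr L hV0 hσ hX i (Units.mk0 c hc)).1
        rw [hhC_eq Fr k i hc]
        unfold xC
        simp only [hj, if_false]
        rw [L.actd j _ 1 hT]
        congr 1
        have e1 : ((j, true) : Fin n × Bool) = (⟨i + 1, hi⟩, true) := by
          simp only [Prod.mk.injEq, and_true]; exact Fin.ext h1.symm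
        have e3 := ev_crC k hi (Units.mk0 c hc) (j, true)
        rw [e1, if_neg (by simp [Fin.ext_iff]), if_neg (by simp), if_neg (by simp), if_pos rfl, one_mul, ← e1] at e3
        have e2 : crC k i (Units.mk0 c hc) j = (Units.mk0 c hc)⁻¹ := e3
        rw [e2, mul_one]
        simp
    · have hj : (j : ℕ) + 1 < n := by have := i.2; omega
      by_cases hi : (i : ℕ) + 1 < n
      · refine ⟨1, le_rfl, by norm_num, fun c hc => ?_⟩
        have hT := (td_crC_mem Fr L hV0 hσ hX i (Units.mk0 c hc)).1
        rw [hhC_eq Fr k i hc]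
        unfold xC
        simp only [hj, if_true]
        rw [td_conj_X Fr hσ hiso hT (nx_ne hj), ev_crC k hi, ev_crC k hi, nx_of_lt hj]
        congr 1
        have e1 : ((⟨j + 1, hj⟩, false) : Fin n × Bool) = (i, false) := by
          simp only [Prod.mk.injEq, and_true]; exact Fin.ext h1
        rw [e1, if_neg (by simp [Fin.ext_iff]; omega), if_neg (by simp), if_neg (by simp),
          if_neg (by simp [Fin.ext_iff]; omega), if_neg (by simp), if_pos rfl, if_neg (by simp [Fin.ext_iff]),
          if_neg (by simp)]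
        simp
      · refine ⟨k, L.hk.1, by have := L.hk.2; omega, fun c hc => ?_⟩
        have hT := (td_crC_mem Fr L hV0 hσ hX i (Units.mk0 c hc)).1
        rw [hhC_eq Fr k i hc]
        unfold xC
        simp only [hj, if_true]
        rw [td_conj_X Fr hσ hiso hT (nx_ne hj), ev_crC' k hi, ev_crC' k hi, nx_of_lt hj]
        congr 1
        have e1 : ((⟨j + 1, hj⟩, false) : Fin n × Bool) = (i, false) := by
          simp only [Prod.mk.injEq, and_true]; exact Fin.ext h1
        rw [e1, if_neg (by simp [Fin.ext_iff]; omega), if_neg (by simp), if_neg (by simp), if_pos rfl]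
        simp
  · -- polynomials
    intro i j hji r hr v hv
    obtain ⟨d, e, hde, h1, h2⟩ := pvC Fr L hσ i j hji
    obtain ⟨Q, hQ, hQ'⟩ := PV.poly hσ h1 h2 v (if (j : ℕ) + 1 < n then (Fr.η (nx j))⁻¹ else κ)
      (H.h (Fr.b (j, true)) (if (j : ℕ) + 1 < n then Fr.b (nx j) else w))
    refine ⟨Q, hQ.trans hde, fun s => ?_⟩
    rw [hQ', ← coC_conj Fr L hX hZ hiso i j s v]
    exact cf_conj_fun R ‹_› px py (coC Fr w κ j) j (fun u hu v hv => coC_mul Fr cs L j hu hv)
      (fun r hr u hu => coC_zero Fr cs L j hr hu) (fun s => coC_self Fr L j s) hr hv s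

end Cfsg.Agent.H155.TG.Wf
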