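import Cfsg.Agent.H155.TG.WFdC2
import Cfsg.Agent.Nodes.WittRGDD

/-!
# Field coordinates of the classical groups of type `D_{n+2}` (helper155)
-/

set_option autoImplicit false
set_option linter.unusedSectionVars false
set_option linter.unusedSimpArgs false
set_option linter.unnecessarySeqFocus false

namespace Cfsg.Agent.H155.TG.Wf

open CoxeterSystem Cfsg.Agent.ChevalleyStructure.CoxeterGeom Cfsg.Agent.Tits.Roots
open Cfsg.Agent.Nodes.BNOf Cfsg.Agent.KFacts.RgdOpp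
open Cfsg.Agent.TitsThree Cfsg.Agent.TitsThree.Siegel Cfsg.Agent.TitsThree.WittFrame Cfsg.Agent.TitsThree.WittWeyl
open Cfsg.Agent.Nodes Cfsg.Agent.Nodes.WittRoot Cfsg.Agent.Nodes.WittAll
open Cfsg.Agent.Nodes.TypeC (ng)
open Cfsg.Agent.Nodes.TypeD
open Cfsg.Agent.Nodes.WittRGD (Tor mem_Tor b_ne_zero not_prop)

theorem ne_of_nat {N : ℕ} {x y : Fin N × Bool} (h : (x.1 : ℕ) ≠ y.1 ∨ x.2 ≠ y.2) : x ≠ y := by
  rintro rfl
  rcases h with h | h
  · exact h rfl
  · exact h rfl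

theorem eq_of_nat {N : ℕ} {x y : Fin N × Bool} (h1 : (x.1 : ℕ) = y.1) (h2 : x.2 = y.2) : x = y :=
  Prod.ext (Fin.ext h1) h2

variable {F : Type*} [Field F] {V : Type*} [AddCommGroup V] [Module F V] {H : HForm F V} {n : ℕ}
  (Fr : Frame H (Fin (n + 2)))
variable {W : Type*} [Group W] (cs : CoxeterSystem (M n) W)

/-- the heights -/
def hD (n : ℕ) (x : Fin (n + 2) × Bool) : ℤ := (if x.2 then 1 else -1) * (2 * (n + 1 - x.1.val))

theorem hD_neg (x : Fin (n + 2) × Bool) : hD n (neg x) = -hD n x := by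
  unfold hD neg
  cases x.2 <;> simp

theorem nxD_of_lt {i : Fin (n + 2)} (hi : (i : ℕ) + 1 < n + 2) : nx i = (⟨i + 1, hi⟩, false) := by
  unfold nx; rw [dif_pos hi]

theorem nxD_of_not {i : Fin (n + 2)} (hi : ¬ (i : ℕ) + 1 < n + 2) : nx i = (⟨n, by omega⟩, true) := by
  unfold nx; rw [dif_neg hi]; rfl

theorem hD_nx (j : Fin (n + 2)) : hD n (j, true) + hD n (nx j) = 2 := by
  have hj := j.2
  by_cases h1 : (j : ℕ) + 1 < n + 2
  · rw [nxD_of_lt h1]
    unfold hD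
    simp only [if_true, Bool.false_eq_true, if_false]
    push_cast
    linarith
  · rw [nxD_of_not h1]
    unfold hD
    simp only [if_true]
    have h2 : (j.val : ℤ) = n + 1 := by omega
    rw [h2]
    ring

theorem hD_root {r : Fin (n + 2) → ℤ} (hr : 0 ≤ r) (hr0 : r ≠ 0) {a b : Fin (n + 2) × Bool}
    (e : ee (-r) = TypeC.wt a + TypeC.wt b) : hD n a + hD n b ≤ -2 := by
  obtain ⟨c, hc⟩ : ∃ c : Fin (n + 2) → ℤ, c = fun i : Fin (n + 2) => 2 * ((n : ℤ) + 1 - i.val) := ⟨_, rfl⟩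
  have h0 : ∀ x, hl c (TypeC.wt x) = hD n x := by
    intro x
    rw [hl_wt, hc]
    rfl
  have hf : ∀ j, 2 ≤ hl c (bt j) := by
    intro j
    show 2 ≤ hl c (TypeC.wt (j, true) + TypeC.wt (nx j))
    rw [hl_add, h0, h0, hD_nx]
  have h1 := hl_pos c bt hf hr hr0
  have h2 : hl c (ee (-r)) = -hl c (ee r) := by
    have h3 : ee (-r) + ee r = 0 := by rw [← ee_add, neg_add_cancel]; simp [ee]
    have h4 := hl_add c (ee (-r)) (ee r)
    rw [h3] at h4
    have h5 : hl c 0 = 0 := by simp [hl]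
    linarith
  rw [e, hl_add, h0, h0] at h2
  have h3 : hl c (ee r) = hl c (∑ j, r j • bt j) := rfl
  linarith

/-- positive root elements -/
def xD (i : Fin (n + 2)) (s : F) : V ≃ₗ[F] V := Fr.X (i, true) (nx i) s

/-- negative root elements -/
def yD (i : Fin (n + 2)) (s : F) : V ≃ₗ[F] V := Fr.X (neg (nx i)) (neg (i, true)) s

open Classical in
/-- coroot elements -/
noncomputable def hhD (i : Fin (n + 2)) (c : F) : V ≃ₗ[F] V :=
  if hc : c ≠ 0 then td Fr (cr (i, true) (nx i) (Units.mk0 c hc)) else 1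

theorem hhD_eq (i : Fin (n + 2)) {c : F} (hc : c ≠ 0) : hhD Fr i c = td Fr (cr (i, true) (nx i) (Units.mk0 c hc)) :=
  dif_pos hc

/-- degree bounds -/
def DDn (k j : Fin (n + 2)) : ℕ :=
  if k.val + 1 = j.val ∨ j.val + 1 = k.val ∨ k.val + 2 = j.val ∨ j.val + 2 = k.val then 1 else 0

theorem hDDn (k : Fin (n + 2)) : ∑ j ∈ Finset.univ.erase k, DDn k j ≤ 4 := by
  classical
  have h1 : ∑ j ∈ Finset.univ.erase k, DDn k j = ((Finset.univ.erase k).filter fun j =>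
      k.val + 1 = j.val ∨ j.val + 1 = k.val ∨ k.val + 2 = j.val ∨ j.val + 2 = k.val).card := by
    rw [Finset.card_filter]
    rfl
  rw [h1]
  have h2 : ((Finset.univ.erase k).filter fun j : Fin (n + 2) =>
      k.val + 1 = j.val ∨ j.val + 1 = k.val ∨ k.val + 2 = j.val ∨ j.val + 2 = k.val).card ≤
      ({k.val + 1, k.val - 1, k.val + 2, k.val - 2} : Finset ℕ).card := by
    apply Finset.card_le_card_of_injOn (fun j : Fin (n + 2) => j.val)
    · intro j hj
      have hj' := (Finset.mem_filter.1 (Finset.mem_coe.1 hj)).2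
      simp only [Finset.coe_insert, Finset.coe_singleton, Set.mem_insert_iff, Set.mem_singleton_iff]
      omega
    · intro a _ b _ hab
      exact Fin.ext hab
  exact h2.trans Finset.card_le_four

section

variable {G0 : Subgroup (V ≃ₗ[F] V)} (hV0 : ∀ v, (∀ x, H.h v (Fr.b x) = 0) → v ∈ Fr.V0) (hσ : ∀ x, H.σ x = x)
  (hX : ∀ a b t, Fr.X a b t ∈ G0) (hiso : ∀ g ∈ G0, H.IsIso g)

theorem parXD : Par (WittRGDD.rg Fr) (xD Fr) := by
  refine ⟨fun i u => ?_, fun i s t => Fr.X_add _ _ _ _, fun i s h1 => ?_⟩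
  · rw [WittRGDD.rg_sr, mem_XG]
    unfold xD
    simp only [eq_comm]
  · exact X_inj Fr (ok_nx i) (h1.trans (Fr.X_zero _ _).symm)

theorem parYD : Par (fun r => WittRGDD.rg Fr (-r)) (yD Fr) := by
  refine ⟨fun i u => ?_, fun i s t => Fr.X_add _ _ _ _, fun i s h1 => ?_⟩
  · show u ∈ WittRGDD.rg Fr (-sr i) ↔ _
    rw [WittRGDD.rg_neg_sr, mem_XG]
    unfold yD
    simp only [eq_comm]
    rfl
  · exact X_inj Fr (x := neg (nx i)) (y := neg (i, true)) (Ne.symm (ok_nx i)) (h1.trans (Fr.X_zero _ _).symm)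

/-- the coefficient functions -/
noncomputable def coD (j : Fin (n + 2)) (u : V ≃ₗ[F] V) : F :=
  (Fr.η (nx j))⁻¹ * co (H := H) (Fr.b (j, true)) (Fr.b (nx j)) u

theorem NGD_of_mem {r : Fin (n + 2) → ℤ} (hr : IsRoot cs (isCartan n) r) (h0 : 0 ≤ r) {u : V ≃ₗ[F] V}
    (hu : u ∈ WittRGDD.rg Fr (-r)) : u ∈ NG Fr (hD n) := by
  obtain ⟨a, b, hab, e⟩ := TypeD.exists_of_isRoot cs hr.neg
  have h1 := hD_root h0 (by rintro rfl; exact hr.ne_zero rfl) e
  rw [WittRGDD.rg_eq Fr hab e] at hu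
  obtain ⟨t, rfl⟩ := hu
  exact NG.X Fr _ hD_neg hab h1 t

theorem NGD_of_UU {u : V ≃ₗ[F] V} (hu : u ∈ UU cs (isCartan n) (fun r => WittRGDD.rg Fr (-r))) :
    u ∈ NG Fr (hD n) := by
  refine Subgroup.iSup_induction (fun z : RGD.Pos cs (isCartan n) => WittRGDD.rg Fr (-z.1))
    (C := fun u => u ∈ NG Fr (hD n)) hu ?_ ?_ ?_
  · rintro ⟨r, hr, h0⟩ u hu
    exact NGD_of_mem Fr cs hr h0 hu
  · exact NG.one Fr _
  · intro u v hu hv
    exact NG.mul Fr _ hu hv

theorem coD_mul (j : Fin (n + 2)) {u v : V ≃ₗ[F] V} (hu : u ∈ UU cs (isCartan n) (fun r => WittRGDD.rg Fr (-r)))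
    (hv : v ∈ UU cs (isCartan n) (fun r => WittRGDD.rg Fr (-r))) :
    coD Fr j (u * v) = coD Fr j u + coD Fr j v := by
  unfold coD
  rw [co_mul Fr (hD n) (LE.b Fr (hD n) le_rfl) ?_ (NGD_of_UU Fr cs hu) (NGD_of_UU Fr cs hv), mul_add]
  intro v' hv'
  refine LE.h_b Fr (hD n) ?_ hD_neg hv'
  have := hD_nx j
  linarith

theorem coD_zero (j : Fin (n + 2)) {r : Fin (n + 2) → ℤ} (hr : r ∈ RGD.PosNe cs (isCartan n) j) {u : V ≃ₗ[F] V}
    (hu : u ∈ WittRGDD.rg Fr (-r)) : coD Fr j u = 0 := by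
  obtain ⟨hr1, hr0, hrj⟩ := hr
  obtain ⟨a, b, hab, e⟩ := TypeD.exists_of_isRoot cs hr1.neg
  rw [WittRGDD.rg_eq Fr hab e] at hu
  have hne : ∀ a b : Fin (n + 2) × Bool, ee (-r) = TypeC.wt a + TypeC.wt b → ¬ (a = neg (j, true) ∧ b = neg (nx j)) := by
    rintro a b e ⟨rfl, rfl⟩
    apply hrj
    have h1 : ee (-r) = ee (-sr j) := by
      rw [e, WittRGDD.ee_neg_sr]
      rfl
    exact neg_injective (ee_injective h1)
  have h : a.1 ≠ b.1 := hab
  unfold coD
  suffices h : co (H := H) (Fr.b (j, true)) (Fr.b (nx j)) u = 0 by rw [h, mul_zero]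
  unfold co
  obtain ⟨t, rfl⟩ := hu
  by_cases h1 : (j, true) = neg a
  · have h2 := X_apply_neg' Fr h t
    rw [h1, h2, H.sub_left, sub_sub_cancel_left, H.smul_left]
    have h3 : H.h (Fr.b b) (Fr.b (nx j)) = 0 := by
      apply Fr.hb_ne
      intro h4
      exact hne a b e ⟨(neg_eq_iff.1 h1).symm, neg_eq_iff.2 h4.symm⟩
    rw [h3, mul_zero, neg_zero]
  · by_cases h1' : (j, true) = neg b
    · have h2 := X_apply_neg Fr h t
      rw [h1', h2, H.add_left, add_sub_cancel_left, H.smul_left]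
      have h3 : H.h (Fr.b a) (Fr.b (nx j)) = 0 := by
        apply Fr.hb_ne
        intro h4
        exact hne b a (by rw [e]; exact add_comm _ _) ⟨(neg_eq_iff.1 h1').symm, neg_eq_iff.2 h4.symm⟩
      rw [h3, mul_zero]
    · rw [X_apply_of_ne Fr h h1 h1', sub_self]

theorem coD_self (j : Fin (n + 2)) (s : F) : coD Fr j (yD Fr j s) = s := by
  unfold coD yD
  have h1 := X_apply_neg Fr (x := neg (nx j)) (y := neg (j, true)) (Ne.symm (ok_nx j)) s
  rw [WittFrame.neg_neg] at h1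
  unfold co
  rw [h1, H.add_left, add_sub_cancel_left, H.smul_left, Fr.hb_neg_self]
  have := Fr.η_ne (nx j)
  field_simp

include hX hiso in
theorem coD_conj (i j : Fin (n + 2)) (s : F) (v : V ≃ₗ[F] V) :
    coD Fr j (xD Fr i (-s) * v * xD Fr i s) =
      (Fr.η (nx j))⁻¹ * (H.h (v (xD Fr i s (Fr.b (j, true)))) (xD Fr i s (Fr.b (nx j))) -
          H.h (Fr.b (j, true)) (Fr.b (nx j))) := by
  have hmem : xD Fr i s ∈ G0 := hX _ _ _
  have hneg : xD Fr i (-s) = (xD Fr i s)⁻¹ := (parXD Fr).neg i s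
  unfold coD co
  rw [hneg]
  congr 2
  rw [← hiso _ hmem]
  congr 1
  show (xD Fr i s * (((xD Fr i s)⁻¹) * v * xD Fr i s)) (Fr.b (j, true)) = _
  rw [mul_assoc, mul_inv_cancel_left]
  rfl

include hσ in
theorem pv_X {N : ℕ} (Fr : Frame H (Fin N)) {x y : Fin N × Bool} (hxy : x.1 ≠ y.1) (z : Fin N × Bool) :
    PV 1 (fun s => Fr.X x y s (Fr.b z)) := by
  by_cases h1 : z = neg x
  · have e3 : ∀ s, Fr.X x y s (Fr.b z) = Fr.b z + s • (-(H.ε⁻¹ * Fr.η x * Fr.η y) • Fr.b y) := by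
      intro s
      rw [h1, X_apply_neg' Fr hxy s, hσ]
      module
    simp only [e3]
    exact PV.lin _ _
  · by_cases h2 : z = neg y
    · have e3 : ∀ s, Fr.X x y s (Fr.b z) = Fr.b z + s • Fr.b x := by
        intro s
        rw [h2, X_apply_neg Fr hxy s]
      simp only [e3]
      exact PV.lin _ _
    · have e3 : ∀ s, Fr.X x y s (Fr.b z) = Fr.b z + s • 0 := by
        intro s
        rw [smul_zero, add_zero, X_apply_of_ne Fr hxy h1 h2]
      simp only [e3]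
      exact PV.lin _ _

theorem pv_X0 {N : ℕ} (Fr : Frame H (Fin N)) {x y : Fin N × Bool} (hxy : x.1 ≠ y.1) {z : Fin N × Bool}
    (h1 : z ≠ neg x) (h2 : z ≠ neg y) : PV 0 (fun s => Fr.X x y s (Fr.b z)) := by
  have e3 : ∀ s, Fr.X x y s (Fr.b z) = Fr.b z := fun s => X_apply_of_ne Fr hxy h1 h2 s
  simp only [e3]
  exact PV.const _

include hσ in
/-- the degrees -/
theorem pvD (i j : Fin (n + 2)) (hij : j ≠ i) : ∃ d e, d + e ≤ DDn i j ∧ PV d (fun s => xD Fr i s (Fr.b (j, true))) ∧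
    PV e (fun s => xD Fr i s (Fr.b (nx j))) := by
  have hij' : (j : ℕ) ≠ i := fun h => hij (Fin.ext h)
  have hi2 := i.2
  have hj2 := j.2
  unfold xD
  have hv : ((j, true) : Fin (n + 2) × Bool) ≠ neg (i, true) := ne_of_nat (Or.inr (by simp [neg]))
  by_cases hi : (i : ℕ) + 1 < n + 2
  · by_cases h1 : (i : ℕ) + 1 = j
    · -- the first vector is moved
      refine ⟨1, 0, ?_, pv_X hσ Fr (ok_nx i) _, pv_X0 Fr (ok_nx i) ?_ ?_⟩
      · unfold DDn; rw [if_pos (Or.inl h1)]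
      · by_cases hj : (j : ℕ) + 1 < n + 2
        · rw [nxD_of_lt hj]
          exact ne_of_nat (Or.inl (by show (j : ℕ) + 1 ≠ i; omega))
        · rw [nxD_of_not hj]
          exact ne_of_nat (Or.inr (by simp [neg]))
      · rw [nxD_of_lt hi]
        by_cases hj : (j : ℕ) + 1 < n + 2
        · rw [nxD_of_lt hj]
          exact ne_of_nat (Or.inr (by simp [neg]))
        · rw [nxD_of_not hj]
          exact ne_of_nat (Or.inl (by show n ≠ (i : ℕ) + 1; omega))
    · have hv' : ((j, true) : Fin (n + 2) × Bool) ≠ neg (nx i) := by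
        rw [nxD_of_lt hi]
        exact ne_of_nat (Or.inl (by show (j : ℕ) ≠ i + 1; omega))
      by_cases h2 : (j : ℕ) + 1 = i ∨ (i : ℕ) + 2 = j
      · refine ⟨0, 1, ?_, pv_X0 Fr (ok_nx i) hv hv', pv_X hσ Fr (ok_nx i) _⟩
        unfold DDn; rw [if_pos (by omega)]
      · refine ⟨0, 0, Nat.zero_le _, pv_X0 Fr (ok_nx i) hv hv', pv_X0 Fr (ok_nx i) ?_ ?_⟩
        · by_cases hj : (j : ℕ) + 1 < n + 2
          · rw [nxD_of_lt hj]
            exact ne_of_nat (Or.inl (by show (j : ℕ) + 1 ≠ i; omega))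
          · rw [nxD_of_not hj]
            exact ne_of_nat (Or.inr (by simp [neg]))
        · rw [nxD_of_lt hi]
          by_cases hj : (j : ℕ) + 1 < n + 2
          · rw [nxD_of_lt hj]
            exact ne_of_nat (Or.inr (by simp [neg]))
          · rw [nxD_of_not hj]
            exact ne_of_nat (Or.inl (by show n ≠ (i : ℕ) + 1; omega))
  · have hj : (j : ℕ) + 1 < n + 2 := by omega
    have hv' : ((j, true) : Fin (n + 2) × Bool) ≠ neg (nx i) := by
      rw [nxD_of_not hi]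
      exact ne_of_nat (Or.inr (by simp [neg]))
    by_cases h2 : (j : ℕ) + 1 = i ∨ (j : ℕ) + 2 = i
    · refine ⟨0, 1, ?_, pv_X0 Fr (ok_nx i) hv hv', pv_X hσ Fr (ok_nx i) _⟩
      unfold DDn; rw [if_pos (by omega)]
    · refine ⟨0, 0, Nat.zero_le _, pv_X0 Fr (ok_nx i) hv hv', pv_X0 Fr (ok_nx i) ?_ ?_⟩
      · rw [nxD_of_lt hj]
        exact ne_of_nat (Or.inl (by show (j : ℕ) + 1 ≠ i; omega))
      · rw [nxD_of_not hi, nxD_of_lt hj]
        exact ne_of_nat (Or.inl (by show (j : ℕ) + 1 ≠ n; omega))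

theorem adjD_of_ne_two {i j : Fin (n + 2)} (hij : i ≠ j) (hM : M n i j ≠ 2) : TypeD.Adj i j ∨ TypeD.Adj j i := by
  by_contra h
  rw [M_apply, if_neg hij, if_neg h] at hM
  exact hM rfl

theorem connD (S : Set (Fin (n + 2))) (hS : S.Nonempty) (hS' : S ≠ Set.univ) (hn : 1 ≤ n) :
    ∃ a ∈ S, ∃ b, b ∉ S ∧ M n a b ≠ 2 := by
  obtain ⟨a₀, ha₀⟩ := hS
  by_contra hc
  push Not at hc
  have key : ∀ i j : Fin (n + 2), TypeD.Adj i j → (i ∈ S ↔ j ∈ S) := by
    intro i j hij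
    have hne : i ≠ j := by
      rintro rfl
      unfold TypeD.Adj at hij
      omega
    have h2 : M n i j ≠ 2 := by rw [M_apply, if_neg hne, if_pos (Or.inl hij)]; norm_num
    have h3 : M n j i ≠ 2 := by rw [M_apply, if_neg hne.symm, if_pos (Or.inr hij)]; norm_num
    constructor
    · intro h4
      by_contra h5
      exact h2 (hc i h4 j h5)
    · intro h4
      by_contra h5
      exact h3 (hc j h4 i h5)
  have key2 : ∀ (m : ℕ) (i : Fin (n + 2)), i.val = m → m < n + 1 → (i ∈ S ↔ (⟨0, by omega⟩ : Fin (n + 2)) ∈ S) := by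
    intro m
    induction m with
    | zero =>
      intro i hi _
      have : i = ⟨0, by omega⟩ := Fin.ext hi
      rw [← this]
    | succ m ih =>
      intro i hi hm
      rw [← key ⟨m, by omega⟩ i (Or.inl ⟨by omega, hi.symm⟩), ih ⟨m, by omega⟩ rfl (by omega)]
  have key3 : ∀ i : Fin (n + 2), (i ∈ S ↔ (⟨0, by omega⟩ : Fin (n + 2)) ∈ S) := by
    intro i
    by_cases h : i.val < n + 1
    · exact key2 i.val i rfl h
    · rw [← key ⟨n - 1, by omega⟩ i (Or.inr ⟨by have := i.2; omega, by show n - 1 + 2 = i.val; have := i.2; omega⟩)]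
      exact key2 (n - 1) ⟨n - 1, by omega⟩ rfl (by omega)
  apply hS'
  rw [Set.eq_univ_iff_forall]
  intro b
  rw [key3 b, ← key3 a₀]
  exact ha₀

include hV0 hσ hX hiso in
/-- **Field coordinates of type `D_{n+2}`.** -/
theorem fdD {p : ℕ} [Finite W] {nn : Fin (n + 2) → V ≃ₗ[F] V}
    (R : RGD cs (isCartan n) p (Tor Fr G0) nn (WittRGDD.rg Fr)) :
    FD cs (isCartan n) (Tor Fr G0) (WittRGDD.rg Fr) (xD Fr) (yD Fr) (hhD Fr) (chx (xD Fr) (yD Fr)) DDn := by
  have px := parXD Fr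
  have py := parYD Fr
  have hT : ∀ i c, td Fr (cr (i, true) (nx i) c) ∈ G0 := fun i c => td_cr_mem Fr hV0 hσ hX (ok_nx i) c
  refine FD.mk' px py ?_ ?_ ?_ ?_ ?_ ?_ ?_
  · intro i a b hab
    rw [hhD_eq Fr i hab]
    exact rank1_X Fr hV0 hσ (ok_nx i) a b (Units.mk0 _ hab) rfl
  · intro i c hc
    rw [hhD_eq Fr i hc]
    exact ⟨hT i _, mono_td Fr _⟩
  · intro i c d hc hd
    have e : Units.mk0 (c * d) (mul_ne_zero hc hd) = Units.mk0 c hc * Units.mk0 d hd := Units.ext rfl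
    rw [hhD_eq Fr i hc, hhD_eq Fr i hd, hhD_eq Fr i (mul_ne_zero hc hd), ← td_mul, e, cr_mul]
  · intro i t ht
    unfold xD yD
    obtain ⟨l, hl0, hl, hln⟩ := tor_eig Fr hiso hσ ht
    refine ⟨l (i, true) * l (nx i), mul_ne_zero (hl0 _) (hl0 _), fun s => ?_, fun s => ?_⟩
    · exact conj_X_td Fr hσ (hiso t ht.1) (ok_nx i) (hl _) (hl _) s
    · rw [conj_X_td Fr hσ (hiso t ht.1) (x := neg (nx i)) (y := neg (i, true)) (Ne.symm (ok_nx i)) (hl _) (hl _) s,
        hln, hln]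
      congr 1
      rw [mul_inv]
      ring
  · intro i c hc
    rw [hhD_eq Fr i hc]
    unfold xD
    rw [td_conj_X Fr hσ hiso (hT i _) (ok_nx i), ev_cr, ev_cr]
    congr 1
    have n1 : ((i, true) : Fin (n + 2) × Bool) ≠ nx i := ne_of_fst (ok_nx i)
    have n2 : ((i, true) : Fin (n + 2) × Bool) ≠ neg (nx i) := ne_of_fst (y := neg (nx i)) (ok_nx i)
    have n3 : nx i ≠ neg (i, true) := ne_of_fst (y := neg (i, true)) (Ne.symm (ok_nx i))
    rw [if_pos rfl, if_neg n1, if_neg n2, if_neg n1.symm, if_neg n3, if_pos rfl]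
    simp only [mul_one, one_mul, Units.val_mk0]
    ring
  · intro i j hij hM
    refine ⟨1, le_rfl, by norm_num, fun c hc => ?_⟩
    have hij' : (i : ℕ) ≠ j := fun h => hij (Fin.ext h)
    rw [hhD_eq Fr i hc]
    unfold xD
    rw [td_conj_X Fr hσ hiso (hT i _) (ok_nx j), ev_cr, ev_cr]
    congr 1
    have hi2 := i.2
    have hj2 := j.2
    have n0 : ((j, true) : Fin (n + 2) × Bool) ≠ (i, true) := ne_of_nat (Or.inl (by show (j : ℕ) ≠ i; omega))
    have n1 : ((j, true) : Fin (n + 2) × Bool) ≠ neg (i, true) := ne_of_nat (Or.inr (by simp [neg]))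
    rw [if_neg n0, if_neg n1]
    rcases adjD_of_ne_two hij hM with (⟨h1, h2⟩ | ⟨h1, h2⟩) | (⟨h1, h2⟩ | ⟨h1, h2⟩)
    · have hi3 : (i : ℕ) + 1 < n + 2 := by omega
      have hj3 : (j : ℕ) + 1 < n + 2 := by omega
      have q1 : ((j, true) : Fin (n + 2) × Bool) = neg (⟨i + 1, hi3⟩, false) :=
        eq_of_nat (by show (j : ℕ) = i + 1; omega) rfl
      rw [nxD_of_lt hi3, nxD_of_lt hj3]
      rw [if_neg (ne_of_nat (Or.inr (by simp))), if_pos q1,
        if_neg (ne_of_nat (Or.inr (by simp))), if_neg (ne_of_nat (Or.inl (by show (j : ℕ) + 1 ≠ i; omega))),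
        if_neg (ne_of_nat (Or.inl (by show (j : ℕ) + 1 ≠ i + 1; omega))),
        if_neg (ne_of_nat (Or.inl (by show (j : ℕ) + 1 ≠ i + 1; omega)))]
      simp
    · have hi3 : (i : ℕ) + 1 < n + 2 := by omega
      have hn3 : n < n + 2 := by omega
      have q1 : ((⟨n, hn3⟩, true) : Fin (n + 2) × Bool) = neg (⟨i + 1, hi3⟩, false) :=
        eq_of_nat (by show n = (i : ℕ) + 1; omega) rfl
      rw [nxD_of_lt hi3, nxD_of_not (i := j) (by omega)]
      rw [if_neg (ne_of_nat (Or.inr (by simp))), if_neg (ne_of_nat (Or.inl (by show (j : ℕ) ≠ i + 1; omega))),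
        if_neg (ne_of_nat (Or.inl (by show n ≠ (i : ℕ); omega))), if_neg (ne_of_nat (Or.inl (by show n ≠ (i : ℕ); omega))),
        if_neg (ne_of_nat (Or.inr (by simp))), if_pos q1]
      simp
    · have hi3 : (i : ℕ) + 1 < n + 2 := by omega
      have hj3 : (j : ℕ) + 1 < n + 2 := by omega
      have q1 : ((⟨j + 1, hj3⟩, false) : Fin (n + 2) × Bool) = neg (i, true) :=
        eq_of_nat (by show (j : ℕ) + 1 = i; omega) rfl
      rw [nxD_of_lt hi3, nxD_of_lt hj3]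
      rw [if_neg (ne_of_nat (Or.inr (by simp))), if_neg (ne_of_nat (Or.inl (by show (j : ℕ) ≠ i + 1; omega))),
        if_neg (ne_of_nat (Or.inr (by simp))), if_pos q1,
        if_neg (ne_of_nat (Or.inl (by show (j : ℕ) + 1 ≠ i + 1; omega))),
        if_neg (ne_of_nat (Or.inl (by show (j : ℕ) + 1 ≠ i + 1; omega)))]
      simp
    · have hj3 : (j : ℕ) + 1 < n + 2 := by omega
      have hn3 : n < n + 2 := by omega
      have q1 : ((⟨j + 1, hj3⟩, false) : Fin (n + 2) × Bool) = neg (⟨n, hn3⟩, true) :=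
        eq_of_nat (by show (j : ℕ) + 1 = n; omega) rfl
      rw [nxD_of_not (i := i) (by omega), nxD_of_lt hj3]
      rw [if_neg (ne_of_nat (Or.inl (by show (j : ℕ) ≠ n; omega))), if_neg (ne_of_nat (Or.inr (by simp [neg]))),
        if_neg (ne_of_nat (Or.inr (by simp))), if_neg (ne_of_nat (Or.inl (by show (j : ℕ) + 1 ≠ i; omega))),
        if_neg (ne_of_nat (Or.inr (by simp))), if_pos q1]
      simp
  · intro i j hji r hr v hv
    obtain ⟨d, e, hde, h1, h2⟩ := pvD Fr hσ i j hji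
    obtain ⟨Q, hQ, hQ'⟩ := PV.poly hσ h1 h2 v ((Fr.η (nx j))⁻¹) (H.h (Fr.b (j, true)) (Fr.b (nx j)))
    refine ⟨Q, hQ.trans hde, fun s => ?_⟩
    rw [hQ', ← coD_conj Fr hX hiso i j s v]
    exact cf_conj_fun R ‹_› px py (coD Fr j) j (fun u hu v hv => coD_mul Fr cs j hu hv)
      (fun r hr u hu => coD_zero Fr cs j hr hu) (fun s => coD_self Fr j s) hr hv s

end

end Cfsg.Agent.H155.TG.Wf
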