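import Cfsg.Agent.H155.TG.WFdD

/-!
# Levi data of the classical groups (helper155)
-/

set_option autoImplicit false
set_option linter.unusedSectionVars false
set_option linter.unusedSimpArgs false
set_option linter.unnecessarySeqFocus false

namespace Cfsg.Agent.H155.TG.Wf

open CoxeterSystem Cfsg.Agent.ChevalleyStructure.CoxeterGeom Cfsg.Agent.Tits.Roots
open Cfsg.Agent.Nodes.BNOf Cfsg.Agent.KFacts.RgdOpp Cfsg.Agent.Nodes.StabComb Cfsg.Agent.Nodes.Bruhat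
open Cfsg.Agent.TitsThree Cfsg.Agent.TitsThree.Siegel Cfsg.Agent.TitsThree.WittFrame Cfsg.Agent.TitsThree.WittWeyl
open Cfsg.Agent.Nodes Cfsg.Agent.Nodes.WittRoot
open Matrix

variable {F : Type*} [Field F] {V : Type*} [AddCommGroup V] [Module F V] {H : HForm F V} {N m : ℕ}
  (Fr : Frame H (Fin N))

/-- the equivalence of indices -/
def eqN (h : m ≤ N) : Fin m ⊕ Fin (N - m) ≃ Fin N := finSumFinEquiv.trans (finCongr (by omega))

theorem eqN_inl (h : m ≤ N) (i : Fin m) : eqN h (Sum.inl i) = ⟨i, by omega⟩ := Fin.ext rfl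

/-- the Levi embedding -/
def phW (h : m ≤ N) : SpecialLinearGroup (Fin m) F →* (V ≃ₗ[F] V) :=
  (th Fr).comp (SpecialLinearGroup.toGL.comp (PSLi.slEmb F (eqN h)))

/-- the inclusion of indices -/
def ci (h : m ≤ N) (i : Fin m) : Fin N := ⟨i, by omega⟩

theorem ci_ne (h : m ≤ N) {i j : Fin m} (hij : i ≠ j) : ci h i ≠ ci h j := fun e => hij (Fin.ext (Fin.mk.inj_iff.1 e))

variable (hV0 : ∀ v, (∀ x, H.h v (Fr.b x) = 0) → v ∈ Fr.V0) (hσ : ∀ x, H.σ x = x)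

include hV0 hσ

theorem phW_tv (h : m ≤ N) {i j : Fin m} (hij : i ≠ j) (t : F) :
    phW Fr h (SpecialLinearGroup.transvection hij t) = Fr.X (ci h i, true) (ci h j, false) t := by
  have h1 : phW Fr h (SpecialLinearGroup.transvection hij t) =
      th Fr (SpecialLinearGroup.toGL (PSLi.slEmb F (eqN h) (SpecialLinearGroup.transvection hij t))) := rfl
  have hne : eqN h (Sum.inl i) ≠ eqN h (Sum.inl j) := by
    rw [eqN_inl, eqN_inl]; exact ci_ne h hij
  rw [h1, PSLi.slEmb_transvection, KSideA.tv_of_ne hne]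
  exact th_tn Fr hV0 hσ hne t

theorem phW_di (h : m ≤ N) {i j : Fin m} (hij : i ≠ j) (c : Fˣ) : ∃ B : SpecialLinearGroup (Fin m) F,
    (∀ a b, a ≠ b → B a b = 0) ∧ phW Fr h B = td Fr (cr (ci h i, true) (ci h j, false) c) := by
  refine ⟨SpecialLinearGroup.diag2n hij (c : F) c.ne_zero, fun a b hab => ?_, ?_⟩
  · show (diagonal _ : Matrix _ _ F) a b = 0
    rw [diagonal_apply_ne _ hab]
  · rw [← nX_mul_nX Fr hV0 hσ (x := (ci h i, true)) (y := (ci h j, false)) (ci_ne h hij) c]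
    rw [LieClassical.SLGen.diag2n_decompose]
    simp only [map_mul, phW_tv Fr hV0 hσ h]
    have e : -(-1 : F)⁻¹ = 1 := by rw [inv_neg, inv_one, _root_.neg_neg]
    unfold nX
    rw [e]
    simp only [mul_assoc]
    rfl

/-- **Levi data of a classical group.** -/
theorem ldW {I W : Type*} [Fintype I] [DecidableEq I] [Group W] {M : CoxeterMatrix I} (cs : CoxeterSystem M W)
    {A : I → I → ℤ} (h : IsCartan M A) (T : Subgroup (V ≃ₗ[F] V)) (rg : (I → ℤ) → Subgroup (V ≃ₗ[F] V))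
    (hh : I → F → V ≃ₗ[F] V) (J : Set I) (hm : 1 ≤ m) (hmN : m ≤ N) (hJ : J.Nonempty → 2 ≤ m)
    (hJ' : ¬ J.Nonempty → m = 1) (l : Fin N → Fˣ)
    (up : ∀ r ∈ PosJ cs h J, ∀ u ∈ rg r, ∃ i j : Fin m, i < j ∧ ∃ t, u = Fr.X (ci hmN i, true) (ci hmN j, false) t)
    (lo : ∀ r ∈ PosJ cs h J, ∀ u ∈ rg (-r), ∃ i j : Fin m, i < j ∧ ∃ t, u = Fr.X (ci hmN j, true) (ci hmN i, false) t)
    (di : ∀ j ∈ J, ∀ c : F, c ≠ 0 → ∃ a b : Fin m, a ≠ b ∧ ∃ c' : Fˣ, hh j c = td Fr (cr (ci hmN a, true) (ci hmN b, false) c'))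
    (ran : ∀ (i j : Fin m) (_ : i ≠ j) (t : F), Fr.X (ci hmN i, true) (ci hmN j, false) t ∈ LJ cs h T rg J)
    (eT : td Fr l ∈ T) (hT : ∀ t ∈ T, H.IsIso t)
    (efix : ∀ r ∈ NotJ cs h J, ∀ u ∈ rg r, td Fr l * u * (td Fr l)⁻¹ = u → u = 1)
    (efix' : ∀ r ∈ NotJ cs h J, ∀ u ∈ rg (-r), td Fr l * u * (td Fr l)⁻¹ = u → u = 1)
    (const : ∀ i j : Fin m, l (ci hmN i) = l (ci hmN j))
    (tor : ∀ δ : Fˣ, ∃ l' : Fin N → Fˣ, td Fr l' ∈ T ∧ ∀ i : Fin m, l' (ci hmN i) = dl δ i)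
    (real : ∃ n₀ : V ≃ₗ[F] V, n₀ * td Fr l * n₀⁻¹ = (td Fr l)⁻¹ ∧ ∃ B ∈ RU F m, ∃ C ∈ RU F m,
      n₀ * phW Fr hmN B * n₀⁻¹ = phW Fr hmN C) :
    LD cs h T rg hh J m (phW Fr hmN) (td Fr l) := by
  refine ⟨hm, hJ, hJ', ?_, ?_, ?_, ?_, eT, ?_, efix, efix', ?_, real⟩
  · intro r hr u hu
    obtain ⟨i, j, hij, t, rfl⟩ := up r hr u hu
    refine ⟨SpecialLinearGroup.transvection hij.ne t, fun a b hab => ?_, fun a => ?_, phW_tv Fr hV0 hσ hmN hij.ne t⟩
    · show (1 + single _ _ t : Matrix _ _ F) a b = 0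
      rw [Matrix.add_apply, one_apply_ne (ne_of_gt hab), single_apply_of_ne, add_zero]
      rintro ⟨rfl, rfl⟩
      exact absurd hij (not_lt.2 hab.le)
    · show (1 + single _ _ t : Matrix _ _ F) a a = 1
      rw [Matrix.add_apply, one_apply_eq, single_apply_of_ne, add_zero]
      rintro ⟨rfl, h⟩
      exact hij.ne h.symm
  · intro r hr u hu
    obtain ⟨i, j, hij, t, rfl⟩ := lo r hr u hu
    refine ⟨SpecialLinearGroup.transvection hij.ne' t, fun a b hab => ?_, fun a => ?_, phW_tv Fr hV0 hσ hmN hij.ne' t⟩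
    · show (1 + single _ _ t : Matrix _ _ F) a b = 0
      rw [Matrix.add_apply, one_apply_ne (ne_of_lt hab), single_apply_of_ne, add_zero]
      rintro ⟨rfl, rfl⟩
      exact absurd hij (not_lt.2 hab.le)
    · show (1 + single _ _ t : Matrix _ _ F) a a = 1
      rw [Matrix.add_apply, one_apply_eq, single_apply_of_ne, add_zero]
      rintro ⟨rfl, h⟩
      exact hij.ne h
  · intro j hj c hc
    obtain ⟨a, b, hab, c', e⟩ := di j hj c hc
    obtain ⟨B, h1, h2⟩ := phW_di Fr hV0 hσ hmN hab c'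
    exact ⟨B, h1, h2.trans e.symm⟩
  · refine SL_le _ _ fun i j hij a => ?_
    rw [phW_tv Fr hV0 hσ hmN hij]
    exact ran i j hij a
  · intro B
    have h4 : phW Fr hmN B ∈ Subgroup.centralizer {td Fr l} := by
      refine SL_le _ _ (fun i j hij a => ?_) B
      rw [Subgroup.mem_centralizer_singleton_iff, phW_tv Fr hV0 hσ hmN hij]
      have h5 := conj_X_td Fr hσ (hT _ eT) (x := (ci hmN i, true)) (y := (ci hmN j, false)) (ci_ne hmN hij)
        (td_b Fr l _) (td_b Fr l _) a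
      have h6 : (ev l (ci hmN i, true) : F) * (ev l (ci hmN j, false) : F) = 1 := by
        unfold ev
        simp only [if_true, Bool.false_eq_true, if_false]
        rw [const i j, Units.mul_inv]
      rw [h6, one_mul, mul_inv_eq_iff_eq_mul] at h5
      exact h5.symm
    exact (Subgroup.mem_centralizer_singleton_iff.1 h4).symm
  · intro δ
    obtain ⟨l', hl', h1⟩ := tor δ
    refine ⟨td Fr l', hl', conj_dgl _ δ _ fun i j hij a => ?_⟩
    rw [phW_tv Fr hV0 hσ hmN hij, phW_tv Fr hV0 hσ hmN hij,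
      conj_X_td Fr hσ (hT _ hl') (x := (ci hmN i, true)) (y := (ci hmN j, false)) (ci_ne hmN hij)
        (td_b Fr l' _) (td_b Fr l' _) a]
    congr 1
    unfold ev
    simp only [if_true, Bool.false_eq_true, if_false]
    rw [h1, h1]
    ring

/-- The reality condition. -/
theorem real_of (hm : 1 ≤ m) (hmN : m ≤ N) {n₀ : V ≃ₗ[F] V} (hiso : H.IsIso n₀)
    (hn : ∀ i : Fin m, ∃ u v : F, u ≠ 0 ∧ v ≠ 0 ∧ n₀ (Fr.b (ci hmN i, true)) = u • Fr.b (ci hmN i, false) ∧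
      n₀ (Fr.b (ci hmN i, false)) = v • Fr.b (ci hmN i, true)) :
    ∃ B ∈ RU F m, ∃ C ∈ RU F m, n₀ * phW Fr hmN B * n₀⁻¹ = phW Fr hmN C := by
  obtain ⟨k, rfl⟩ : ∃ k, m = k + 1 := ⟨m - 1, by omega⟩
  have h1 : ∀ i : Fin k, ∃ d : F, d ≠ 0 ∧ n₀ * phW Fr hmN (up1 i 1) * n₀⁻¹ = phW Fr hmN (lo1 i d) := by
    intro i
    have hne : i.castSucc ≠ i.succ := (Fin.castSucc_lt_succ (i := i)).ne
    obtain ⟨u, -, hu, -, h2, -⟩ := hn i.castSucc
    obtain ⟨-, v, -, hv, -, h3⟩ := hn i.succ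
    have h4 := ci_ne hmN hne
    unfold up1 lo1
    have h5 := conj_X Fr hiso (x := (ci hmN i.castSucc, true)) (y := (ci hmN i.succ, false))
      (x' := (ci hmN i.castSucc, false)) (y' := (ci hmN i.succ, true)) h4 h4 h2 h3 1
    have h6 : (((ci hmN i.castSucc, false) : Fin N × Bool)).1 ≠ ((ci hmN i.succ, true) : Fin N × Bool).1 := h4
    rw [phW_tv Fr hV0 hσ hmN hne, h5, Fr.X_swap h6]
    refine ⟨_, ?_, (phW_tv Fr hV0 hσ hmN hne.symm _).symm⟩
    have h7 := Fr.η_ne (ci hmN i.succ, false)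
    have h8 := Fr.η_ne (ci hmN i.succ, true)
    have h9 := Fr.η_ne (ci hmN i.castSucc, false)
    have h10 := H.ε_ne
    rw [hσ, hσ]
    simp [*]
  choose d hd h2 using h1
  refine ⟨((List.finRange k).map fun i => up1 i (1 : F)).prod,
    prod_upper_mem_RU (c := fun _ => 1) (fun _ => one_ne_zero), ((List.finRange k).map fun i => lo1 i (d i)).prod,
    prod_lower_mem_RU hd, ?_⟩
  have h3 : ∀ L : List (Fin k), n₀ * phW Fr hmN ((L.map fun i => up1 i (1 : F)).prod) * n₀⁻¹ =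
      phW Fr hmN ((L.map fun i => lo1 i (d i)).prod) := by
    intro L
    induction L with
    | nil => simp
    | cons i L ih =>
      rw [List.map_cons, List.prod_cons, List.map_cons, List.prod_cons, map_mul, map_mul, ← ih, ← h2]
      group
  exact h3 _

/-- The torus element is inverted. -/
theorem inv_of {l : Fin N → Fˣ} {n₀ : V ≃ₗ[F] V} (h0 : ∀ w ∈ Fr.V0, n₀ w ∈ Fr.V0)
    (hn : ∀ x, ∃ (u : F) (y : Fin N × Bool), n₀ (Fr.b x) = u • Fr.b y ∧ ev l y = (ev l x)⁻¹) :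
    n₀ * td Fr l * n₀⁻¹ = (td Fr l)⁻¹ := by
  rw [mul_inv_eq_iff_eq_mul, ← td_inv]
  apply ext_frame' Fr hV0
  · intro x
    obtain ⟨u, y, h1, h2⟩ := hn x
    rw [WittWeyl.mul_apply', WittWeyl.mul_apply', td_b, map_smul, h1, map_smul, td_b, ev_inv, h2, inv_inv,
      smul_comm]
  · intro w hw
    rw [WittWeyl.mul_apply', WittWeyl.mul_apply', td_V0 Fr _ hw, td_V0 Fr _ (h0 w hw)]

end Cfsg.Agent.H155.TG.Wf
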