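import Cfsg.Agent.H155.TG.WLd

/-!
# Levi data of the classical groups of type `C_n` and `D_n` (helper155)
-/

set_option autoImplicit false
set_option linter.unusedSectionVars false
set_option linter.unusedSimpArgs false
set_option linter.unnecessarySeqFocus false

namespace Cfsg.Agent.H155.TG.Wf

open CoxeterSystem Cfsg.Agent.ChevalleyStructure.CoxeterGeom Cfsg.Agent.Tits.Roots
open Cfsg.Agent.Nodes.BNOf Cfsg.Agent.KFacts.RgdOpp Cfsg.Agent.Nodes.StabComb Cfsg.Agent.Nodes.Bruhat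
open Cfsg.Agent.TitsThree Cfsg.Agent.TitsThree.Siegel Cfsg.Agent.TitsThree.WittFrame Cfsg.Agent.TitsThree.WittWeyl
open Cfsg.Agent.Nodes Cfsg.Agent.Nodes.WittRoot
open Cfsg.Agent.Nodes.WittRGD (Tor)

/-! ### combinatorics -/

section Comb

variable {N m : ℕ}

/-- the sign -/
def sgn (x : Fin N × Bool) : ℤ := if x.2 then 1 else -1

/-- partial sums of weights -/
def ps (a b : Fin N × Bool) (q : Fin N) : ℤ := (if a.1 ≤ q then sgn a else 0) + (if b.1 ≤ q then sgn b else 0)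

theorem sum_wt (x : Fin N × Bool) (q : Fin N) : ∑ k ∈ Finset.Iic q, TypeC.wt x k = if x.1 ≤ q then sgn x else 0 := by
  unfold TypeC.wt sgn
  rw [Finset.sum_pi_single']
  simp only [Finset.mem_Iic]

theorem sum_wt2 {a b : Fin N × Bool} (q : Fin N) :
    ∑ k ∈ Finset.Iic q, (TypeC.wt a + TypeC.wt b) k = ps a b q := by
  simp only [Pi.add_apply, Finset.sum_add_distrib, sum_wt]
  rfl

theorem ps_swap (a b : Fin N × Bool) (q : Fin N) : ps a b q = ps b a q := add_comm _ _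

/-- the pairs with vanishing partial sums from `m - 1` on -/
theorem pair_comb (hm : 1 ≤ m) (hmN : m ≤ N) {a b : Fin N × Bool} (hab : a.1 ≠ b.1 ∨ a = b)
    (h : ∀ q : Fin N, m ≤ q.val + 1 → ps a b q = 0) :
    ∃ i j : Fin m, i ≠ j ∧ ((a = (ci hmN i, true) ∧ b = (ci hmN j, false)) ∨
      (b = (ci hmN i, true) ∧ a = (ci hmN j, false))) := by
  have key : ∀ i j : Fin N, i ≠ j → (∀ q : Fin N, m ≤ q.val + 1 → (i ≤ q ↔ j ≤ q)) → i.val < m ∧ j.val < m := by
    intro i j hij h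
    have hi := i.2
    have hj := j.2
    have hij' : i.val ≠ j.val := fun e => hij (Fin.ext e)
    have h1 : ∀ q : ℕ, q < N → m ≤ q + 1 → (i.val ≤ q ↔ j.val ≤ q) := fun q hq hmq => h ⟨q, hq⟩ hmq
    constructor
    · by_contra hc
      have h2 := h1 (i.val - 1) (by omega) (by omega)
      have h3 := h1 i.val hi (by omega)
      omega
    · by_contra hc
      have h2 := h1 (j.val - 1) (by omega) (by omega)
      have h3 := h1 j.val hj (by omega)
      omega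
  have hlast := h ⟨N - 1, by omega⟩ (by show m ≤ N - 1 + 1; omega)
  have hle : ∀ x : Fin N, x ≤ (⟨N - 1, by omega⟩ : Fin N) := fun x => by
    rw [Fin.le_def]; show x.val ≤ N - 1; have := x.2; omega
  unfold ps at hlast h
  rw [if_pos (hle _), if_pos (hle _)] at hlast
  obtain ⟨i, s⟩ := a
  obtain ⟨j, t⟩ := b
  unfold sgn at hlast h
  cases s <;> cases t
  · norm_num at hlast
  · have hij : i ≠ j := by
      rintro rfl
      rcases hab with h1 | h1
      · exact h1 rfl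
      · have := congrArg Prod.snd h1; simp at this
    obtain ⟨h2, h3⟩ := key i j hij (fun q hq => by
      have := h q hq
      simp only [if_true, Bool.false_eq_true, if_false] at this
      split_ifs at this with h4 h5 h5
      · exact ⟨fun _ => h5, fun _ => h4⟩
      · norm_num at this
      · norm_num at this
      · exact ⟨fun h6 => absurd h6 h4, fun h6 => absurd h6 h5⟩)
    exact ⟨⟨j, h3⟩, ⟨i, h2⟩, fun e => hij (Fin.ext (Fin.mk.inj_iff.1 e).symm), Or.inr ⟨rfl, rfl⟩⟩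
  · have hij : i ≠ j := by
      rintro rfl
      rcases hab with h1 | h1
      · exact h1 rfl
      · have := congrArg Prod.snd h1; simp at this
    obtain ⟨h2, h3⟩ := key i j hij (fun q hq => by
      have := h q hq
      simp only [if_true, Bool.false_eq_true, if_false] at this
      split_ifs at this with h4 h5 h5
      · exact ⟨fun _ => h5, fun _ => h4⟩
      · norm_num at this
      · norm_num at this
      · exact ⟨fun h6 => absurd h6 h4, fun h6 => absurd h6 h5⟩)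
    exact ⟨⟨i, h2⟩, ⟨j, h3⟩, fun e => hij (Fin.ext (Fin.mk.inj_iff.1 e)), Or.inl ⟨rfl, rfl⟩⟩
  · norm_num at hlast

theorem pair_pos (hmN : m ≤ N) {i j : Fin m} (hij : i ≠ j)
    (h : ∀ q : Fin N, 0 ≤ ps (ci hmN i, true) (ci hmN j, false) q) : i < j := by
  have h1 := h (ci hmN j)
  unfold ps sgn at h1
  simp only [le_refl, if_true, Bool.false_eq_true, if_false] at h1
  split_ifs at h1 with h2
  · exact lt_of_le_of_ne (show i.val ≤ j.val from h2) hij
  · norm_num at h1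

/-- partial sums of the pairs inside -/
theorem ps_zero (hmN : m ≤ N) (i j : Fin m) {q : Fin N} (hq : m ≤ q.val + 1) :
    ps (ci hmN i, true) (ci hmN j, false) q = 0 := by
  unfold ps sgn
  have h1 : ∀ i : Fin m, ci hmN i ≤ q := fun i => by
    rw [Fin.le_def]; show i.val ≤ q.val; have := i.2; omega
  rw [if_pos (h1 i), if_pos (h1 j)]
  simp

end Comb

variable {F : Type*} [Field F] {V : Type*} [AddCommGroup V] [Module F V] {H : HForm F V}

/-! ### products of commuting flips -/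

theorem flip_list {N : ℕ} (Fr : Frame H (Fin N)) {α : Type*} (g : α → V ≃ₗ[F] V) (s : α → Fin N → Prop)
    (hs : ∀ a b i, s a i → s b i → a = b) (hg1 : ∀ a x, s a x.1 → ∃ u : F, u ≠ 0 ∧ g a (Fr.b x) = u • Fr.b (neg x))
    (hg2 : ∀ a x, ¬ s a x.1 → g a (Fr.b x) = Fr.b x) (L : List α) (hL : L.Nodup) (x : Fin N × Bool) :
    ((∃ a ∈ L, s a x.1) → ∃ u : F, u ≠ 0 ∧ (L.map g).prod (Fr.b x) = u • Fr.b (neg x)) ∧
      ((¬ ∃ a ∈ L, s a x.1) → (L.map g).prod (Fr.b x) = Fr.b x) := by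
  induction L with
  | nil =>
    refine ⟨?_, fun _ => rfl⟩
    rintro ⟨a, ha, -⟩
    simp at ha
  | cons c L ih =>
    rw [List.nodup_cons] at hL
    obtain ⟨ih1, ih2⟩ := ih hL.2
    rw [List.map_cons, List.prod_cons, WittWeyl.mul_apply']
    constructor
    · rintro ⟨a, ha, hsa⟩
      by_cases h1 : ∃ a ∈ L, s a x.1
      · obtain ⟨u, hu, h2⟩ := ih1 h1
        rw [h2, map_smul]
        refine ⟨u, hu, ?_⟩
        rw [hg2 c (neg x)]
        rintro h3
        obtain ⟨b, hb, hsb⟩ := h1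
        have := hs c b x.1 h3 hsb
        subst this
        exact hL.1 hb
      · rw [ih2 h1]
        rcases List.mem_cons.1 ha with rfl | h2
        · exact hg1 a x hsa
        · exact absurd ⟨a, h2, hsa⟩ h1
    · intro h1
      rw [ih2 (fun ⟨a, ha, hsa⟩ => h1 ⟨a, List.mem_cons_of_mem _ ha, hsa⟩)]
      exact hg2 c x (fun h2 => h1 ⟨c, List.mem_cons_self, h2⟩)

theorem list_prod_mem {G : Type*} [Group G] (K : Subgroup G) {α : Type*} (g : α → G) (hg : ∀ a, g a ∈ K) (L : List α) :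
    (L.map g).prod ∈ K := by
  apply Subgroup.list_prod_mem
  intro x hx
  obtain ⟨a, -, rfl⟩ := List.mem_map.1 hx
  exact hg a

theorem V0_list {N : ℕ} (Fr : Frame H (Fin N)) {α : Type*} (g : α → V ≃ₗ[F] V) (hg : ∀ a, ∀ w ∈ Fr.V0, g a w ∈ Fr.V0)
    (L : List α) : ∀ w ∈ Fr.V0, (L.map g).prod w ∈ Fr.V0 := by
  induction L with
  | nil => exact fun w hw => hw
  | cons c L ih =>
    intro w hw
    rw [List.map_cons, List.prod_cons, WittWeyl.mul_apply']
    exact hg c _ (ih w hw)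

/-! ### type C -/

section TypeC

open Cfsg.Agent.Nodes.TypeC

variable {n m : ℕ} (Fr : Frame H (Fin n)) {W : Type*} [Group W] (cs : CoxeterSystem (CoxeterMatrix.B n) W)

theorem psumC (x : Fin n → ℤ) (q : Fin n) : ∑ k ∈ Finset.Iic q, ee x k = (if (q : ℕ) + 1 < n then 1 else 2) * x q := by
  have h1 : ∀ k, ee x k = ∑ j, x j * bt j k := by
    intro k
    simp [ee, Finset.sum_apply]
  simp only [h1]
  rw [Finset.sum_comm]
  simp only [← Finset.mul_sum, sum_bt]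
  rw [Finset.sum_eq_single q]
  · simp only [if_true]
    split_ifs <;> ring
  · intro j _ hj
    simp [Ne.symm hj]
  · simp

theorem psC {x : Fin n → ℤ} {a b : Fin n × Bool} (e : ee x = TypeC.wt a + TypeC.wt b) (q : Fin n) :
    ps a b q = (if (q : ℕ) + 1 < n then 1 else 2) * x q := by
  rw [← psumC, e, sum_wt2]

theorem zeroC {x : Fin n → ℤ} (hmn : m ≤ n) {i j : Fin m} (e : ee x = TypeC.wt (ci hmn i, true) + TypeC.wt (ci hmn j, false))
    (q : Fin n) (hq : q ∉ {j : Fin n | j.val + 1 < m}) : x q = 0 := by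
  have h1 := psC e q
  have hq' : ¬ q.val + 1 < m := hq
  rw [ps_zero hmn i j (by omega)] at h1
  split_ifs at h1 <;> omega

theorem combC (hm : 1 ≤ m) (hmn : m ≤ n) {x : Fin n → ℤ} {a b : Fin n × Bool} (hab : Ok a b)
    (e : ee x = TypeC.wt a + TypeC.wt b) (h : ∀ q, q ∉ {j : Fin n | j.val + 1 < m} → x q = 0) :
    ∃ i j : Fin m, i ≠ j ∧ ((a = (ci hmn i, true) ∧ b = (ci hmn j, false)) ∨
      (b = (ci hmn i, true) ∧ a = (ci hmn j, false))) := by
  refine pair_comb hm hmn hab fun q hq => ?_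
  rw [psC e q, h q (by show ¬ q.val + 1 < m; omega), mul_zero]

/-- a positive root supported in `J` -/
theorem combC' (hm : 1 ≤ m) (hmn : m ≤ n) {x : Fin n → ℤ} (hx : x ∈ PosJ cs (isCartan n) {j : Fin n | j.val + 1 < m}) :
    ∃ i j : Fin m, i < j ∧ ee x = TypeC.wt (ci hmn i, true) + TypeC.wt (ci hmn j, false) := by
  obtain ⟨h1, h2, h3⟩ := hx
  obtain ⟨a, b, hab, e⟩ := TypeC.exists_of_isRoot cs h1
  have key : ∀ i j : Fin m, i ≠ j → ee x = TypeC.wt (ci hmn i, true) + TypeC.wt (ci hmn j, false) → i < j := by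
    intro i j hij e
    refine pair_pos hmn hij fun q => ?_
    rw [psC e q]
    have h4 : 0 ≤ x q := h2 q
    split_ifs <;> omega
  obtain ⟨i, j, hij, ⟨rfl, rfl⟩ | ⟨rfl, rfl⟩⟩ := combC hm hmn hab e h3
  · exact ⟨i, j, key i j hij e, e⟩
  · rw [add_comm] at e
    exact ⟨i, j, key i j hij e, e⟩

theorem notC (hmn : m ≤ n) {x : Fin n → ℤ} (hx : x ∈ NotJ cs (isCartan n) {j : Fin n | j.val + 1 < m}) (i j : Fin m) :
    ee x ≠ TypeC.wt (ci hmn i, true) + TypeC.wt (ci hmn j, false) := by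
  obtain ⟨-, -, k, hk, hk0⟩ := hx
  intro e
  rw [zeroC hmn e k hk] at hk0
  exact lt_irrefl _ hk0

theorem Z_inj {x : Fin n × Bool} {p q : Fr.Adm} (h : Fr.Z x p = Fr.Z x q) : p = q := by
  have h1 := Z_apply_neg Fr x p
  rw [h, Z_apply_neg Fr x q] at h1
  have hη := Fr.η_ne x
  have h2 : p.c = q.c := by
    have h3 := congrArg (fun v => H.h v (Fr.b (neg x))) h1
    simp only [H.add_left, H.smul_left, Fr.h0' _ (Fr.ok_mem p.ok), Fr.h0' _ (Fr.ok_mem q.ok), mul_zero,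
      add_zero] at h3
    have h4 := add_left_cancel h3
    have h5 : H.h (Fr.b x) (Fr.b (neg x)) ≠ 0 := by rw [Fr.hb_self_neg]; exact Fr.η_ne _
    exact (mul_right_cancel₀ hη (mul_right_cancel₀ h5 h4)).symm
  have h3 : p.w = q.w := by
    rw [h2] at h1
    have h4 := add_left_cancel (add_right_cancel h1)
    have h5 : Fr.η x • (q.w - p.w) = 0 := by rw [smul_sub, h4, sub_self]
    exact (sub_eq_zero.1 ((smul_eq_zero.1 h5).resolve_left hη)).symm
  exact Frame.Adm.ext h3 h2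

variable {G0 : Subgroup (V ≃ₗ[F] V)} {k : ℕ}
  (hV0 : ∀ v, (∀ x, H.h v (Fr.b x) = 0) → v ∈ Fr.V0) (hσ : ∀ x, H.σ x = x)
  (hiso : ∀ g ∈ G0, H.IsIso g)

include hσ hiso in
theorem td_conj_Z {l : Fin n → Fˣ} (hl : td Fr l ∈ G0) (x : Fin n × Bool) (p : Fr.Adm) :
    td Fr l * Fr.Z x p * (td Fr l)⁻¹ = Fr.Z x (Frame.Adm.smul (ev l x : F) p) := by
  rw [conj_Z Fr (hiso _ hl) (td_b Fr l x) p p (td_V0 Fr l (Fr.ok_mem p.ok)) rfl, hσ]

include hV0 hσ hiso in
/-- **Levi data of type `C_n`.** -/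
theorem ldC (hm : 1 ≤ m) (hmn : m ≤ n) (l : Fin n → Fˣ) (hl : td Fr l ∈ G0)
    (const : ∀ i j : Fin m, l (ci hmn i) = l (ci hmn j))
    (tor : ∀ δ : Fˣ, ∃ l' : Fin n → Fˣ, td Fr l' ∈ G0 ∧ ∀ i : Fin m, l' (ci hmn i) = dl δ i)
    (e1 : ∀ a b : Fin n × Bool, a.1 ≠ b.1 → (ev l a : F) * ev l b = 1 → a.2 ≠ b.2 ∧ a.1.val < m ∧ b.1.val < m)
    (e2 : ∀ (x : Fin n × Bool) (p : Fr.Adm), Frame.Adm.smul (ev l x : F) p = p → p = 1)
    {p0 : Fr.Adm} (hp0 : p0.c ≠ 0) (hZ : ∀ i, nZ Fr (i, true) p0 ∈ G0) :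
    LD cs (isCartan n) (Tor Fr G0) (WittRoot.rg Fr) (hhC Fr k) {j : Fin n | j.val + 1 < m} m (phW Fr hmn) (td Fr l) ∧
    ∃ n₀ ∈ G0, n₀ * td Fr l * n₀⁻¹ = (td Fr l)⁻¹ ∧ ∃ B ∈ RU F m, ∃ C ∈ RU F m,
      n₀ * phW Fr hmn B * n₀⁻¹ = phW Fr hmn C := by
  classical
  have hfix : ∀ (x : Fin n → ℤ) (a b : Fin n × Bool), Ok a b → ee x = TypeC.wt a + TypeC.wt b →
      (∀ i j : Fin m, ee x ≠ TypeC.wt (ci hmn i, true) + TypeC.wt (ci hmn j, false)) →
      (∀ i j : Fin m, ee (-x) ≠ TypeC.wt (ci hmn i, true) + TypeC.wt (ci hmn j, false)) →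
      ∀ u ∈ WittRoot.rg Fr x, td Fr l * u * (td Fr l)⁻¹ = u → u = 1 := by
    intro x a b hab e h1 h1' u hu h2
    rw [rg_eq Fr hab e] at hu
    rcases hab with h | rfl
    · rw [PG_ne Fr h] at hu
      obtain ⟨t, rfl⟩ := hu
      rw [td_conj_X Fr hσ hiso hl h] at h2
      have h3 := X_inj Fr h h2
      by_cases ht : t = 0
      · rw [ht, Fr.X_zero]
      · exfalso
        obtain ⟨h4, h5, h6⟩ := e1 a b h ((mul_eq_right₀ ht).1 h3)
        obtain ⟨i, s⟩ := a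
        obtain ⟨j, t'⟩ := b
        simp only at h4 h5 h6
        cases s <;> cases t'
        · exact h4 rfl
        · apply h1 ⟨j, h6⟩ ⟨i, h5⟩
          rw [e]; exact add_comm _ _
        · exact h1 ⟨i, h5⟩ ⟨j, h6⟩ e
        · exact h4 rfl
    · rw [PG_self] at hu
      obtain ⟨q, rfl⟩ := hu
      rw [td_conj_Z Fr hσ hiso hl] at h2
      rw [e2 a q (Z_inj Fr h2), Fr.Z_one]
  have hneg : ∀ (x : Fin n → ℤ), x ∈ NotJ cs (isCartan n) {j : Fin n | j.val + 1 < m} → ∀ i j : Fin m,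
      ee (-x) ≠ TypeC.wt (ci hmn i, true) + TypeC.wt (ci hmn j, false) := by
    intro x hx i j e
    apply notC cs hmn hx j i
    have h1 : ee x = -ee (-x) := by rw [← ee_neg, _root_.neg_neg]
    have h2 : (ci hmn i, false) = ng (ci hmn i, true) := rfl
    have h3 : (ci hmn j, true) = ng (ci hmn j, false) := rfl
    rw [h1, e, h2, h3, wt_ng, wt_ng]; abel
  -- the real element
  obtain ⟨n₀, hn₀⟩ : ∃ n₀ : V ≃ₗ[F] V, n₀ = ((List.finRange n).map fun i => nZ Fr (i, true) p0).prod := ⟨_, rfl⟩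
  have hc1 : ∀ x : Fin n × Bool, ∃ u : F, u ≠ 0 ∧ n₀ (Fr.b x) = u • Fr.b (neg x) := by
    intro x
    rw [hn₀]
    refine (flip_list Fr (fun i => nZ Fr (i, true) p0) (fun a i => i = a) (fun a b i h1 h2 => h1.symm.trans h2) ?_ ?_
      (List.finRange n) (List.nodup_finRange n) x).1 ⟨x.1, List.mem_finRange _, rfl⟩
    · rintro a ⟨i, s⟩ (rfl : i = a)
      cases s
      · exact ⟨_, mul_ne_zero (Fr.η_ne _) hp0, nZ_apply_neg Fr (i, true) p0 hp0⟩
      · refine ⟨_, ?_, nZ_apply_self Fr (i, true) p0 hp0⟩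
        rw [hσ]
        exact mul_ne_zero (mul_ne_zero H.ε_ne (inv_ne_zero (Fr.η_ne _))) (inv_ne_zero hp0)
    · intro a x hx
      exact nZ_apply_of_ne Fr (x := (a, true)) hx p0
  have hn₀G : n₀ ∈ G0 := by
    rw [hn₀]; exact list_prod_mem G0 _ hZ _
  have hn₀V : ∀ w ∈ Fr.V0, n₀ w ∈ Fr.V0 := by
    rw [hn₀]
    refine V0_list Fr _ (fun a w hw => ?_) _
    rw [nZ_apply_V0 Fr (a, true) p0 hp0 hw]
    exact Submodule.add_mem _ hw (Submodule.smul_mem _ _ (Fr.ok_mem p0.ok))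
  have hreal1 : n₀ * td Fr l * n₀⁻¹ = (td Fr l)⁻¹ := by
    refine inv_of Fr hV0 hσ hn₀V fun x => ?_
    obtain ⟨u, -, hu⟩ := hc1 x
    exact ⟨u, neg x, hu, ev_neg l x⟩
  have hreal2 := real_of Fr hV0 hσ hm hmn (hiso n₀ hn₀G) (fun i => by
    obtain ⟨u, hu, h1⟩ := hc1 (ci hmn i, true)
    obtain ⟨v, hv, h2⟩ := hc1 (ci hmn i, false)
    exact ⟨u, v, hu, hv, h1, h2⟩)
  refine ⟨ldW Fr hV0 hσ cs (isCartan n) (Tor Fr G0) (WittRoot.rg Fr) (hhC Fr k) _ hm hmn ?_ ?_ l ?_ ?_ ?_ ?_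
    ⟨hl, mono_td Fr l⟩ (fun t ht => hiso t ht.1) ?_ ?_ const ?_ ⟨n₀, hreal1, hreal2⟩, n₀, hn₀G, hreal1, hreal2⟩
  · rintro ⟨j, hj⟩
    have : j.val + 1 < m := hj
    omega
  · intro hJ
    by_contra h1
    exact hJ ⟨⟨0, by omega⟩, show 0 + 1 < m by omega⟩
  · -- up
    intro r hr u hu
    obtain ⟨i, j, hij, e⟩ := combC' cs hm hmn hr
    have hne : (ci hmn i, true).1 ≠ ((ci hmn j, false) : Fin n × Bool).1 := ci_ne hmn hij.ne
    rw [rg_eq Fr (Or.inl hne) e, PG_ne Fr hne] at hu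
    obtain ⟨t, rfl⟩ := hu
    exact ⟨i, j, hij, t, rfl⟩
  · -- lo
    intro r hr u hu
    obtain ⟨i, j, hij, e⟩ := combC' cs hm hmn hr
    have hne : (ci hmn j, true).1 ≠ ((ci hmn i, false) : Fin n × Bool).1 := ci_ne hmn hij.ne'
    have e' : ee (-r) = TypeC.wt (ci hmn j, true) + TypeC.wt (ci hmn i, false) := by
      have h2 : (ci hmn i, false) = ng (ci hmn i, true) := rfl
      have h3 : (ci hmn j, true) = ng (ci hmn j, false) := rfl
      rw [ee_neg, e, h2, h3, wt_ng, wt_ng]; abel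
    rw [rg_eq Fr (Or.inl hne) e', PG_ne Fr hne] at hu
    obtain ⟨t, rfl⟩ := hu
    exact ⟨i, j, hij, t, rfl⟩
  · -- di
    intro j hj c hc
    have hj' : j.val + 1 < m := hj
    refine ⟨⟨j, by omega⟩, ⟨j.val + 1, hj'⟩, fun h => by have := Fin.mk.inj_iff.1 h; omega, Units.mk0 c hc, ?_⟩
    rw [hhC_eq Fr k j hc]
    unfold crC
    rw [if_pos (by omega), nx_of_lt (by omega)]
    rfl
  · -- ran
    intro i j hij t
    have hne : (ci hmn i, true).1 ≠ ((ci hmn j, false) : Fin n × Bool).1 := ci_ne hmn hij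
    obtain ⟨z, hz, ez⟩ := rt_of_ok (cs := cs) (a := (ci hmn i, true)) (b := (ci hmn j, false)) (Or.inl hne)
    refine X_le_LJ (x := z) ⟨hz, fun q hq => zeroC hmn ez q hq⟩ ?_
    rw [rg_eq Fr (Or.inl hne) ez, PG_ne Fr hne]
    exact ⟨t, rfl⟩
  · intro r hr u hu
    obtain ⟨a, b, hab, e⟩ := TypeC.exists_of_isRoot cs hr.1
    exact hfix r a b hab e (notC cs hmn hr) (hneg r hr) u hu
  · intro r hr u hu
    obtain ⟨a, b, hab, e⟩ := TypeC.exists_of_isRoot cs hr.1.neg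
    exact hfix (-r) a b hab e (hneg r hr) (by rw [_root_.neg_neg]; exact notC cs hmn hr) u hu
  · intro δ
    obtain ⟨l', h1, h2⟩ := tor δ
    exact ⟨l', ⟨h1, mono_td Fr l'⟩, h2⟩

end TypeC

end Cfsg.Agent.H155.TG.Wf
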