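import Cfsg.Agent.H155.TG.WLdC

/-!
# Levi data of the classical groups of type `D_n` (helper155)
-/

set_option autoImplicit false
set_option linter.unusedSectionVars false
set_option linter.unusedSimpArgs false
set_option linter.unnecessarySeqFocus false

namespace Cfsg.Agent.H155.TG.Wf

open CoxeterSystem Cfsg.Agent.ChevalleyStructure.CoxeterGeom Cfsg.Agent.Tits.Roots
open Cfsg.Agent.Nodes.BNOf Cfsg.Agent.KFacts.RgdOpp Cfsg.Agent.Nodes.StabComb Cfsg.Agent.Nodes.Bruhat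
open Cfsg.Agent.TitsThree Cfsg.Agent.TitsThree.Siegel Cfsg.Agent.TitsThree.WittFrame Cfsg.Agent.TitsThree.WittWeyl
open Cfsg.Agent.Nodes Cfsg.Agent.Nodes.WittRoot
open Cfsg.Agent.Nodes.WittRGD (Tor)
open Cfsg.Agent.Nodes.TypeC (ng wt_ng)
open Cfsg.Agent.Nodes.TypeD

variable {F : Type*} [Field F] {V : Type*} [AddCommGroup V] [Module F V] {H : HForm F V}

variable {n m : ℕ} (Fr : Frame H (Fin (n + 2))) {W : Type*} [Group W] (cs : CoxeterSystem (M n) W)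

theorem psumD (x : Fin (n + 2) → ℤ) (m : Fin (n + 2)) : ∑ k ∈ Finset.Iic m, ee x k =
    if (m : ℕ) < n then x m else if (m : ℕ) = n then x m + x (Fin.last (n + 1)) else 2 * x m := by
  have h1 : ∀ k, ee x k = ∑ j, x j * bt j k := by
    intro k
    simp [ee, Finset.sum_apply]
  simp only [h1]
  rw [Finset.sum_comm]
  simp only [← Finset.mul_sum, sum_bt]
  have hm := m.2
  rw [Fin.sum_univ_castSucc]
  have h2 : ∀ i : Fin (n + 1), ((i.castSucc : Fin (n + 2)) : ℕ) + 1 < n + 2 := fun i => by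
    have := i.2
    simp only [Fin.val_castSucc]
    omega
  have h3 : ¬ ((Fin.last (n + 1) : Fin (n + 2)) : ℕ) + 1 < n + 2 := by simp
  simp only [h2, h3, if_true, if_false]
  by_cases h4 : (m : ℕ) < n + 1
  · have h5 : m = (⟨m, h4⟩ : Fin (n + 1)).castSucc := by ext; simp
    rw [Finset.sum_eq_single (⟨m, h4⟩ : Fin (n + 1))]
    · rw [← h5, if_pos rfl]
      split_ifs <;> first | omega | ring
    · intro j _ hj
      rw [if_neg, mul_zero]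
      intro h'
      apply hj
      ext
      have := congrArg Fin.val h'
      simpa using this.symm
    · simp
  · have h5 : m = Fin.last (n + 1) := by ext; simp; omega
    rw [Finset.sum_eq_zero]
    · subst h5
      have h6 : ((Fin.last (n + 1) : Fin (n + 2)) : ℕ) = n + 1 := by simp
      rw [h6, if_neg (by omega), if_pos rfl, if_neg (by omega), if_neg (by omega)]
      ring
    · intro j _
      rw [if_neg, mul_zero]
      rintro h'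
      have := congrArg Fin.val h'
      have hj := j.2
      simp at this
      omega

theorem psD {x : Fin (n + 2) → ℤ} {a b : Fin (n + 2) × Bool} (e : ee x = TypeC.wt a + TypeC.wt b) (q : Fin (n + 2)) :
    ps a b q = if (q : ℕ) < n then x q else if (q : ℕ) = n then x q + x (Fin.last (n + 1)) else 2 * x q := by
  rw [← psumD, e, sum_wt2]

theorem zeroD {x : Fin (n + 2) → ℤ} (hmn' : m ≤ n + 2) {i j : Fin m}
    (e : ee x = TypeC.wt (ci hmn' i, true) + TypeC.wt (ci hmn' j, false)) (hmn : m ≤ n + 1)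
    (q : Fin (n + 2)) (hq : q ∉ {j : Fin (n + 2) | j.val + 1 < m}) : x q = 0 := by
  have hl : x (Fin.last (n + 1)) = 0 := by
    have h1 := psD e (Fin.last (n + 1))
    rw [ps_zero hmn' i j (by simp; omega)] at h1
    simp only [Fin.val_last] at h1
    rw [if_neg (by omega), if_neg (by omega)] at h1
    omega
  have h1 := psD e q
  have hq' : ¬ q.val + 1 < m := hq
  rw [ps_zero hmn' i j (by omega), hl] at h1
  split_ifs at h1 <;> omega

theorem combD (hm : 1 ≤ m) (hmn' : m ≤ n + 2) (hmn : m ≤ n + 1) {x : Fin (n + 2) → ℤ} {a b : Fin (n + 2) × Bool}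
    (hab : Ok a b) (e : ee x = TypeC.wt a + TypeC.wt b) (h : ∀ q, q ∉ {j : Fin (n + 2) | j.val + 1 < m} → x q = 0) :
    ∃ i j : Fin m, i ≠ j ∧ ((a = (ci hmn' i, true) ∧ b = (ci hmn' j, false)) ∨
      (b = (ci hmn' i, true) ∧ a = (ci hmn' j, false))) := by
  refine pair_comb hm hmn' (Or.inl hab) fun q hq => ?_
  rw [psD e q, h q (by show ¬ q.val + 1 < m; omega), h (Fin.last (n + 1)) (by
    show ¬ (Fin.last (n + 1)).val + 1 < m
    rw [Fin.val_last]; omega)]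
  split_ifs <;> rfl

/-- a positive root supported in `J` -/
theorem combD' (hm : 1 ≤ m) (hmn' : m ≤ n + 2) (hmn : m ≤ n + 1) {x : Fin (n + 2) → ℤ}
    (hx : x ∈ PosJ cs (isCartan n) {j : Fin (n + 2) | j.val + 1 < m}) :
    ∃ i j : Fin m, i < j ∧ ee x = TypeC.wt (ci hmn' i, true) + TypeC.wt (ci hmn' j, false) := by
  obtain ⟨h1, h2, h3⟩ := hx
  obtain ⟨a, b, hab, e⟩ := TypeD.exists_of_isRoot cs h1
  have key : ∀ i j : Fin m, i ≠ j → ee x = TypeC.wt (ci hmn' i, true) + TypeC.wt (ci hmn' j, false) → i < j := by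
    intro i j hij e
    refine pair_pos hmn' hij fun q => ?_
    rw [psD e q]
    have h4 : 0 ≤ x q := h2 q
    have h5 : 0 ≤ x (Fin.last (n + 1)) := h2 _
    split_ifs <;> omega
  obtain ⟨i, j, hij, ⟨rfl, rfl⟩ | ⟨rfl, rfl⟩⟩ := combD hm hmn' hmn hab e h3
  · exact ⟨i, j, key i j hij e, e⟩
  · have e' : ee x = TypeC.wt (ci hmn' i, true) + TypeC.wt (ci hmn' j, false) := e.trans (add_comm _ _)
    exact ⟨i, j, key i j hij e', e'⟩

theorem notD (hmn' : m ≤ n + 2) (hmn : m ≤ n + 1) {x : Fin (n + 2) → ℤ}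
    (hx : x ∈ NotJ cs (isCartan n) {j : Fin (n + 2) | j.val + 1 < m}) (i j : Fin m) :
    ee x ≠ TypeC.wt (ci hmn' i, true) + TypeC.wt (ci hmn' j, false) := by
  obtain ⟨-, -, k, hk, hk0⟩ := hx
  intro e
  rw [zeroD hmn' e hmn k hk] at hk0
  exact lt_irrefl _ hk0

/-- the pairs of coordinates flipped -/
noncomputable def fp (a : Fin ((n + 2) / 2)) : V ≃ₗ[F] V :=
  nX Fr (⟨2 * a, by omega⟩, true) (⟨2 * a + 1, by omega⟩, true) 1 *
    nX Fr (⟨2 * a, by omega⟩, true) (⟨2 * a + 1, by omega⟩, false) 1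

variable {G0 : Subgroup (V ≃ₗ[F] V)}
  (hV0 : ∀ v, (∀ x, H.h v (Fr.b x) = 0) → v ∈ Fr.V0) (hσ : ∀ x, H.σ x = x)
  (hiso : ∀ g ∈ G0, H.IsIso g) (hX : ∀ a b t, Fr.X a b t ∈ G0)

include hσ in
theorem fp_flip (a : Fin ((n + 2) / 2)) (x : Fin (n + 2) × Bool) (hx : x.1.val = 2 * a ∨ x.1.val = 2 * a + 1) :
    ∃ u : F, u ≠ 0 ∧ fp Fr a (Fr.b x) = u • Fr.b (neg x) := by
  have ha := a.2
  have hi : 2 * a.val < n + 2 := by omega
  have hl : 2 * a.val + 1 < n + 2 := by omega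
  have h1 : (((⟨2 * a, hi⟩, true) : Fin (n + 2) × Bool)).1 ≠ ((⟨2 * a + 1, hl⟩, true) : Fin (n + 2) × Bool).1 := by
    intro h; have := congrArg Fin.val h; simp at this
  have h2 : (((⟨2 * a, hi⟩, true) : Fin (n + 2) × Bool)).1 ≠ ((⟨2 * a + 1, hl⟩, false) : Fin (n + 2) × Bool).1 := h1
  have hη := Fr.η_ne (⟨2 * a, hi⟩, true)
  have hη1 := Fr.η_ne (⟨2 * a + 1, hl⟩, true)
  have hη2 := Fr.η_ne (⟨2 * a + 1, hl⟩, false)
  have h3 := H.ε_ne
  have c1 : H.ε⁻¹ * Fr.η (⟨2 * a, hi⟩, true) * Fr.η (⟨2 * a + 1, hl⟩, true) * H.σ 1 ≠ 0 := by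
    rw [hσ]
    exact mul_ne_zero (mul_ne_zero (mul_ne_zero (inv_ne_zero h3) hη) hη1) one_ne_zero
  have c2 : H.ε⁻¹ * Fr.η (⟨2 * a, hi⟩, true) * Fr.η (⟨2 * a + 1, hl⟩, false) * H.σ 1 ≠ 0 := by
    rw [hσ]
    exact mul_ne_zero (mul_ne_zero (mul_ne_zero (inv_ne_zero h3) hη) hη2) one_ne_zero
  have A1 : nX Fr (⟨2 * a, hi⟩, true) (⟨2 * a + 1, hl⟩, true) 1 (Fr.b (⟨2 * a, hi⟩, true)) =
      (-1 : F) • Fr.b (⟨2 * a + 1, hl⟩, false) := by
    rw [nX_apply_self Fr h1 one_ne_zero, inv_one, one_smul, neg_one_smul]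
    rfl
  have A2 : nX Fr (⟨2 * a, hi⟩, true) (⟨2 * a + 1, hl⟩, true) 1 (Fr.b (⟨2 * a + 1, hl⟩, true)) =
      (H.ε⁻¹ * Fr.η (⟨2 * a, hi⟩, true) * Fr.η (⟨2 * a + 1, hl⟩, true) * H.σ 1)⁻¹ • Fr.b (⟨2 * a, hi⟩, false) := by
    rw [nX_apply_self' Fr h1 one_ne_zero]
    rfl
  have A3 : nX Fr (⟨2 * a, hi⟩, true) (⟨2 * a + 1, hl⟩, true) 1 (Fr.b (⟨2 * a + 1, hl⟩, false)) =
      (1 : F) • Fr.b (⟨2 * a, hi⟩, true) := nX_apply_neg Fr h1 one_ne_zero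
  have A4 : nX Fr (⟨2 * a, hi⟩, true) (⟨2 * a + 1, hl⟩, true) 1 (Fr.b (⟨2 * a, hi⟩, false)) =
      (-(H.ε⁻¹ * Fr.η (⟨2 * a, hi⟩, true) * Fr.η (⟨2 * a + 1, hl⟩, true) * H.σ 1)) • Fr.b (⟨2 * a + 1, hl⟩, true) :=
    (nX_apply_neg' Fr h1 one_ne_zero).trans (neg_smul _ _).symm
  have B1 : nX Fr (⟨2 * a, hi⟩, true) (⟨2 * a + 1, hl⟩, false) 1 (Fr.b (⟨2 * a, hi⟩, true)) =
      (-1 : F) • Fr.b (⟨2 * a + 1, hl⟩, true) := by
    rw [nX_apply_self Fr h2 one_ne_zero, inv_one, one_smul, neg_one_smul]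
    rfl
  have B2 : nX Fr (⟨2 * a, hi⟩, true) (⟨2 * a + 1, hl⟩, false) 1 (Fr.b (⟨2 * a + 1, hl⟩, false)) =
      (H.ε⁻¹ * Fr.η (⟨2 * a, hi⟩, true) * Fr.η (⟨2 * a + 1, hl⟩, false) * H.σ 1)⁻¹ • Fr.b (⟨2 * a, hi⟩, false) := by
    rw [nX_apply_self' Fr h2 one_ne_zero]
    rfl
  have B3 : nX Fr (⟨2 * a, hi⟩, true) (⟨2 * a + 1, hl⟩, false) 1 (Fr.b (⟨2 * a + 1, hl⟩, true)) =
      (1 : F) • Fr.b (⟨2 * a, hi⟩, true) := nX_apply_neg Fr h2 one_ne_zero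
  have B4 : nX Fr (⟨2 * a, hi⟩, true) (⟨2 * a + 1, hl⟩, false) 1 (Fr.b (⟨2 * a, hi⟩, false)) =
      (-(H.ε⁻¹ * Fr.η (⟨2 * a, hi⟩, true) * Fr.η (⟨2 * a + 1, hl⟩, false) * H.σ 1)) • Fr.b (⟨2 * a + 1, hl⟩, false) :=
    (nX_apply_neg' Fr h2 one_ne_zero).trans (neg_smul _ _).symm
  obtain ⟨⟨i, hi'⟩, s⟩ := x
  unfold fp
  rw [WittWeyl.mul_apply']
  simp only at hx
  rcases hx with rfl | rfl <;> cases s
  · rw [B4, map_smul, A3, smul_smul]
    exact ⟨_, mul_ne_zero (neg_ne_zero.2 c2) one_ne_zero, rfl⟩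
  · rw [B1, map_smul, A2, smul_smul]
    exact ⟨_, mul_ne_zero (neg_ne_zero.2 one_ne_zero) (inv_ne_zero c1), rfl⟩
  · rw [B2, map_smul, A4, smul_smul]
    exact ⟨_, mul_ne_zero (inv_ne_zero c2) (neg_ne_zero.2 c1), rfl⟩
  · rw [B3, map_smul, A1, smul_smul]
    exact ⟨_, mul_ne_zero one_ne_zero (neg_ne_zero.2 one_ne_zero), rfl⟩

theorem fp_fix (a : Fin ((n + 2) / 2)) (x : Fin (n + 2) × Bool) (hx : ¬ (x.1.val = 2 * a ∨ x.1.val = 2 * a + 1)) :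
    fp Fr a (Fr.b x) = Fr.b x := by
  have ha := a.2
  have hi : 2 * a.val < n + 2 := by omega
  have hl : 2 * a.val + 1 < n + 2 := by omega
  push Not at hx
  have h1 : (((⟨2 * a, hi⟩, true) : Fin (n + 2) × Bool)).1 ≠ ((⟨2 * a + 1, hl⟩, true) : Fin (n + 2) × Bool).1 := by
    intro h; have := congrArg Fin.val h; simp at this
  have h2 : (((⟨2 * a, hi⟩, true) : Fin (n + 2) × Bool)).1 ≠ ((⟨2 * a + 1, hl⟩, false) : Fin (n + 2) × Bool).1 := h1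
  have h3 : x.1 ≠ (⟨2 * a, hi⟩ : Fin (n + 2)) := fun h => hx.1 (congrArg Fin.val h)
  have h4 : x.1 ≠ (⟨2 * a + 1, hl⟩ : Fin (n + 2)) := fun h => hx.2 (congrArg Fin.val h)
  unfold fp
  rw [WittWeyl.mul_apply', nX_apply_of_ne Fr h2 h3 h4, nX_apply_of_ne Fr h1 h3 h4]

include hV0 hσ hiso hX in
/-- **Levi data of type `D_{n+2}`.** -/
theorem ldD (hm : 1 ≤ m) (hmn' : m ≤ n + 2) (hmn : m ≤ n + 1) (l : Fin (n + 2) → Fˣ) (hl : td Fr l ∈ G0)
    (hlast : l (Fin.last (n + 1)) = 1)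
    (const : ∀ i j : Fin m, l (ci hmn' i) = l (ci hmn' j))
    (tor : ∀ δ : Fˣ, ∃ l' : Fin (n + 2) → Fˣ, td Fr l' ∈ G0 ∧ ∀ i : Fin m, l' (ci hmn' i) = dl δ i)
    (e1 : ∀ a b : Fin (n + 2) × Bool, a.1 ≠ b.1 → (ev l a : F) * ev l b = 1 → a.2 ≠ b.2 ∧ a.1.val < m ∧ b.1.val < m) :
    LD cs (isCartan n) (Tor Fr G0) (WittRGDD.rg Fr) (hhD Fr) {j : Fin (n + 2) | j.val + 1 < m} m (phW Fr hmn') (td Fr l) ∧
    ∃ n₀ ∈ G0, n₀ * td Fr l * n₀⁻¹ = (td Fr l)⁻¹ ∧ ∃ B ∈ RU F m, ∃ C ∈ RU F m,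
      n₀ * phW Fr hmn' B * n₀⁻¹ = phW Fr hmn' C := by
  classical
  have hfix : ∀ (x : Fin (n + 2) → ℤ) (a b : Fin (n + 2) × Bool), Ok a b → ee x = TypeC.wt a + TypeC.wt b →
      (∀ i j : Fin m, ee x ≠ TypeC.wt (ci hmn' i, true) + TypeC.wt (ci hmn' j, false)) →
      ∀ u ∈ WittRGDD.rg Fr x, td Fr l * u * (td Fr l)⁻¹ = u → u = 1 := by
    intro x a b hab e h1 u hu h2
    rw [WittRGDD.rg_eq Fr hab e] at hu
    have h : a.1 ≠ b.1 := hab
    obtain ⟨t, rfl⟩ := hu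
    rw [td_conj_X Fr hσ hiso hl h] at h2
    have h3 := X_inj Fr h h2
    by_cases ht : t = 0
    · rw [ht, Fr.X_zero]
    · exfalso
      obtain ⟨h4, h5, h6⟩ := e1 a b h ((mul_eq_right₀ ht).1 h3)
      obtain ⟨i, s⟩ := a
      obtain ⟨j, t'⟩ := b
      simp only at h4 h5 h6
      cases s <;> cases t'
      · exact h4 rfl
      · apply h1 ⟨j, h6⟩ ⟨i, h5⟩
        exact e.trans (add_comm _ _)
      · exact h1 ⟨i, h5⟩ ⟨j, h6⟩ e
      · exact h4 rfl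
  have hneg : ∀ (x : Fin (n + 2) → ℤ), x ∈ NotJ cs (isCartan n) {j : Fin (n + 2) | j.val + 1 < m} → ∀ i j : Fin m,
      ee (-x) ≠ TypeC.wt (ci hmn' i, true) + TypeC.wt (ci hmn' j, false) := by
    intro x hx i j e
    apply notD cs hmn' hmn hx j i
    have h1 : ee x = -ee (-x) := by rw [← ee_neg, _root_.neg_neg]
    have h2 : (ci hmn' i, false) = ng (ci hmn' i, true) := rfl
    have h3 : (ci hmn' j, true) = ng (ci hmn' j, false) := rfl
    rw [h1, e, h2, h3, wt_ng, wt_ng]; abel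
  -- the real element
  obtain ⟨n₀, hn₀⟩ : ∃ n₀ : V ≃ₗ[F] V, n₀ = ((List.finRange ((n + 2) / 2)).map fun a => fp Fr a).prod := ⟨_, rfl⟩
  have hfl := flip_list Fr (fun a => fp Fr a) (fun (a : Fin ((n + 2) / 2)) (i : Fin (n + 2)) =>
    i.val = 2 * a.val ∨ i.val = 2 * a.val + 1)
    (fun a b i h1 h2 => Fin.ext (by omega)) (fun a x hx => fp_flip Fr hσ a x hx) (fun a x hx => fp_fix Fr a x hx)
    (List.finRange ((n + 2) / 2)) (List.nodup_finRange _)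
  rw [← hn₀] at hfl
  have hc1 : ∀ x : Fin (n + 2) × Bool, x.1.val < n + 1 → ∃ u : F, u ≠ 0 ∧ n₀ (Fr.b x) = u • Fr.b (neg x) := by
    intro x hx
    refine (hfl x).1 ⟨⟨x.1.val / 2, by omega⟩, List.mem_finRange _, ?_⟩
    simp only
    omega
  have hfpG : ∀ a, fp Fr a ∈ G0 := fun a => mul_mem
    (mul_mem (mul_mem (hX _ _ _) (hX _ _ _)) (hX _ _ _)) (mul_mem (mul_mem (hX _ _ _) (hX _ _ _)) (hX _ _ _))
  have hn₀G : n₀ ∈ G0 := by
    rw [hn₀]; exact list_prod_mem G0 _ hfpG _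
  have hn₀V : ∀ w ∈ Fr.V0, n₀ w ∈ Fr.V0 := by
    rw [hn₀]
    refine V0_list Fr _ (fun a w hw => ?_) _
    have ha := a.2
    have h1 : (((⟨2 * a, by omega⟩, true) : Fin (n + 2) × Bool)).1 ≠ ((⟨2 * a + 1, by omega⟩, true) : Fin (n + 2) × Bool).1 := by
      intro h; have := congrArg Fin.val h; simp at this
    have h2 : (((⟨2 * a, by omega⟩, true) : Fin (n + 2) × Bool)).1 ≠ ((⟨2 * a + 1, by omega⟩, false) : Fin (n + 2) × Bool).1 := h1
    unfold fp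
    rw [WittWeyl.mul_apply', nX_apply_V0 Fr h2 hw, nX_apply_V0 Fr h1 hw]
    exact hw
  have hreal1 : n₀ * td Fr l * n₀⁻¹ = (td Fr l)⁻¹ := by
    refine inv_of Fr hV0 hσ hn₀V fun x => ?_
    by_cases hx : x.1.val < n + 1
    · obtain ⟨u, -, hu⟩ := hc1 x hx
      exact ⟨u, neg x, hu, ev_neg l x⟩
    · have hx' : x.1 = Fin.last (n + 1) := Fin.ext (by rw [Fin.val_last]; have := x.1.2; omega)
      have hev : ev l x = 1 := by
        unfold ev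
        rw [hx', hlast, inv_one, ite_self]
      by_cases h1 : ∃ a ∈ List.finRange ((n + 2) / 2), x.1.val = 2 * a.val ∨ x.1.val = 2 * a.val + 1
      · obtain ⟨u, -, hu⟩ := (hfl x).1 h1
        exact ⟨u, neg x, hu, ev_neg l x⟩
      · have h2 := (hfl x).2 h1
        exact ⟨1, x, by rw [h2, one_smul], by rw [hev, inv_one]⟩
  have hreal2 := real_of Fr hV0 hσ hm hmn' (hiso n₀ hn₀G) (fun i => by
    have hi := i.2
    obtain ⟨u, hu, h1⟩ := hc1 (ci hmn' i, true) (by show i.val < n + 1; omega)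
    obtain ⟨v, hv, h2⟩ := hc1 (ci hmn' i, false) (by show i.val < n + 1; omega)
    exact ⟨u, v, hu, hv, h1, h2⟩)
  refine ⟨ldW Fr hV0 hσ cs (isCartan n) (Tor Fr G0) (WittRGDD.rg Fr) (hhD Fr) _ hm hmn' ?_ ?_ l ?_ ?_ ?_ ?_
    ⟨hl, mono_td Fr l⟩ (fun t ht => hiso t ht.1) ?_ ?_ const ?_ ⟨n₀, hreal1, hreal2⟩, n₀, hn₀G, hreal1, hreal2⟩
  · rintro ⟨j, hj⟩
    have : j.val + 1 < m := hj
    omega
  · intro hJ
    by_contra h1
    exact hJ ⟨⟨0, by omega⟩, show 0 + 1 < m by omega⟩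
  · -- up
    intro r hr u hu
    obtain ⟨i, j, hij, e⟩ := combD' cs hm hmn' hmn hr
    have hne : (ci hmn' i, true).1 ≠ ((ci hmn' j, false) : Fin (n + 2) × Bool).1 := ci_ne hmn' hij.ne
    rw [WittRGDD.rg_eq Fr hne e] at hu
    obtain ⟨t, rfl⟩ := hu
    exact ⟨i, j, hij, t, rfl⟩
  · -- lo
    intro r hr u hu
    obtain ⟨i, j, hij, e⟩ := combD' cs hm hmn' hmn hr
    have hne : (ci hmn' j, true).1 ≠ ((ci hmn' i, false) : Fin (n + 2) × Bool).1 := ci_ne hmn' hij.ne'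
    have e' : ee (-r) = TypeC.wt (ci hmn' j, true) + TypeC.wt (ci hmn' i, false) := by
      have h2 : (ci hmn' i, false) = ng (ci hmn' i, true) := rfl
      have h3 : (ci hmn' j, true) = ng (ci hmn' j, false) := rfl
      rw [ee_neg, e, h2, h3, wt_ng, wt_ng]; abel
    rw [WittRGDD.rg_eq Fr hne e'] at hu
    obtain ⟨t, rfl⟩ := hu
    exact ⟨i, j, hij, t, rfl⟩
  · -- di
    intro j hj c hc
    have hj' : j.val + 1 < m := hj
    refine ⟨⟨j, by omega⟩, ⟨j.val + 1, hj'⟩, fun h => by have := Fin.mk.inj_iff.1 h; omega, Units.mk0 c hc, ?_⟩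
    rw [hhD_eq Fr j hc, nxD_of_lt (by omega)]
    rfl
  · -- ran
    intro i j hij t
    have hne : (ci hmn' i, true).1 ≠ ((ci hmn' j, false) : Fin (n + 2) × Bool).1 := ci_ne hmn' hij
    obtain ⟨z, hz, ez⟩ := rt_of_ok (cs := cs) (a := (ci hmn' i, true)) (b := (ci hmn' j, false)) hne
    refine X_le_LJ (x := z) ⟨hz, fun q hq => zeroD hmn' ez hmn q hq⟩ ?_
    rw [WittRGDD.rg_eq Fr hne ez]
    exact ⟨t, rfl⟩
  · intro r hr u hu
    obtain ⟨a, b, hab, e⟩ := TypeD.exists_of_isRoot cs hr.1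
    exact hfix r a b hab e (notD cs hmn' hmn hr) u hu
  · intro r hr u hu
    obtain ⟨a, b, hab, e⟩ := TypeD.exists_of_isRoot cs hr.1.neg
    exact hfix (-r) a b hab e (hneg r hr) u hu
  · intro δ
    obtain ⟨l', h1, h2⟩ := tor δ
    exact ⟨l', ⟨h1, mono_td Fr l'⟩, h2⟩

end Cfsg.Agent.H155.TG.Wf
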