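import Cfsg.Agent.H155.TG.WCoef

/-!
# Coroot elements and the rank one relation of type I (helper155)
-/

set_option autoImplicit false
set_option linter.unusedSectionVars false
set_option linter.unusedSimpArgs false

namespace Cfsg.Agent.H155.TG.Wf

open Cfsg.Agent.TitsThree Cfsg.Agent.TitsThree.Siegel Cfsg.Agent.TitsThree.WittFrame Cfsg.Agent.TitsThree.WittWeyl
open Cfsg.Agent.Nodes.WittRoot

variable {F : Type*} [Field F] {V : Type*} [AddCommGroup V] [Module F V] {H : HForm F V} {n : ℕ}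
  (Fr : Frame H (Fin n))

/-- `c` or its inverse -/
def sg1 (x : Fin n × Bool) (c : Fˣ) : Fˣ := if x.2 then c else c⁻¹

/-- the cocharacter of a signed index -/
def ch1 (x : Fin n × Bool) (c : Fˣ) : Fin n → Fˣ := Pi.mulSingle x.1 (sg1 x c)

/-- the coroot of a pair -/
def cr (x y : Fin n × Bool) (c : Fˣ) : Fin n → Fˣ := ch1 x c * ch1 y c

theorem sg1_mul (x : Fin n × Bool) (c d : Fˣ) : sg1 x (c * d) = sg1 x c * sg1 x d := by
  unfold sg1
  split_ifs
  · rfl
  · rw [mul_inv]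

theorem ch1_mul (x : Fin n × Bool) (c d : Fˣ) : ch1 x (c * d) = ch1 x c * ch1 x d := by
  unfold ch1
  rw [sg1_mul, Pi.mulSingle_mul]

theorem cr_mul (x y : Fin n × Bool) (c d : Fˣ) : cr x y (c * d) = cr x y c * cr x y d := by
  unfold cr
  rw [ch1_mul, ch1_mul]
  exact mul_mul_mul_comm _ _ _ _

theorem ev_mul (l l' : Fin n → Fˣ) (x : Fin n × Bool) : ev (l * l') x = ev l x * ev l' x := by
  unfold ev
  split_ifs
  · rfl
  · rw [Pi.mul_apply, mul_inv]

theorem ev_one (x : Fin n × Bool) : ev (1 : Fin n → Fˣ) x = 1 := by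
  unfold ev
  split_ifs
  · rfl
  · rw [Pi.one_apply, inv_one]

theorem ev_neg (l : Fin n → Fˣ) (x : Fin n × Bool) : ev l (neg x) = (ev l x)⁻¹ := by
  unfold ev neg
  cases x.2 <;> simp

theorem ev_inv (l : Fin n → Fˣ) (x : Fin n × Bool) : ev l⁻¹ x = (ev l x)⁻¹ := by
  unfold ev
  cases x.2 <;> simp

theorem ev_ch1 (x : Fin n × Bool) (c : Fˣ) (z : Fin n × Bool) :
    ev (ch1 x c) z = if z = x then c else if z = neg x then c⁻¹ else 1 := by
  obtain ⟨i, s⟩ := x
  obtain ⟨j, t⟩ := z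
  unfold ev ch1 sg1 neg
  by_cases hij : j = i
  · subst hij
    cases s <;> cases t <;> simp
  · cases s <;> cases t <;> simp [hij]

theorem ev_cr (x y : Fin n × Bool) (c : Fˣ) (z : Fin n × Bool) :
    ev (cr x y c) z = (if z = x then c else if z = neg x then c⁻¹ else 1) *
      (if z = y then c else if z = neg y then c⁻¹ else 1) := by
  unfold cr
  rw [ev_mul, ev_ch1, ev_ch1]

variable (hV0 : ∀ v, (∀ x, H.h v (Fr.b x) = 0) → v ∈ Fr.V0) (hσ : ∀ x, H.σ x = x)

/-- signed indices -/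
theorem four {x y z : Fin n × Bool} : z = x ∨ z = neg x ∨ z = y ∨ z = neg y ∨ (z.1 ≠ x.1 ∧ z.1 ≠ y.1) := by
  obtain ⟨i, s⟩ := x
  obtain ⟨j, t⟩ := y
  obtain ⟨k, u⟩ := z
  unfold neg
  by_cases h1 : k = i
  · subst h1
    cases s <;> cases u <;> simp
  · by_cases h2 : k = j
    · subst h2
      cases t <;> cases u <;> simp
    · simp [h1, h2]

theorem ne_of_fst {x y : Fin n × Bool} (h : x.1 ≠ y.1) : x ≠ y := fun h' => h (congrArg Prod.fst h')

include hV0 hσ

/-- **The coroot elements as products of root elements.** -/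
theorem nX_mul_nX {x y : Fin n × Bool} (hxy : x.1 ≠ y.1) (c : Fˣ) :
    nX Fr x y (c : F) * nX Fr x y (-1) = td Fr (cr x y c) := by
  have hx := Fr.η_ne x
  have hy := Fr.η_ne y
  have h3 := H.ε_ne
  have hc := c.ne_zero
  have n1 : (-1 : F) ≠ 0 := neg_ne_zero.2 one_ne_zero
  have nxx : x ≠ neg x := ne_neg_self x
  have nyy : y ≠ neg y := ne_neg_self y
  have nxy : x ≠ y := ne_of_fst hxy
  have nxy' : x ≠ neg y := ne_of_fst (y := neg y) hxy
  have nyx' : y ≠ neg x := ne_of_fst (y := neg x) hxy.symm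
  have nn : neg x ≠ neg y := ne_of_fst (x := neg x) (y := neg y) hxy
  apply ext_frame' Fr hV0
  · intro z
    rw [td_b, ev_cr, WittWeyl.mul_apply']
    rcases four (x := x) (y := y) (z := z) with rfl | rfl | rfl | rfl | ⟨h1, h2⟩
    · rw [nX_apply_self Fr hxy n1, map_neg, map_smul, nX_apply_neg Fr hxy hc, if_pos rfl, if_neg nxy, if_neg nxy']
      match_scalars
      field_simp
    · rw [nX_apply_neg' Fr hxy n1, map_neg, map_smul, nX_apply_self' Fr hxy hc, if_neg nxx.symm, if_pos rfl,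
        if_neg nyx'.symm, if_neg nn, hσ, hσ]
      simp only [Units.val_mul, Units.val_inv_eq_inv_val, Units.val_one]
      match_scalars
      field_simp
    · rw [nX_apply_self' Fr hxy n1, map_smul, nX_apply_neg' Fr hxy hc, if_neg nxy.symm, if_neg nyx', if_pos rfl,
        hσ, hσ]
      match_scalars
      field_simp
    · rw [nX_apply_neg Fr hxy n1, map_smul, nX_apply_self Fr hxy hc, if_neg nxy'.symm, if_neg nn.symm,
        if_neg nyy.symm, if_pos rfl]
      simp only [Units.val_mul, Units.val_inv_eq_inv_val, Units.val_one]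
      match_scalars
      field_simp
    · rw [nX_apply_of_ne Fr hxy h1 h2, nX_apply_of_ne Fr hxy h1 h2, if_neg (ne_of_fst h1),
        if_neg (ne_of_fst (y := neg x) h1), if_neg (ne_of_fst h2), if_neg (ne_of_fst (y := neg y) h2)]
      simp
  · intro w hw
    rw [WittWeyl.mul_apply', nX_apply_V0 Fr hxy hw, nX_apply_V0 Fr hxy hw, td_V0 Fr _ hw]

/-- **The rank one relation of type I.** -/
theorem rank1_X {x y : Fin n × Bool} (hxy : x.1 ≠ y.1) (a b : F) (c : Fˣ) (hc : (c : F) = 1 + b * a) :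
    Fr.X x y b * Fr.X (neg y) (neg x) a = 
      Fr.X (neg y) (neg x) (a / c) * td Fr (cr x y c) * Fr.X x y (b / c) := by
  have hx := Fr.η_ne x
  have hy := Fr.η_ne y
  have h3 := H.ε_ne
  have hc0 := c.ne_zero
  have nxx : x ≠ neg x := ne_neg_self x
  have nyy : y ≠ neg y := ne_neg_self y
  have nxy : x ≠ y := ne_of_fst hxy
  have nxy' : x ≠ neg y := ne_of_fst (y := neg y) hxy
  have nyx' : y ≠ neg x := ne_of_fst (y := neg x) hxy.symm
  have nn : neg x ≠ neg y := ne_of_fst (x := neg x) (y := neg y) hxy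
  have hyx : (neg y).1 ≠ (neg x).1 := hxy.symm
  have ex : Fr.η (neg x) = H.ε * (Fr.η x)⁻¹ := by rw [← Fr.η_neg x]; field_simp
  have ey : Fr.η (neg y) = H.ε * (Fr.η y)⁻¹ := by rw [← Fr.η_neg y]; field_simp
  -- the values
  have X1 : ∀ t, Fr.X x y t (Fr.b x) = Fr.b x := fun t => X_apply_of_ne Fr hxy nxx nxy' t
  have X2 : ∀ t, Fr.X x y t (Fr.b y) = Fr.b y := fun t => X_apply_of_ne Fr hxy nyx' nyy t
  have X3 : ∀ t, Fr.X x y t (Fr.b (neg y)) = Fr.b (neg y) + t • Fr.b x := fun t => X_apply_neg Fr hxy t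
  have X4 : ∀ t, Fr.X x y t (Fr.b (neg x)) = Fr.b (neg x) - (H.ε⁻¹ * Fr.η x * Fr.η y * t) • Fr.b y := fun t => by
    rw [X_apply_neg' Fr hxy, hσ]
  have Y1 : ∀ t, Fr.X (neg y) (neg x) t (Fr.b x) = Fr.b x + t • Fr.b (neg y) := fun t => by
    have := X_apply_neg Fr hyx t
    rwa [WittFrame.neg_neg] at this
  have Y2 : ∀ t, Fr.X (neg y) (neg x) t (Fr.b y) = Fr.b y - (H.ε * (Fr.η x)⁻¹ * (Fr.η y)⁻¹ * t) • Fr.b (neg x) := fun t => by
    have := X_apply_neg' Fr hyx t
    rw [WittFrame.neg_neg, hσ, ex, ey] at this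
    rw [this]
    congr 2
    field_simp
  have Y3 : ∀ t, Fr.X (neg y) (neg x) t (Fr.b (neg y)) = Fr.b (neg y) := fun t => by
    refine X_apply_of_ne Fr hyx ?_ ?_ t
    · rw [WittFrame.neg_neg]; exact nyy.symm
    · rw [WittFrame.neg_neg]; exact nxy'.symm
  have Y4 : ∀ t, Fr.X (neg y) (neg x) t (Fr.b (neg x)) = Fr.b (neg x) := fun t => by
    refine X_apply_of_ne Fr hyx ?_ ?_ t
    · rw [WittFrame.neg_neg]; exact nyx'.symm
    · rw [WittFrame.neg_neg]; exact nxx.symm
  have T1 : td Fr (cr x y c) (Fr.b x) = (c : F) • Fr.b x := by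
    rw [td_b, ev_cr, if_pos rfl, if_neg nxy, if_neg nxy', mul_one]
  have T2 : td Fr (cr x y c) (Fr.b y) = (c : F) • Fr.b y := by
    rw [td_b, ev_cr, if_neg nxy.symm, if_neg nyx', if_pos rfl, one_mul]
  have T3 : td Fr (cr x y c) (Fr.b (neg y)) = (c : F)⁻¹ • Fr.b (neg y) := by
    rw [td_b, ev_cr, if_neg nxy'.symm, if_neg nn.symm, if_neg nyy.symm, if_pos rfl, one_mul, Units.val_inv_eq_inv_val]
  have T4 : td Fr (cr x y c) (Fr.b (neg x)) = (c : F)⁻¹ • Fr.b (neg x) := by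
    rw [td_b, ev_cr, if_neg nxx.symm, if_pos rfl, if_neg nyx'.symm, if_neg nn, mul_one, Units.val_inv_eq_inv_val]
  apply ext_frame' Fr hV0
  · intro z
    rw [WittWeyl.mul_apply', WittWeyl.mul_apply', WittWeyl.mul_apply']
    rcases four (x := x) (y := y) (z := z) with rfl | rfl | rfl | rfl | ⟨h1, h2⟩
    · simp only [X1, X2, X3, X4, Y1, Y2, Y3, Y4, T1, T2, T3, T4, map_add, map_sub, map_smul]
      match_scalars <;> field_simp <;> (try rw [hc]) <;> ring
    · simp only [X1, X2, X3, X4, Y1, Y2, Y3, Y4, T1, T2, T3, T4, map_add, map_sub, map_smul]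
      match_scalars <;> field_simp <;> (try rw [hc]) <;> ring
    · simp only [X1, X2, X3, X4, Y1, Y2, Y3, Y4, T1, T2, T3, T4, map_add, map_sub, map_smul]
      match_scalars <;> field_simp <;> (try rw [hc]) <;> ring
    · simp only [X1, X2, X3, X4, Y1, Y2, Y3, Y4, T1, T2, T3, T4, map_add, map_sub, map_smul]
      match_scalars <;> field_simp <;> (try rw [hc]) <;> ring
    · have e1 : ∀ t, Fr.X x y t (Fr.b z) = Fr.b z := fun t =>
        X_apply_of_ne Fr hxy (ne_of_fst (y := neg x) h1) (ne_of_fst (y := neg y) h2) t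
      have e2 : ∀ t, Fr.X (neg y) (neg x) t (Fr.b z) = Fr.b z := fun t =>
        X_apply_of_ne Fr hyx (by rw [WittFrame.neg_neg]; exact ne_of_fst h2)
          (by rw [WittFrame.neg_neg]; exact ne_of_fst h1) t
      have e3 : td Fr (cr x y c) (Fr.b z) = Fr.b z := by
        rw [td_b, ev_cr, if_neg (ne_of_fst h1), if_neg (ne_of_fst (y := neg x) h1), if_neg (ne_of_fst h2),
          if_neg (ne_of_fst (y := neg y) h2)]
        simp
      simp only [e1, e2, e3]
  · intro w hw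
    have e2 : ∀ t, Fr.X (neg y) (neg x) t w = w := fun t => X_apply_V0 Fr hyx hw t
    have e1 : ∀ t, Fr.X x y t w = w := fun t => X_apply_V0 Fr hxy hw t
    simp only [WittWeyl.mul_apply', e1, e2, td_V0 Fr _ hw]

end Cfsg.Agent.H155.TG.Wf
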