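import Cfsg.Agent.H155.TG.Trans
import Cfsg.Agent.H155.TG.ChevLD
import Cfsg.Agent.H155.TG.PSLd
import Cfsg.Agent.Nodes.WittAll

/-!
# The Siegel Levi subgroup of a Witt frame (helper155)

`th Fr : GL_n(F) →* GL(V)` acts on the `e_i` by `A` and on the `f_i` by the inverse transpose of `A`.
-/

set_option autoImplicit false
set_option linter.unusedSectionVars false
set_option linter.unusedSimpArgs false

namespace Cfsg.Agent.H155.TG.Wf

open Matrix
open Cfsg.Agent.TitsThree Cfsg.Agent.TitsThree.Siegel Cfsg.Agent.TitsThree.WittFrame Cfsg.Agent.TitsThree.WittWeyl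
open Cfsg.Agent.Nodes.WittRoot

variable {F : Type*} [Field F] {V : Type*} [AddCommGroup V] [Module F V] {H : HForm F V} {n : ℕ}
  (Fr : Frame H (Fin n))

/-- two automorphisms which agree on the frame and on `V0` are equal -/
theorem ext_frame (hV0 : ∀ v, (∀ x, H.h v (Fr.b x) = 0) → v ∈ Fr.V0) {g k : V →ₗ[F] V}
    (hb : ∀ x, g (Fr.b x) = k (Fr.b x)) (h0 : ∀ w ∈ Fr.V0, g w = k w) (v : V) : g v = k v := by
  set u : V := ∑ x, (H.h v (Fr.b (neg x)) * (Fr.η (neg x))⁻¹) • Fr.b x with hu
  have h1 : v - u ∈ Fr.V0 := by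
    apply hV0
    intro y
    rw [H.sub_left, sub_eq_zero]
    have h2 : H.h u (Fr.b y) = ∑ x, (H.h v (Fr.b (neg x)) * (Fr.η (neg x))⁻¹) * H.h (Fr.b x) (Fr.b y) := by
      rw [hu]
      have : ∀ (s : Finset (Fin n × Bool)) (f : Fin n × Bool → F), H.h (∑ x ∈ s, f x • Fr.b x) (Fr.b y) =
          ∑ x ∈ s, f x * H.h (Fr.b x) (Fr.b y) := by
        intro s f
        induction s using Finset.induction_on with
        | empty => simp [H.zero_left]
        | insert a s ha ih => rw [Finset.sum_insert ha, Finset.sum_insert ha, H.add_left, H.smul_left, ih]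
      exact this _ _
    rw [h2, Finset.sum_eq_single (neg y)]
    · rw [WittFrame.neg_neg, Fr.hb_neg_self]
      have := Fr.η_ne y
      field_simp
    · intro x _ hx
      rw [Fr.hb_ne, mul_zero]
      rintro rfl
      exact hx (WittFrame.neg_neg x).symm
    · intro h; exact absurd (Finset.mem_univ _) h
  have h2 : g u = k u := by
    rw [hu, map_sum, map_sum]
    exact Finset.sum_congr rfl fun x _ => by rw [map_smul, map_smul, hb]
  have h3 : v = (v - u) + u := by abel
  rw [h3, map_add, map_add, h0 _ h1, h2]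

theorem ext_frame' (hV0 : ∀ v, (∀ x, H.h v (Fr.b x) = 0) → v ∈ Fr.V0) {g k : V ≃ₗ[F] V}
    (hb : ∀ x, g (Fr.b x) = k (Fr.b x)) (h0 : ∀ w ∈ Fr.V0, g w = k w) : g = k := by
  ext v
  exact ext_frame Fr hV0 (g := (g : V →ₗ[F] V)) (k := (k : V →ₗ[F] V)) hb h0 v

/-- coordinates with respect to the `e_i` -/
def cp (v : V) (j : Fin n) : F := H.h v (Fr.b (j, false))

/-- coordinates with respect to the `f_i` -/
def cq (v : V) (j : Fin n) : F := H.ε⁻¹ * H.h v (Fr.b (j, true))

theorem cp_add (v w : V) : cp Fr (v + w) = cp Fr v + cp Fr w := by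
  funext j; exact H.add_left _ _ _

theorem cq_add (v w : V) : cq Fr (v + w) = cq Fr v + cq Fr w := by
  funext j
  show H.ε⁻¹ * _ = H.ε⁻¹ * _ + H.ε⁻¹ * _
  rw [H.add_left]; ring

theorem cp_smul (c : F) (v : V) : cp Fr (c • v) = c • cp Fr v := by
  funext j; exact H.smul_left _ _ _

theorem cq_smul (c : F) (v : V) : cq Fr (c • v) = c • cq Fr v := by
  funext j
  show H.ε⁻¹ * _ = c * (H.ε⁻¹ * _)
  rw [H.smul_left]; ring

theorem cp_sum {α : Type*} (s : Finset α) (f : α → V) : cp Fr (∑ i ∈ s, f i) = ∑ i ∈ s, cp Fr (f i) := by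
  classical
  induction s using Finset.induction_on with
  | empty =>
    rw [Finset.sum_empty, Finset.sum_empty]
    funext j; exact H.zero_left _
  | insert a s ha ih => rw [Finset.sum_insert ha, Finset.sum_insert ha, cp_add, ih]

theorem cq_sum {α : Type*} (s : Finset α) (f : α → V) : cq Fr (∑ i ∈ s, f i) = ∑ i ∈ s, cq Fr (f i) := by
  classical
  induction s using Finset.induction_on with
  | empty =>
    rw [Finset.sum_empty, Finset.sum_empty]
    funext j
    show H.ε⁻¹ * _ = 0
    rw [H.zero_left, mul_zero]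
  | insert a s ha ih => rw [Finset.sum_insert ha, Finset.sum_insert ha, cq_add, ih]

theorem cp_e (i : Fin n) : cp Fr (Fr.b (i, true)) = Pi.single i 1 := by
  funext j
  show H.h _ _ = _
  rw [Fr.hb, Pi.single_apply]
  by_cases h : i = j
  · subst h; simp
  · simp [h, Ne.symm h]

theorem cp_f (i : Fin n) : cp Fr (Fr.b (i, false)) = 0 := by
  funext j
  show H.h _ _ = _
  rw [Fr.hb]
  simp

theorem cq_e (i : Fin n) : cq Fr (Fr.b (i, true)) = 0 := by
  funext j
  show H.ε⁻¹ * H.h _ _ = _
  rw [Fr.hb]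
  simp

theorem cq_f (i : Fin n) : cq Fr (Fr.b (i, false)) = Pi.single i 1 := by
  funext j
  show H.ε⁻¹ * H.h _ _ = _
  have h3 := H.ε_ne
  rw [Fr.hb, Pi.single_apply]
  by_cases h : i = j
  · subst h; simp [h3]
  · simp [h, Ne.symm h]

theorem cp_V0 {w : V} (hw : w ∈ Fr.V0) : cp Fr w = 0 := by
  funext j; exact Fr.h0' _ hw

theorem cq_V0 {w : V} (hw : w ∈ Fr.V0) : cq Fr w = 0 := by
  funext j
  show H.ε⁻¹ * _ = 0
  rw [Fr.h0' _ hw, mul_zero]

/-- combinations of the `e_i` -/
def ce (a : Fin n → F) : V := ∑ i, a i • Fr.b (i, true)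

/-- combinations of the `f_i` -/
def cf (a : Fin n → F) : V := ∑ i, a i • Fr.b (i, false)

theorem ce_add (a b : Fin n → F) : ce Fr (a + b) = ce Fr a + ce Fr b := by
  simp only [ce, Pi.add_apply, add_smul, Finset.sum_add_distrib]

theorem cf_add (a b : Fin n → F) : cf Fr (a + b) = cf Fr a + cf Fr b := by
  simp only [cf, Pi.add_apply, add_smul, Finset.sum_add_distrib]

theorem ce_smul (c : F) (a : Fin n → F) : ce Fr (c • a) = c • ce Fr a := by
  simp only [ce, Pi.smul_apply, smul_eq_mul, mul_smul, Finset.smul_sum]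

theorem cf_smul (c : F) (a : Fin n → F) : cf Fr (c • a) = c • cf Fr a := by
  simp only [cf, Pi.smul_apply, smul_eq_mul, mul_smul, Finset.smul_sum]

theorem cp_ce (a : Fin n → F) : cp Fr (ce Fr a) = a := by
  rw [ce, cp_sum]
  funext j
  rw [Finset.sum_apply, Finset.sum_eq_single j]
  · rw [cp_smul, cp_e]; simp
  · intro i _ hi
    rw [cp_smul, cp_e]; simp [Pi.single_apply, Ne.symm hi]
  · intro h; exact absurd (Finset.mem_univ _) h

theorem cq_ce (a : Fin n → F) : cq Fr (ce Fr a) = 0 := by
  rw [ce, cq_sum]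
  refine Finset.sum_eq_zero fun i _ => ?_
  rw [cq_smul, cq_e, smul_zero]

theorem cp_cf (a : Fin n → F) : cp Fr (cf Fr a) = 0 := by
  rw [cf, cp_sum]
  refine Finset.sum_eq_zero fun i _ => ?_
  rw [cp_smul, cp_f, smul_zero]

theorem cq_cf (a : Fin n → F) : cq Fr (cf Fr a) = a := by
  rw [cf, cq_sum]
  funext j
  rw [Finset.sum_apply, Finset.sum_eq_single j]
  · rw [cq_smul, cq_f]; simp
  · intro i _ hi
    rw [cq_smul, cq_f]; simp [Pi.single_apply, Ne.symm hi]
  · intro h; exact absurd (Finset.mem_univ _) h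

theorem ce_single (i : Fin n) (c : F) : ce Fr (Pi.single i c) = c • Fr.b (i, true) := by
  rw [ce, Finset.sum_eq_single i]
  · simp
  · intro j _ hj; simp [hj]
  · intro h; exact absurd (Finset.mem_univ _) h

theorem cf_single (i : Fin n) (c : F) : cf Fr (Pi.single i c) = c • Fr.b (i, false) := by
  rw [cf, Finset.sum_eq_single i]
  · simp
  · intro j _ hj; simp [hj]
  · intro h; exact absurd (Finset.mem_univ _) h

/-- the endomorphism of a matrix -/
def th0 (A B : Matrix (Fin n) (Fin n) F) : Module.End F V where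
  toFun v := v + ce Fr ((A - 1) *ᵥ cp Fr v) + cf Fr ((B - 1) *ᵥ cq Fr v)
  map_add' v w := by
    rw [cp_add, cq_add, mulVec_add, mulVec_add, ce_add, cf_add]
    abel
  map_smul' c v := by
    rw [cp_smul, cq_smul, mulVec_smul, mulVec_smul, ce_smul, cf_smul]
    simp only [RingHom.id_apply, smul_add]

theorem th0_apply (A B : Matrix (Fin n) (Fin n) F) (v : V) :
    th0 Fr A B v = v + ce Fr ((A - 1) *ᵥ cp Fr v) + cf Fr ((B - 1) *ᵥ cq Fr v) := rfl

theorem th0_one : th0 Fr 1 1 = 1 := by
  ext v
  rw [th0_apply, sub_self, zero_mulVec, zero_mulVec]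
  show v + ce Fr 0 + cf Fr 0 = v
  simp [ce, cf]

theorem th0_mul (A B A' B' : Matrix (Fin n) (Fin n) F) : th0 Fr (A * A') (B * B') = th0 Fr A B * th0 Fr A' B' := by
  ext v
  show th0 Fr (A * A') (B * B') v = th0 Fr A B (th0 Fr A' B' v)
  have h1 : cp Fr (th0 Fr A' B' v) = A' *ᵥ cp Fr v := by
    rw [th0_apply, cp_add, cp_add, cp_ce, cp_cf, add_zero, sub_mulVec, one_mulVec]
    abel
  have h2 : cq Fr (th0 Fr A' B' v) = B' *ᵥ cq Fr v := by
    rw [th0_apply, cq_add, cq_add, cq_ce, cq_cf, add_zero, sub_mulVec, one_mulVec]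
    abel
  rw [th0_apply Fr A B, h1, h2, mulVec_mulVec, mulVec_mulVec, th0_apply, th0_apply]
  have e1 : (A * A' - 1) *ᵥ cp Fr v = (A' - 1) *ᵥ cp Fr v + ((A - 1) * A') *ᵥ cp Fr v := by
    rw [← add_mulVec]; congr 1; noncomm_ring
  have e2 : (B * B' - 1) *ᵥ cq Fr v = (B' - 1) *ᵥ cq Fr v + ((B - 1) * B') *ᵥ cq Fr v := by
    rw [← add_mulVec]; congr 1; noncomm_ring
  rw [e1, e2, ce_add, cf_add]
  abel

/-- the homomorphism to the endomorphisms -/
def th1 : GL (Fin n) F →* Module.End F V where
  toFun A := th0 Fr A.1 (A⁻¹).1ᵀ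
  map_one' := by
    rw [inv_one]
    show th0 Fr 1 (1ᵀ) = 1
    rw [transpose_one, th0_one]
  map_mul' A B := by
    rw [← th0_mul, _root_.mul_inv_rev, ← transpose_mul]
    rfl

/-- **The Siegel Levi subgroup.** -/
def th : GL (Fin n) F →* (V ≃ₗ[F] V) :=
  (LinearMap.GeneralLinearGroup.generalLinearEquiv F V).toMonoidHom.comp (th1 Fr).toHomUnits

theorem th_apply (A : GL (Fin n) F) (v : V) :
    th Fr A v = v + ce Fr ((A.1 - 1) *ᵥ cp Fr v) + cf Fr (((A⁻¹).1ᵀ - 1) *ᵥ cq Fr v) := rfl

theorem th_e (A : GL (Fin n) F) (k : Fin n) : th Fr A (Fr.b (k, true)) = ce Fr fun i => A.1 i k := by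
  rw [th_apply, cp_e, cq_e, mulVec_zero, mulVec_single_one]
  have e1 : cf Fr (0 : Fin n → F) = 0 := by simp [cf]
  have e2 : Fr.b (k, true) = ce Fr (Pi.single k 1) := by rw [ce_single, one_smul]
  rw [e1, add_zero, e2, ← ce_add]
  congr 1
  funext i
  simp [Matrix.one_apply, Pi.single_apply]

theorem th_f (A : GL (Fin n) F) (k : Fin n) : th Fr A (Fr.b (k, false)) = cf Fr fun i => (A⁻¹).1 k i := by
  rw [th_apply, cp_f, cq_f, mulVec_zero, mulVec_single_one]
  have e1 : ce Fr (0 : Fin n → F) = 0 := by simp [ce]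
  have e2 : Fr.b (k, false) = cf Fr (Pi.single k 1) := by rw [cf_single, one_smul]
  rw [e1, add_zero, e2, ← cf_add]
  congr 1
  funext i
  simp only [Pi.add_apply, Pi.single_apply, col_apply, Matrix.sub_apply, transpose_apply, Matrix.one_apply]
  ring

theorem th_V0 (A : GL (Fin n) F) {w : V} (hw : w ∈ Fr.V0) : th Fr A w = w := by
  rw [th_apply, cp_V0 Fr hw, cq_V0 Fr hw, mulVec_zero, mulVec_zero]
  simp [ce, cf]

/-! ### diagonal elements -/

/-- diagonal matrices -/
def dg (l : Fin n → Fˣ) : GL (Fin n) F where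
  val := diagonal fun i => (l i : F)
  inv := diagonal fun i => ((l i)⁻¹ : Fˣ)
  val_inv := by
    rw [diagonal_mul_diagonal, ← diagonal_one]
    congr 1
    funext i
    exact (l i).mul_inv
  inv_val := by
    rw [diagonal_mul_diagonal, ← diagonal_one]
    congr 1
    funext i
    exact (l i).inv_mul

theorem dg_mul (l l' : Fin n → Fˣ) : dg (l * l') = dg l * dg l' := by
  apply Units.ext
  show diagonal _ = diagonal _ * diagonal _
  rw [diagonal_mul_diagonal]
  rfl

/-- the torus element with eigenvalues `l i` on `e_i`, `(l i)⁻¹` on `f_i` -/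
def td (l : Fin n → Fˣ) : V ≃ₗ[F] V := th Fr (dg l)

/-- the eigenvalue at a signed index -/
def ev (l : Fin n → Fˣ) (x : Fin n × Bool) : Fˣ := if x.2 then l x.1 else (l x.1)⁻¹

theorem td_mul (l l' : Fin n → Fˣ) : td Fr (l * l') = td Fr l * td Fr l' := by
  unfold td; rw [dg_mul, map_mul]

theorem td_one : td Fr (1 : Fin n → Fˣ) = 1 := by
  have h := td_mul Fr (1 : Fin n → Fˣ) 1
  rw [mul_one] at h
  exact (mul_eq_left.mp h.symm)

theorem td_inv (l : Fin n → Fˣ) : td Fr l⁻¹ = (td Fr l)⁻¹ := by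
  rw [eq_inv_iff_mul_eq_one, ← td_mul, inv_mul_cancel, td_one]

theorem td_b (l : Fin n → Fˣ) (x : Fin n × Bool) : td Fr l (Fr.b x) = (ev l x : F) • Fr.b x := by
  obtain ⟨k, s⟩ := x
  cases s
  · have e : (fun i => ((dg l)⁻¹).1 k i) = Pi.single k ((l k)⁻¹ : Fˣ).1 := by
      funext i
      show diagonal (fun i => (((l i)⁻¹ : Fˣ) : F)) k i = _
      rw [diagonal_apply, Pi.single_apply]
      split_ifs with h1 h2 h2
      · rfl
      · exact absurd h1.symm h2
      · exact absurd h2.symm h1
      · rfl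
    unfold td
    rw [th_f, e, cf_single]
    rfl
  · have e : (fun i => (dg l).1 i k) = Pi.single k (l k).1 := by
      funext i
      show diagonal (fun i => ((l i : Fˣ) : F)) i k = _
      rw [diagonal_apply, Pi.single_apply]
      split_ifs with h1
      · rw [h1]
      · rfl
    unfold td
    rw [th_e, e, ce_single]
    rfl

theorem td_V0 (l : Fin n → Fˣ) {w : V} (hw : w ∈ Fr.V0) : td Fr l w = w := th_V0 Fr _ hw

theorem mono_td (l : Fin n → Fˣ) : Mono Fr (td Fr l) id := fun x => ⟨ev l x, (ev l x).ne_zero, td_b Fr l x⟩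

theorem td_conj_th (l : Fin n → Fˣ) (A : GL (Fin n) F) :
    td Fr l * th Fr A * (td Fr l)⁻¹ = th Fr (dg l * A * (dg l)⁻¹) := by
  unfold td
  rw [map_mul, map_mul, map_inv]

/-! ### transvections -/

/-- transvections -/
def tn {i j : Fin n} (hij : i ≠ j) (t : F) : GL (Fin n) F :=
  (SpecialLinearGroup.transvection hij t : SpecialLinearGroup (Fin n) F)

variable (hV0 : ∀ v, (∀ x, H.h v (Fr.b x) = 0) → v ∈ Fr.V0) (hσ : ∀ x, H.σ x = x)

include hV0 hσ in
theorem th_tn {i j : Fin n} (hij : i ≠ j) (t : F) : th Fr (tn hij t) = Fr.X (i, true) (j, false) t := by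
  have h3 := H.ε_ne
  have hne : ((i, true) : Fin n × Bool).1 ≠ ((j, false) : Fin n × Bool).1 := hij
  apply ext_frame' Fr hV0
  · rintro ⟨k, s⟩
    cases s
    · have e : (fun l => ((tn hij t)⁻¹ : GL (Fin n) F).1 k l) = Pi.single k 1 + Pi.single j (if k = i then -t else 0) := by
        have e0 : ((tn hij t)⁻¹ : GL (Fin n) F).1 = transvection i j (-t) := by
          have e2 : (tn hij t)⁻¹ = tn hij (-t) := by
            unfold tn
            rw [← map_inv]
            congr 1
            rw [inv_eq_iff_mul_eq_one]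
            apply Subtype.ext
            show transvection i j t * transvection i j (-t) = 1
            rw [transvection_mul_transvection_same _ _ hij, add_neg_cancel, transvection_zero]
          rw [e2]
          rfl
        funext l
        rw [e0, Pi.add_apply, Pi.single_apply, Pi.single_apply]
        unfold transvection
        rw [Matrix.add_apply, Matrix.one_apply, single_apply]
        by_cases h1 : k = i
        · subst h1
          simp [eq_comm]
        · simp [h1, Ne.symm h1, eq_comm]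
      rw [th_f, e, cf_add, cf_single, cf_single, one_smul]
      by_cases h1 : k = i
      · subst h1
        have h4 := X_apply_neg' Fr hne t
        have e1 : neg ((k, true) : Fin n × Bool) = (k, false) := rfl
        rw [e1, hσ] at h4
        rw [h4, if_pos rfl, Frame.η, Frame.η]
        simp only [if_true, Bool.false_eq_true, if_false]
        rw [inv_mul_cancel₀ h3, mul_one, one_mul, neg_smul, sub_eq_add_neg]
      · rw [if_neg h1, zero_smul, add_zero, X_apply_of_ne Fr hne]
        · intro h; exact h1 (congrArg Prod.fst h)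
        · intro h; have := congrArg Prod.snd h; simp at this
    · have e : (fun l => (tn hij t).1 l k) = Pi.single k 1 + Pi.single i (if k = j then t else 0) := by
        funext l
        show transvection i j t l k = _
        rw [Pi.add_apply, Pi.single_apply, Pi.single_apply]
        unfold transvection
        rw [Matrix.add_apply, Matrix.one_apply, single_apply]
        by_cases h1 : k = j
        · subst h1
          simp [eq_comm]
        · simp [h1, Ne.symm h1, eq_comm]
      rw [th_e, e, ce_add, ce_single, ce_single, one_smul]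
      by_cases h1 : k = j
      · subst h1
        have h4 := X_apply_neg Fr hne t
        have e1 : neg ((k, false) : Fin n × Bool) = (k, true) := rfl
        rw [e1] at h4
        rw [h4, if_pos rfl]
      · rw [if_neg h1, zero_smul, add_zero, X_apply_of_ne Fr hne]
        · intro h; have := congrArg Prod.snd h; simp at this
        · intro h; exact h1 (congrArg Prod.fst h)
  · intro w hw
    rw [th_V0 Fr _ hw, X_apply_V0 Fr hne hw]

include hσ in
/-- conjugation of the root elements of type I by an isometry preserving the lines -/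
theorem conj_X_td {g : V ≃ₗ[F] V} (hg : H.IsIso g) {x y : Fin n × Bool} (hxy : x.1 ≠ y.1) {l m : F}
    (hx : g (Fr.b x) = l • Fr.b x) (hy : g (Fr.b y) = m • Fr.b y) (t : F) :
    g * Fr.X x y t * g⁻¹ = Fr.X x y (l * m * t) := by
  rw [conj_X Fr hg hxy hxy hx hy, hσ]
  congr 1
  have := Fr.η_ne y
  field_simp

/-- the parameter of a root element of type I is determined -/
theorem X_inj {x y : Fin n × Bool} (hxy : x.1 ≠ y.1) {s t : F} (h : Fr.X x y s = Fr.X x y t) : s = t := by
  have h1 := X_apply_neg Fr hxy s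
  rw [h, X_apply_neg Fr hxy t] at h1
  have h2 := add_left_cancel h1
  have h3 : (t - s) • Fr.b x = 0 := by rw [sub_smul, h2, sub_self]
  have h4 := (smul_eq_zero.1 h3).resolve_right (Cfsg.Agent.Nodes.WittRGD.b_ne_zero x)
  exact (sub_eq_zero.1 h4).symm

end Cfsg.Agent.H155.TG.Wf
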